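import Cfsg.Agent.PushPair.Module
import Cfsg.Agent.Classical.Misc.SLTwoTori

/-!
# The alternating groups isomorphic to a linear group of degree two in characteristic two
-/

set_option autoImplicit false
set_option linter.style.haveILetI false

namespace Cfsg.Lib.PushPair

open Subgroup
open Cfsg.Lib.LTP (SL2 up lo upGroup)

variable {F : Type*} [Field F] [CharP F 2] [Finite F]

theorem cent_invol_comm {A B C : SL2 F} (h2 : A * A = 1) (h1 : A ≠ 1) (hB : B * A = A * B)
    (hC : C * A = A * C) : B * C = C * B := by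
  obtain ⟨g, hg⟩ := exists_conj_up (zpowers A) (IsPGroup.of_card (n := 1) (by
    rw [Nat.card_zpowers, pow_one]; exact orderOf_eq_prime (by rwa [pow_two]) h1))
  obtain ⟨x, hx⟩ := LTP.mem_upGroup.1 (hg A (mem_zpowers A))
  have hx0 : x ≠ 0 := fun e => h1 (by
    rw [e, LTP.up_zero] at hx
    have := congrArg (fun y => g * y * g⁻¹) hx
    simpa [mul_assoc] using this)
  have key : ∀ D : SL2 F, D * A = A * D → ∃ y, g⁻¹ * D * g = up y := by
    intro D hD
    set D' := g⁻¹ * D * g with hD'
    have h : D' * up x = up x * D' := by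
      rw [← hx, hD', show g⁻¹ * D * g * (g⁻¹ * A * g) = g⁻¹ * (D * A) * g by group, hD]
      group
    have e1 := congrArg (fun M : SL2 F => M.1 0 0) h
    have e2 := congrArg (fun M : SL2 F => M.1 0 1) h
    simp only [LTP.mul_00, LTP.mul_01, LTP.up_00, LTP.up_01, LTP.up_10, LTP.up_11] at e1 e2
    have h10 : D'.1 1 0 = 0 := by
      have : x * D'.1 1 0 = 0 := by linear_combination -e1
      exact (mul_eq_zero.1 this).resolve_left hx0
    have h11 : D'.1 1 1 = D'.1 0 0 := by
      have : x * (D'.1 0 0 - D'.1 1 1) = 0 := by linear_combination e2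
      exact (sub_eq_zero.1 ((mul_eq_zero.1 this).resolve_left hx0)).symm
    have hd := Cfsg.Lib.LTP.det2 D'
    rw [h10, h11, mul_zero, sub_zero] at hd
    have h00 : D'.1 0 0 = 1 := by
      have h : (D'.1 0 0 + 1) * (D'.1 0 0 + 1) = 0 := by
        linear_combination hd + (D'.1 0 0 + 1) * CharTwo.two_eq_zero (R := F)
      exact CharTwo.add_eq_zero.1 (mul_self_eq_zero.1 h)
    exact LTP.mem_upGroup.1 ⟨h00, h10, h11.trans h00⟩
  obtain ⟨y, hy⟩ := key B hB
  obtain ⟨z, hz⟩ := key C hC
  have h : g⁻¹ * (B * C) * g = g⁻¹ * (C * B) * g := by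
    rw [show g⁻¹ * (B * C) * g = g⁻¹ * B * g * (g⁻¹ * C * g) by group,
      show g⁻¹ * (C * B) * g = g⁻¹ * C * g * (g⁻¹ * B * g) by group, hy, hz, ← LTP.up_add, ← LTP.up_add, add_comm]
  exact mul_left_cancel (mul_right_cancel h)

theorem seven_witness : ∃ t a b : Equiv.Perm (Fin 7), Equiv.Perm.sign t = 1 ∧ Equiv.Perm.sign a = 1 ∧
    Equiv.Perm.sign b = 1 ∧ t * t = 1 ∧ t ≠ 1 ∧ a * t = t * a ∧ b * t = t * b ∧ a * b ≠ b * a :=
  ⟨Equiv.swap 0 1 * Equiv.swap 2 3, Equiv.swap 0 2 * Equiv.swap 1 3, Equiv.swap 0 1 * Equiv.swap 4 5, by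
    decide +kernel⟩

/-- the degree of an alternating group isomorphic to such a linear group -/
theorem alt_degree (h4 : 4 ≤ Nat.card F) (m : ℕ) (θ : SL2 F ≃* ↥(alternatingGroup (Fin (2 * m + 1)))) :
    m = 2 := by
  haveI := sl2_simple (F := F) h4
  have hnc : ¬ ∀ a b : SL2 F, a * b = b * a := fun h => by
    have := sl2_center (A := up (1 : F)) rfl (h _ _)
    exact one_ne_zero (LTP.up_eq_one.1 this)
  rcases Nat.lt_or_ge m 2 with hm | hm
  · exfalso
    refine hnc fun a b => θ.injective ?_
    rw [map_mul, map_mul]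
    generalize θ a = x
    generalize θ b = y
    interval_cases m <;> revert x y <;> decide +kernel
  · by_contra hne
    obtain ⟨t, a, b, st, sa, sb, ht2, ht1, hat, hbt, hab⟩ := seven_witness
    let f : Fin 7 ≃ {i : Fin (2 * m + 1) // (i : ℕ) < 7} :=
      { toFun := fun i => ⟨⟨i, by omega⟩, i.2⟩
        invFun := fun i => ⟨i.1, i.2⟩
        left_inv := fun _ => rfl
        right_inv := fun _ => rfl }
    set φ := Equiv.Perm.extendDomainHom f
    have hφ : Function.Injective φ := Equiv.Perm.extendDomainHom_injective f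
    have hs : ∀ σ, Equiv.Perm.sign σ = 1 → φ σ ∈ alternatingGroup (Fin (2 * m + 1)) := fun σ h => by
      rw [Equiv.Perm.mem_alternatingGroup]
      exact (Equiv.Perm.sign_extendDomain σ f).trans h
    let T' : ↥(alternatingGroup (Fin (2 * m + 1))) := ⟨φ t, hs t st⟩
    let A' : ↥(alternatingGroup (Fin (2 * m + 1))) := ⟨φ a, hs a sa⟩
    let B' : ↥(alternatingGroup (Fin (2 * m + 1))) := ⟨φ b, hs b sb⟩
    have h := cent_invol_comm (A := θ.symm T') (B := θ.symm A') (C := θ.symm B')
      (by rw [← map_mul, show T' * T' = 1 from Subtype.ext (by show φ t * φ t = 1; rw [← map_mul, ht2, map_one]),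
        map_one])
      (fun e => ht1 (hφ (by
        rw [map_one]
        exact congrArg Subtype.val (show T' = 1 from θ.symm.injective (e.trans (map_one _).symm)))))
      (by rw [← map_mul, ← map_mul, show A' * T' = T' * A' from Subtype.ext (by
        show φ a * φ t = φ t * φ a; rw [← map_mul, hat, map_mul])])
      (by rw [← map_mul, ← map_mul, show B' * T' = T' * B' from Subtype.ext (by
        show φ b * φ t = φ t * φ b; rw [← map_mul, hbt, map_mul])])
    refine hab (hφ ?_)
    rw [map_mul, map_mul]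
    rw [← map_mul, ← map_mul] at h
    exact congrArg Subtype.val (θ.symm.injective h)

end Cfsg.Lib.PushPair
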