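import Cfsg.Prelude.Def_Quasithin
import Cfsg.Agent.JComp.Unique
import Cfsg.Agent.Transfer.Basic
import Cfsg.Agent.LThreePlane.BlkMore

/-!
# The standing hypotheses of pushing up an odd residual of rank one, and their first consequences
-/

set_option autoImplicit false
set_option linter.style.haveILetI false

namespace Cfsg.Lib.PushPair

open Subgroup
open Cfsg.Lib.LTP (cjg)

variable {G : Type*} [Group G]

/-- the subgroup generated by the elements of odd order -/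
abbrev Kr (H : Subgroup G) : Subgroup G := Cfsg.oddGenerated H
/-- its normaliser -/
abbrev Mr (H : Subgroup G) : Subgroup G := normalizer (Cfsg.oddGenerated H : Set G)
/-- the core of `H` -/
abbrev Qr (H : Subgroup G) : Subgroup G := Cfsg.pCoreOf 2 H
/-- the core of the odd residual -/
abbrev Wr (H : Subgroup G) : Subgroup G := Cfsg.pCoreOf 2 (Cfsg.oddGenerated H)

/-- `s` centralises the odd residual modulo its core -/
def CentMod (H : Subgroup G) (s : G) : Prop :=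
  ∀ k ∈ Kr H, s * k * s⁻¹ * k⁻¹ ∈ Wr H

/-- the standing hypotheses -/
structure Setup (H T : Subgroup G) : Prop where
  char2 : Cfsg.IsCharacteristicTwoType G
  syl : ∃ S : Sylow 2 ↥H, (S : Subgroup ↥H).map H.subtype = T
  hmax : ∀ S : Subgroup G, IsPGroup 2 ↥S → Qr H ≤ S → S ≤ Mr H → (∀ s ∈ S, CentMod H s) → S = Qr H
  huniq : Cfsg.maxTwoLocalsContaining H = {Mr H}

theorem conj_mem_iff {A : Subgroup G} {g : G} (hg : g ∈ normalizer (A : Set G)) {x : G} :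
    g * x * g⁻¹ ∈ A ↔ x ∈ A := (mem_normalizer_iff.1 hg x).symm

theorem mem_norm_of_conj [Finite G] {A : Subgroup G} {g : G} (h : ∀ a ∈ A, g * a * g⁻¹ ∈ A) :
    g ∈ normalizer (A : Set G) :=
  Cfsg.Lib.LTP.cjg_eq_iff.1 (eq_of_le_of_card_ge (by rintro _ ⟨a, ha, rfl⟩; exact h a ha)
    (Cfsg.Lib.LTP.card_cjg g A).ge)

theorem sub_norm_of_normal [Finite G] {H : Subgroup G} (C : Subgroup ↥H) [hC : C.Normal] :
    H ≤ normalizer ((C.map H.subtype : Subgroup G) : Set G) := fun h hh => mem_norm_of_conj fun _ ha => by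
  obtain ⟨c, hc, rfl⟩ := ha
  exact ⟨_, hC.conj_mem c hc ⟨h, hh⟩, rfl⟩

theorem Kr_le (H : Subgroup G) : Kr H ≤ H := (closure_le _).2 fun _ hx => hx.1

theorem odd_mem_Kr {H : Subgroup G} {x : G} (hx : x ∈ H) (ho : Odd (orderOf x)) : x ∈ Kr H :=
  subset_closure ⟨hx, ho⟩

theorem Kr_Kr (H : Subgroup G) : Cfsg.oddGenerated (Kr H) = Kr H :=
  le_antisymm (Kr_le _) (closure_mono fun _ hx => ⟨odd_mem_Kr hx.1 hx.2, hx.2⟩)

variable [Finite G]

theorem le_Mr (H : Subgroup G) : H ≤ Mr H := fun h hh => mem_norm_of_conj fun a ha => by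
  have : (MulAut.conj h).toMonoidHom a ∈ (Kr H).map (MulAut.conj h).toMonoidHom := mem_map_of_mem _ ha
  rw [Kr, Cfsg.oddGenerated, MonoidHom.map_closure] at this
  refine (closure_le _).2 ?_ this
  rintro _ ⟨y, hy, rfl⟩
  exact subset_closure ⟨mul_mem (mul_mem hh hy.1) (inv_mem hh), by
    rw [show (MulAut.conj h).toMonoidHom y = MulAut.conj h y from rfl, MulEquiv.orderOf_eq]; exact hy.2⟩

theorem Mr_norm_Wr (H : Subgroup G) : Mr H ≤ normalizer (Wr H : Set G) :=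
  Cfsg.Lib.JComp.normalizer_le_pCoreOf 2 _

theorem H_norm_Qr (H : Subgroup G) : H ≤ normalizer (Qr H : Set G) :=
  le_normalizer.trans (Cfsg.Lib.JComp.normalizer_le_pCoreOf 2 H)

theorem Qr_two (H : Subgroup G) : IsPGroup 2 ↥(Qr H) := Cfsg.Lib.JComp.isPGroup_pCoreOf H

theorem Wr_two (H : Subgroup G) : IsPGroup 2 ↥(Wr H) := Cfsg.Lib.JComp.isPGroup_pCoreOf _

theorem Qr_le (H : Subgroup G) : Qr H ≤ H := Cfsg.Lib.JComp.pCoreOf_le H

theorem Wr_le_Kr (H : Subgroup G) : Wr H ≤ Kr H := Cfsg.Lib.JComp.pCoreOf_le _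

theorem Wr_le_Qr (H : Subgroup G) : Wr H ≤ Qr H :=
  Cfsg.Lib.JComp.le_pCoreOf (Wr_two H) ((Wr_le_Kr H).trans (Kr_le H)) ((le_Mr H).trans (Mr_norm_Wr H))

theorem Kr_inf_Qr (H : Subgroup G) : Kr H ⊓ Qr H = Wr H := by
  refine le_antisymm (Cfsg.Lib.JComp.le_pCoreOf ((Qr_two H).to_le inf_le_right) inf_le_left ?_)
    (le_inf (Wr_le_Kr H) (Wr_le_Qr H))
  intro k hk
  exact mem_norm_of_conj fun a ha =>
    mem_inf.2 ⟨mul_mem (mul_mem hk ha.1) (inv_mem hk), (conj_mem_iff (H_norm_Qr H (Kr_le H hk))).2 ha.2⟩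

theorem CentMod.mul {H : Subgroup G} {a b : G} (ha : CentMod H a) (hM : a ∈ Mr H) (hb : CentMod H b) :
    CentMod H (a * b) := fun k hk => by
  rw [show a * b * k * (a * b)⁻¹ * k⁻¹ = a * (b * k * b⁻¹ * k⁻¹) * a⁻¹ * (a * k * a⁻¹ * k⁻¹) by group]
  exact mul_mem ((conj_mem_iff (Mr_norm_Wr H hM)).2 (hb k hk)) (ha k hk)

/-- the part of a subgroup of the normaliser centralising the odd residual modulo its core -/
def centPart (H : Subgroup G) : Subgroup G where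
  carrier := {s | s ∈ Mr H ∧ CentMod H s}
  one_mem' := ⟨one_mem _, fun k hk => by simp⟩
  mul_mem' := fun {a b} ha hb => ⟨mul_mem ha.1 hb.1, ha.2.mul ha.1 hb.2⟩
  inv_mem' := fun {a} ha => ⟨inv_mem ha.1, fun k hk => by
    have h1 := ha.2 _ ((conj_mem_iff (inv_mem ha.1)).2 hk)
    rw [show a * (a⁻¹ * k * a⁻¹⁻¹) * a⁻¹ * (a⁻¹ * k * a⁻¹⁻¹)⁻¹ = k * a⁻¹ * k⁻¹ * a by group] at h1
    have h2 := (conj_mem_iff (inv_mem (Mr_norm_Wr H ha.1))).2 (inv_mem h1)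
    rw [show a⁻¹ * (k * a⁻¹ * k⁻¹ * a)⁻¹ * a⁻¹⁻¹ = a⁻¹ * a⁻¹ * k * a * k⁻¹ * a by group] at h2
    have h3 := (conj_mem_iff (Mr_norm_Wr H ha.1)).2 h2
    rw [show a * (a⁻¹ * a⁻¹ * k * a * k⁻¹ * a) * a⁻¹ = a⁻¹ * k * a * k⁻¹ by group] at h3
    simpa using h3⟩

theorem mem_centPart {H : Subgroup G} {s : G} : s ∈ centPart H ↔ s ∈ Mr H ∧ CentMod H s := Iff.rfl

theorem centPart_norm (H : Subgroup G) : Mr H ≤ normalizer (centPart H : Set G) := fun g hg =>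
  mem_norm_of_conj fun a ha => ⟨mul_mem (mul_mem hg ha.1) (inv_mem hg), fun k hk => by
    have h1 := ha.2 _ ((conj_mem_iff (inv_mem hg)).2 hk)
    rw [show a * (g⁻¹ * k * g⁻¹⁻¹) * a⁻¹ * (g⁻¹ * k * g⁻¹⁻¹)⁻¹ =
      g⁻¹ * (g * a * g⁻¹ * k * (g * a * g⁻¹)⁻¹ * k⁻¹) * g⁻¹⁻¹ by group] at h1
    exact (conj_mem_iff (inv_mem (Mr_norm_Wr H hg))).1 h1⟩

theorem Qr_le_centPart (H : Subgroup G) : Qr H ≤ centPart H := fun q hq => by
  refine ⟨le_Mr H (Qr_le H hq), fun k hk => ?_⟩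
  rw [← Kr_inf_Qr]
  refine mem_inf.2 ⟨mul_mem ((conj_mem_iff (le_Mr H (Qr_le H hq))).2 hk) (inv_mem hk), ?_⟩
  rw [show q * k * q⁻¹ * k⁻¹ = q * (k * q⁻¹ * k⁻¹) by group]
  exact mul_mem hq ((conj_mem_iff (H_norm_Qr H (Kr_le H hk))).2 (inv_mem hq))

namespace Setup

variable {H T : Subgroup G} (s : Setup H T)
include s

theorem T_le : T ≤ H := by
  obtain ⟨S, rfl⟩ := s.syl
  exact map_subtype_le _

theorem T_two : IsPGroup 2 ↥T := by
  obtain ⟨S, rfl⟩ := s.syl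
  exact S.isPGroup'.map _

theorem T_max {P : Subgroup G} (hP : IsPGroup 2 ↥P) (hPH : P ≤ H) (hTP : T ≤ P) : P = T := by
  obtain ⟨S, rfl⟩ := s.syl
  have h := S.3 (hP.comap_of_injective H.subtype Subtype.val_injective)
    (fun u hu => hTP ⟨u, hu, rfl⟩ : (S : Subgroup ↥H) ≤ P.comap H.subtype)
  rw [← h]
  exact (map_subgroupOf_eq_of_le hPH).symm

theorem normal_le_T {P : Subgroup G} (hP : IsPGroup 2 ↥P) (hPH : P ≤ H) (hn : H ≤ normalizer (P : Set G)) :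
    P ≤ T := by
  have h := s.T_max (hP.to_sup_of_normal_left' s.T_two (s.T_le.trans hn)) (sup_le hPH s.T_le) le_sup_right
  exact le_sup_left.trans h.le

theorem Q_le_T : Qr H ≤ T := s.normal_le_T (Qr_two H) (Qr_le H) (H_norm_Qr H)

theorem Wr_le_T' : Wr H ≤ T := (Wr_le_Qr H).trans s.Q_le_T

theorem T_le_M : T ≤ Mr H := s.T_le.trans (le_Mr H)

theorem mem_Q {t : G} (ht : t ∈ T) (hc : CentMod H t) : t ∈ Qr H := by
  have h := s.hmax (T ⊓ centPart H) (s.T_two.to_le inf_le_left) (le_inf s.Q_le_T (Qr_le_centPart H))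
    (inf_le_left.trans s.T_le_M) (fun _ hx => hx.2.2)
  exact h.le ⟨ht, s.T_le_M ht, hc⟩

theorem mem_Q_of {P : Subgroup G} (hP : IsPGroup 2 ↥P) (hQP : Qr H ≤ P) (hPM : P ≤ Mr H) {y : G} (hy : y ∈ P)
    (hc : CentMod H y) : y ∈ Qr H := by
  have h := s.hmax (P ⊓ centPart H) (hP.to_le inf_le_left) (le_inf hQP (Qr_le_centPart H))
    (inf_le_left.trans hPM) (fun _ hx => hx.2.2)
  exact h.le ⟨hy, hPM hy, hc⟩

theorem sup_eq : Kr H ⊔ T = H := by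
  haveI : Fact (Nat.Prime 2) := ⟨Nat.prime_two⟩
  obtain ⟨S, rfl⟩ := s.syl
  have h := congrArg (Subgroup.map H.subtype) (Cfsg.Lib.Transfer.pResidual_sup_sylow S)
  rw [Subgroup.map_sup, ← MonoidHom.range_eq_map, Subgroup.range_subtype] at h
  refine le_antisymm (sup_le (Kr_le H) (map_subtype_le _)) (h.ge.trans (sup_le ?_ le_sup_right))
  rw [Cfsg.pResidual, MonoidHom.map_closure]
  refine (closure_le _).2 ?_
  rintro _ ⟨y, hy, rfl⟩
  refine mem_sup_left (odd_mem_Kr y.2 ?_)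
  rw [Subgroup.coe_subtype, Subgroup.orderOf_coe]
  exact Nat.coprime_two_right.1 hy

theorem M_max : Cfsg.IsMaximalTwoLocal (Mr H) := by
  have h : Mr H ∈ Cfsg.maxTwoLocalsContaining H := by rw [s.huniq]; rfl
  exact h.1

theorem local_le {P : Subgroup G} (hP : IsPGroup 2 ↥P) (h1 : P ≠ ⊥) (hn : H ≤ normalizer (P : Set G)) :
    normalizer (P : Set G) ≤ Mr H := by
  obtain ⟨L, hL, hle⟩ := Cfsg.Lib.JComp.exists_maximal_local ⟨P, hP, h1, rfl⟩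
  have h : L ∈ Cfsg.maxTwoLocalsContaining H := ⟨hL, hn.trans hle⟩
  rw [s.huniq] at h
  exact hle.trans (Set.mem_singleton_iff.1 h).le

theorem O2M_ne : Cfsg.pCoreOf 2 (Mr H) ≠ ⊥ := by
  obtain ⟨⟨P, hP, h1, heq⟩, -⟩ := s.M_max
  intro h0
  refine h1 (le_bot_iff.1 (h0 ▸ Cfsg.Lib.JComp.le_pCoreOf hP ?_ heq.le))
  exact heq ▸ le_normalizer

theorem norm_O2M : normalizer (Cfsg.pCoreOf 2 (Mr H) : Set G) = Mr H :=
  s.M_max.2 _ ⟨_, Cfsg.Lib.JComp.isPGroup_pCoreOf _, s.O2M_ne, rfl⟩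
    (le_normalizer.trans (Cfsg.Lib.JComp.normalizer_le_pCoreOf 2 _))

theorem norm_M : normalizer (Mr H : Set G) = Mr H :=
  le_antisymm ((Cfsg.Lib.JComp.normalizer_le_pCoreOf 2 _).trans s.norm_O2M.le) le_normalizer

theorem O2M_le : Cfsg.pCoreOf 2 (Mr H) ≤ Qr H := by
  have hn : Mr H ≤ normalizer (Cfsg.pCoreOf 2 (Mr H) : Set G) := s.norm_O2M.ge
  have hc : Cfsg.pCoreOf 2 (Mr H) ≤ centPart H := fun x hx => by
    have hxM := Cfsg.Lib.JComp.pCoreOf_le _ hx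
    refine ⟨hxM, fun k hk => ?_⟩
    have hkM : k ∈ Mr H := le_Mr H (Kr_le H hk)
    have h1 : x * k * x⁻¹ * k⁻¹ ∈ Kr H := mul_mem ((conj_mem_iff hxM).2 hk) (inv_mem hk)
    have h2 : x * k * x⁻¹ * k⁻¹ ∈ Cfsg.pCoreOf 2 (Mr H) := by
      rw [show x * k * x⁻¹ * k⁻¹ = x * (k * x⁻¹ * k⁻¹) by group]
      exact mul_mem hx ((conj_mem_iff (hn hkM)).2 (inv_mem hx))
    exact Cfsg.Lib.JComp.le_pCoreOf ((Cfsg.Lib.JComp.isPGroup_pCoreOf _).to_le inf_le_right) inf_le_left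
      (fun a ha => mem_norm_of_conj fun b hb =>
        mem_inf.2 ⟨mul_mem (mul_mem ha hb.1) (inv_mem ha), (conj_mem_iff (hn (le_Mr H (Kr_le H ha)))).2 hb.2⟩)
      (mem_inf.2 ⟨h1, h2⟩)
  have h := s.hmax (Cfsg.pCoreOf 2 (Mr H) ⊔ Qr H)
    ((Cfsg.Lib.JComp.isPGroup_pCoreOf _).to_sup_of_normal_left' (Qr_two H)
      (((Qr_le H).trans (le_Mr H)).trans hn))
    le_sup_right (sup_le (Cfsg.Lib.JComp.pCoreOf_le _) ((Qr_le H).trans (le_Mr H)))
    (fun x hx => ((sup_le hc (Qr_le_centPart H)) hx).2)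
  exact le_sup_left.trans h.le

theorem cent_Q {x : G} (hx : ∀ q ∈ Qr H, x * q = q * x) : x ∈ Qr H := by
  refine s.O2M_le ?_
  have hxM : x ∈ Mr H := s.norm_O2M.le (mem_norm_of_conj fun a ha => by
    rw [hx a (s.O2M_le ha), mul_inv_cancel_right]; exact ha)
  obtain ⟨⟨P, hP, h1, heq⟩, -⟩ := s.M_max
  have hc := s.char2.2 P hP h1
  rw [← heq] at hc
  have hmem : (⟨x, hxM⟩ : ↥(Mr H)) ∈ Subgroup.centralizer (Cfsg.pCore 2 ↥(Mr H) : Set ↥(Mr H)) :=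
    mem_centralizer_iff.2 fun y hy => Subtype.ext (hx _ (s.O2M_le ⟨y, hy, rfl⟩)).symm
  exact ⟨⟨x, hxM⟩, hc hmem, rfl⟩

theorem Q_ne : Qr H ≠ ⊥ := fun h => s.O2M_ne (le_bot_iff.1 (h ▸ s.O2M_le))

theorem T_ne : T ≠ ⊥ := fun h => s.Q_ne (le_bot_iff.1 (h ▸ s.Q_le_T))

/-- nothing invariant under an element moving `M` is normalised by `H` -/
theorem no_invariant {P : Subgroup G} (hP : IsPGroup 2 ↥P) (hn : H ≤ normalizer (P : Set G)) {g : G}
    (hg : g ∉ Mr H) (hgP : g ∈ normalizer (P : Set G)) : P = ⊥ :=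
  by_contra fun h1 => hg (s.local_le hP h1 hn hgP)

theorem T_not_normal {g : G} (hg : g ∈ normalizer (T : Set G)) (hgM : g ∉ Mr H) :
    ¬ H ≤ normalizer (T : Set G) := fun hn => s.T_ne (s.no_invariant s.T_two hn hgM hg)

theorem Qr_ne_T {g : G} (hg : g ∈ normalizer (T : Set G)) (hgM : g ∉ Mr H) : Qr H ≠ T := fun e =>
  s.T_not_normal hg hgM (e ▸ H_norm_Qr H)

theorem Wr_ne (hK : ¬ Kr H ≤ Qr H) : Wr H ≠ ⊥ := fun h0 => by
  obtain ⟨k, hk, hkQ⟩ := SetLike.not_le_iff_exists.1 hK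
  refine hkQ (s.cent_Q fun q hq => ?_)
  have h := (Qr_le_centPart H hq).2 k hk
  rw [show Wr H = ⊥ from h0, mem_bot, mul_inv_eq_one, mul_inv_eq_iff_eq_mul] at h
  exact h.symm

omit [Finite G] s in
theorem cjg_T {g : G} (hg : g ∈ normalizer (T : Set G)) : cjg g T = T := Cfsg.Lib.LTP.cjg_eq_iff.2 hg

end Setup

end Cfsg.Lib.PushPair
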