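import Cfsg.Agent.PushPair.Module
import Cfsg.Agent.PushUpBlocks.Transport
import Cfsg.Agent.PushUpFocal.Crit
import Cfsg.Agent.LocalCStar.WorldG
import Cfsg.Agent.PLocal.StableClosure
import Cfsg.Agent.S2982
import Cfsg.Agent.LThreePlane.Points

/-!
# The odd residual is a single block
-/

set_option autoImplicit false
set_option linter.style.haveILetI false

namespace Cfsg.Lib.PushPair

open Subgroup
open Cfsg.Lib.LTP (cjg SL2 upGroup)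
open scoped commutatorElement

variable {G : Type*} [Group G] [Finite G] {H T : Subgroup G}

namespace Setup

variable (s : Setup H T)
include s

/-- the trace of `T` on the odd residual is a Sylow subgroup -/
theorem Kr_syl {P : Subgroup G} (hP : IsPGroup 2 ↥P) (hPK : P ≤ Kr H) (hTP : T ⊓ Kr H ≤ P) : P = T ⊓ Kr H := by
  haveI : Fact (Nat.Prime 2) := ⟨Nat.prime_two⟩
  refine (eq_of_le_of_card_ge hTP ?_).symm
  have hPH : P ≤ H := hPK.trans (Kr_le H)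
  obtain ⟨h, hh, hle⟩ := Cfsg.Lib.LTP.sylow_conj s.T_le s.T_two
    (fun Q hQ hTQ hQH => s.T_max hQ hQH hTQ) hP hPH
  have hle' : cjg h⁻¹ P ≤ T ⊓ Kr H := by
    rintro _ ⟨a, ha, rfl⟩
    refine mem_inf.2 ⟨?_, (conj_mem_iff (le_Mr H (inv_mem hh))).2 (hPK ha)⟩
    obtain ⟨b, hb, rfl⟩ := hle ha
    show h⁻¹ * (h * b * h⁻¹) * h⁻¹⁻¹ ∈ T
    simpa [mul_assoc] using hb
  calc Nat.card ↥P = Nat.card ↥(cjg h⁻¹ P) := (Cfsg.Lib.LTP.card_cjg _ _).symm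
    _ ≤ Nat.card ↥(T ⊓ Kr H : Subgroup G) :=
      Nat.card_le_card_of_injective _ (Subgroup.inclusion_injective hle')

theorem Wr_le_T : Wr H ≤ T := (Wr_le_Qr H).trans s.Q_le_T

/-- the image of the trace of `T` can be moved into the upper root group -/
theorem exists_frame {F : Type*} [Field F] [Finite F] [CharP F 2] (π : ↥(Kr H) →* SL2 F)
    (hsurj : Function.Surjective π) (hker : ∀ x (hx : x ∈ Kr H), π ⟨x, hx⟩ = 1 ↔ x ∈ Wr H) :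
    ∃ g : SL2 F, ∀ x (hx : x ∈ Kr H), x ∈ T ↔ g⁻¹ * π ⟨x, hx⟩ * g ∈ upGroup F := by
  haveI : Fact (Nat.Prime 2) := ⟨Nat.prime_two⟩
  obtain ⟨g, hg⟩ := exists_conj_up (((T ⊓ Kr H).subgroupOf (Kr H)).map π)
    (((s.T_two.to_le inf_le_left).of_equiv (subgroupOfEquivOfLe inf_le_right).symm).map _)
  refine ⟨g, fun x hx => ⟨fun hxT => hg _ ⟨⟨x, hx⟩, mem_inf.2 ⟨hxT, hx⟩, rfl⟩, fun hxu => ?_⟩⟩
  set π' : ↥(Kr H) →* SL2 F := (MulAut.conj g⁻¹).toMonoidHom.comp π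
  have hπ' : ∀ k, π' k = g⁻¹ * π k * g := fun k => by simp [π', MulAut.conj_apply]
  have hUp : IsPGroup 2 ↥(upGroup F) := by
    letI := Fintype.ofFinite F
    obtain ⟨n, -, hn⟩ := FiniteField.card F 2
    exact IsPGroup.of_card (n := n) (by rw [Cfsg.Lib.LTP.card_upGroup, Nat.card_eq_fintype_card, hn])
  have hkerp : IsPGroup 2 ↥π'.ker := by
    have e : π'.ker = (Wr H).subgroupOf (Kr H) := by
      ext ⟨k, hk⟩
      rw [MonoidHom.mem_ker, hπ', mem_subgroupOf, ← hker k hk,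
        show g⁻¹ * π ⟨k, hk⟩ * g = 1 ↔ π ⟨k, hk⟩ = 1 by
          constructor
          · intro h
            have := congrArg (fun y => g * y * g⁻¹) h
            simpa [mul_assoc] using this
          · intro h; rw [h, mul_one, inv_mul_cancel]]
    rw [e]
    exact (Wr_two H).of_equiv (subgroupOfEquivOfLe (Wr_le_Kr H)).symm
  set X := ((upGroup F).comap π').map (Kr H).subtype
  have hX : IsPGroup 2 ↥X := (hUp.comap_of_ker_isPGroup π' hkerp).map _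
  have h := s.Kr_syl hX (map_subtype_le _) fun y hy =>
    ⟨⟨y, (mem_inf.1 hy).2⟩, by
      show π' _ ∈ upGroup F
      rw [hπ']; exact hg _ ⟨⟨y, (mem_inf.1 hy).2⟩, hy, rfl⟩, rfl⟩
  have hxX : x ∈ X := ⟨⟨x, hx⟩, by show π' _ ∈ upGroup F; rw [hπ']; exact hxu, rfl⟩
  exact (mem_inf.1 (h.le hxX)).1

/-- the subgroups above `T` are proper only inside the normaliser of the trace of `T` -/
theorem above_T {F : Type*} [Field F] [CharP F 2] (π : ↥(Kr H) →* SL2 F)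
    (hsurj : Function.Surjective π) (hker : ∀ x (hx : x ∈ Kr H), π ⟨x, hx⟩ = 1 ↔ x ∈ Wr H)
    (hframe : ∀ x (hx : x ∈ Kr H), x ∈ T ↔ π ⟨x, hx⟩ ∈ upGroup F) {X : Subgroup G}
    (hTX : T ≤ X) (hXH : X ≤ H) (hne : X ≠ H) : X ≤ H ⊓ normalizer ((T ⊓ Kr H : Subgroup G) : Set G) := by
  have hup : upGroup F ≤ (X.subgroupOf (Kr H)).map π := fun A hA => by
    obtain ⟨⟨k, hk⟩, rfl⟩ := hsurj A
    exact ⟨⟨k, hk⟩, hTX ((hframe k hk).2 hA), rfl⟩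
  have hnt : (X.subgroupOf (Kr H)).map π ≠ ⊤ := fun htop => by
    refine hne (le_antisymm hXH (s.sup_eq.ge.trans (sup_le (fun k hk => ?_) hTX)))
    obtain ⟨⟨l, hl⟩, hlX, hlπ⟩ := (htop.ge (mem_top (π ⟨k, hk⟩)) : π ⟨k, hk⟩ ∈ _)
    have h1 : π ⟨l⁻¹ * k, mul_mem (inv_mem hl) hk⟩ = 1 := by
      rw [show (⟨l⁻¹ * k, mul_mem (inv_mem hl) hk⟩ : ↥(Kr H)) = ⟨l, hl⟩⁻¹ * ⟨k, hk⟩ from rfl,
        map_mul, map_inv, hlπ, inv_mul_cancel]
    have h2 := X.mul_mem (mem_subgroupOf.1 hlX) (hTX (s.Wr_le_T ((hker _ _).1 h1)))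
    simpa using h2
  have hXK : ∀ k ∈ X, ∀ hk : k ∈ Kr H, k ∈ normalizer ((T ⊓ Kr H : Subgroup G) : Set G) := fun k hkX hk => by
    refine mem_norm_of_conj fun a ha => ?_
    obtain ⟨haT, haK⟩ := mem_inf.1 ha
    have hka : k * a * k⁻¹ ∈ Kr H := mul_mem (mul_mem hk haK) (inv_mem hk)
    refine mem_inf.2 ⟨(hframe _ hka).2 ?_, hka⟩
    obtain ⟨t, x, hA⟩ := Cfsg.Lib.LTP.triangular (above_up hup hnt (A := π ⟨k, hk⟩) ⟨⟨k, hk⟩, hkX, rfl⟩)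
    obtain ⟨z, hz⟩ := Cfsg.Lib.LTP.mem_upGroup.1 ((hframe a haK).1 haT)
    rw [show (⟨k * a * k⁻¹, hka⟩ : ↥(Kr H)) = ⟨k, hk⟩ * ⟨a, haK⟩ * ⟨k, hk⟩⁻¹ from rfl, map_mul, map_mul,
      map_inv, hA, hz]
    refine Cfsg.Lib.LTP.mem_upGroup.2 ⟨(t : F) * t * z, ?_⟩
    rw [show Cfsg.Lib.LTP.dg t * LTP.up x * LTP.up z * (Cfsg.Lib.LTP.dg t * LTP.up x)⁻¹ =
      Cfsg.Lib.LTP.dg t * (LTP.up x * LTP.up z * (LTP.up x)⁻¹) * (Cfsg.Lib.LTP.dg t)⁻¹ by group,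
      ← LTP.up_add, add_comm, LTP.up_add, mul_inv_cancel_right, LTP.dg_up, mul_inv_cancel_right]
  have hTn : T ≤ normalizer ((T ⊓ Kr H : Subgroup G) : Set G) := fun t ht => mem_norm_of_conj fun a ha =>
    mem_inf.2 ⟨mul_mem (mul_mem ht (mem_inf.1 ha).1) (inv_mem ht),
      (conj_mem_iff (s.T_le_M ht)).2 (mem_inf.1 ha).2⟩
  intro x hx
  refine mem_inf.2 ⟨hXH hx, ?_⟩
  have hxH : x ∈ Kr H ⊔ T := s.sup_eq.symm ▸ hXH hx
  rw [← SetLike.mem_coe, coe_mul_of_right_le_normalizer_left _ _ s.T_le_M] at hxH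
  obtain ⟨k, hk, t, ht, rfl⟩ := hxH
  exact mul_mem (hXK k (by simpa using X.mul_mem hx (inv_mem (hTX ht))) hk) (hTn ht)

end Setup

end Cfsg.Lib.PushPair
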