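import Cfsg.Agent.PushPair.Block

/-!
# Applying the block theorem to the minimal parabolic `H`
-/

set_option autoImplicit false
set_option linter.style.haveILetI false

namespace Cfsg.Lib.PushPair

open Subgroup
open Cfsg.Lib.LTP (cjg SL2 upGroup)
open scoped commutatorElement

variable {G : Type*} [Group G] [Finite G] {H T : Subgroup G}

theorem omega_le {X : Type*} [Group X] (A : Subgroup X) :
    Cfsg.omegaOneCenter 2 A ≤ A ⊓ centralizer (A : Set X) :=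
  (closure_le _).2 fun _ hx => hx.1

namespace Setup

variable (s : Setup H T)
include s

theorem exists_block {F : Type*} [Field F] [Finite F] [CharP F 2] (h4 : 4 ≤ Nat.card F)
    (π : ↥(Kr H) →* SL2 F) (hsurj : Function.Surjective π)
    (hker : ∀ x (hx : x ∈ Kr H), π ⟨x, hx⟩ = 1 ↔ x ∈ Wr H)
    (hframe : ∀ x (hx : x ∈ Kr H), x ∈ T ↔ π ⟨x, hx⟩ ∈ upGroup F)
    {g₀ : G} (hg₀ : g₀ ∈ normalizer (T : Set G)) (hg₀M : g₀ ∉ Mr H) :
    ∃ (S : Subgroup ↥H) (E : Subgroup ↥H), Cfsg.IsBaumannBlock 2 S E ∧ E.map H.subtype = Kr H ∧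
      ∀ m : ℕ, Nonempty (↥E ⧸ Cfsg.pCore 2 ↥E ≃* ↥(alternatingGroup (Fin (2 * m + 1)))) →
        ∃ n : ℕ, 2 * m + 1 = 2 ^ n + 1 := by
  haveI : Fact (Nat.Prime 2) := ⟨Nat.prime_two⟩
  haveI := sl2_simple (F := F) h4
  obtain ⟨S, hS⟩ := s.syl
  set N := H ⊓ normalizer ((T ⊓ Kr H : Subgroup G) : Set G) with hN
  have habove : ∀ X : Subgroup ↥H, (S : Subgroup ↥H) ≤ X → X ≠ ⊤ → X ≤ N.subgroupOf H := by
    intro X hSX hX x hx
    refine mem_subgroupOf.2 (s.above_T π hsurj hker hframe (X := X.map H.subtype) ?_ (map_subtype_le _) ?_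
      (mem_map_of_mem _ hx))
    · rw [← hS]; exact map_mono hSX
    · intro e
      refine hX (map_injective H.subtype_injective ?_)
      rw [e, ← MonoidHom.range_eq_map, Subgroup.range_subtype]
  have hNtop : N.subgroupOf H ≠ ⊤ := fun e => by
    have hHN : H ≤ normalizer ((T ⊓ Kr H : Subgroup G) : Set G) := (subgroupOf_eq_top.1 e).trans inf_le_right
    obtain ⟨⟨a, ha⟩, hπa⟩ := hsurj (LTP.up 1)
    obtain ⟨⟨w, hw⟩, hπw⟩ := hsurj LTP.wl
    have haT : a ∈ T := (hframe a ha).2 (by rw [hπa]; exact LTP.up_mem 1)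
    have h1 := (conj_mem_iff (hHN (Kr_le H hw))).2 (mem_inf.2 ⟨haT, ha⟩)
    obtain ⟨x, hx⟩ := LTP.mem_upGroup.1 ((hframe _ (mem_inf.1 h1).2).1 (mem_inf.1 h1).1)
    rw [show (⟨w * a * w⁻¹, (mem_inf.1 h1).2⟩ : ↥(Kr H)) = ⟨w, hw⟩ * ⟨a, ha⟩ * ⟨w, hw⟩⁻¹ from rfl, map_mul,
      map_mul, map_inv, hπa, hπw, LTP.wl_up, mul_inv_cancel_right] at hx
    have := congrArg (fun A : SL2 F => A.1 1 0) hx
    simp at this
  have hTN : (S : Subgroup ↥H) ≤ N.subgroupOf H := fun x hx => by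
    have hxT : (x : G) ∈ T := hS ▸ mem_map_of_mem _ hx
    exact mem_subgroupOf.2 (mem_inf.2 ⟨x.2, mem_norm_of_conj fun a ha => mem_inf.2
      ⟨mul_mem (mul_mem hxT (mem_inf.1 ha).1) (inv_mem hxT), (conj_mem_iff (s.T_le_M hxT)).2 (mem_inf.1 ha).2⟩⟩)
  have hcoatom : IsCoatom (N.subgroupOf H) := by
    refine ⟨hNtop, fun Y hY => by_contra fun hne => ?_⟩
    exact hY.not_ge (habove Y (hTN.trans hY.le) hne)
  have hSn : ¬ (S : Subgroup ↥H).Normal := fun hn => s.T_not_normal hg₀ hg₀M (by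
    haveI := hn
    exact hS ▸ sub_norm_of_normal (S : Subgroup ↥H))
  have hmin : Cfsg.IsPMinimal 2 ↥H := by
    refine Cfsg.Lib.PMinimalComp.isPMinimal_of_one S hSn ⟨_, ⟨hcoatom, hTN⟩, fun M ⟨hM, hSM⟩ => ?_⟩
    rcases (habove M hSM hM.1).lt_or_eq with h | h
    · exact absurd (hM.2 _ h) hNtop
    · exact h
  have hc : centralizer (Cfsg.pCore 2 ↥H : Set ↥H) ≤ Cfsg.pCore 2 ↥H := fun x hx => by
    have hxQ : (x : G) ∈ Qr H := s.cent_Q fun q hq => by
      obtain ⟨y, hy, rfl⟩ := hq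
      exact (congrArg Subtype.val (mem_centralizer_iff.1 hx y hy)).symm
    obtain ⟨y, hy, hyx⟩ := hxQ
    exact Subtype.ext (a1 := y) (a2 := x) hyx ▸ hy
  have hmove : ∀ C : Subgroup ↥H, C ≠ ⊥ → C ≤ (S : Subgroup ↥H) →
      g₀ ∈ normalizer ((C.map H.subtype : Subgroup G) : Set G) → ¬ C.Normal := by
    intro C h1 hCS hg hn
    haveI := hn
    refine h1 ((map_eq_bot_iff_of_injective C H.subtype_injective).1 (s.no_invariant ?_
      (sub_norm_of_normal C) hg₀M hg))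
    exact (S.2.to_le hCS).map _
  have hz : ¬ (Cfsg.omegaOneCenter 2 (S : Subgroup ↥H)).Normal := by
    refine hmove _ ?_ ((omega_le _).trans inf_le_left) ?_
    · haveI : Nontrivial ↥(S : Subgroup ↥H) := (Subgroup.nontrivial_iff_ne_bot _).2 fun e => s.T_ne (by
        rw [← hS, e, Subgroup.map_bot])
      intro h0
      obtain ⟨n, hn, hcard⟩ := (S.2.to_subgroup (Subgroup.center ↥(S : Subgroup ↥H))).nontrivial_iff_card.1
        (S.2.center_nontrivial)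
      obtain ⟨z, hz⟩ := exists_prime_orderOf_dvd_card' (G := Subgroup.center ↥(S : Subgroup ↥H)) 2
        (hcard ▸ dvd_pow_self 2 hn.ne')
      have hz1 : ((z : ↥(S : Subgroup ↥H)) : ↥H) ∈ Cfsg.omegaOneCenter 2 (S : Subgroup ↥H) := by
        refine subset_closure ⟨⟨(z : ↥(S : Subgroup ↥H)).2, mem_centralizer_iff.2 fun r hr =>
          congrArg Subtype.val (mem_center_iff.1 z.2 ⟨r, hr⟩)⟩, ?_⟩
        have h2 := pow_orderOf_eq_one z
        rw [hz] at h2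
        exact congrArg (fun y : Subgroup.center ↥(S : Subgroup ↥H) => ((y : ↥(S : Subgroup ↥H)) : ↥H)) h2
      rw [h0, mem_bot] at hz1
      rw [show z = 1 from Subtype.ext (Subtype.ext hz1), orderOf_one] at hz
      omega
    · refine Cfsg.Lib.LTP.cjg_eq_iff.1 ?_
      rw [Cfsg.Lib.PushBlocks.map_omegaOneCenter_inj _ H.subtype_injective, hS]
      show (Cfsg.omegaOneCenter 2 T).map (MulAut.conj g₀).toMonoidHom = _
      rw [Cfsg.Lib.PushBlocks.map_omegaOneCenter_inj _ (MulAut.conj g₀).injective]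
      exact congrArg _ (Cfsg.Lib.LTP.cjg_eq_iff.2 hg₀)
  have hBS : Cfsg.baumannSubgroupOf 2 (S : Subgroup ↥H) ≤ S := inf_le_left
  have hchar : ∀ C : Subgroup ↥H, C ≤ Cfsg.baumannSubgroupOf 2 (S : Subgroup ↥H) → C ≠ ⊥ →
      (C.subgroupOf (Cfsg.baumannSubgroupOf 2 (S : Subgroup ↥H))).Characteristic → ¬ C.Normal := by
    intro C hC h1 hch
    refine hmove C h1 (hC.trans hBS) (Cfsg.Lib.LTP.cjg_eq_iff.1 ?_)
    set B := Cfsg.baumannSubgroupOf 2 (S : Subgroup ↥H)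
    have hB : B.map H.subtype = Cfsg.baumannSubgroupOf 2 T := by
      rw [Cfsg.Lib.PushUpFocal.map_baumann _ H.subtype_injective, hS]
    let e : B ≃* ↥(B.map H.subtype) := B.equivMapOfInjective _ H.subtype_injective
    haveI : ((C.map H.subtype).subgroupOf (B.map H.subtype)).Characteristic := by
      have heq : (C.map H.subtype).subgroupOf (B.map H.subtype) = (C.subgroupOf B).map e.toMonoidHom := by
        ext ⟨x, hx⟩
        constructor
        · intro h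
          obtain ⟨c, hc, hcx⟩ := mem_subgroupOf.1 h
          exact ⟨⟨c, hC hc⟩, hc, Subtype.ext hcx⟩
        · rintro ⟨b, hb, hbx⟩
          exact mem_subgroupOf.2 ⟨b, hb, congrArg Subtype.val hbx⟩
      rw [heq]
      refine characteristic_iff_map_eq.2 fun φ => ?_
      have h2 := characteristic_iff_map_eq.1 hch ((e.trans φ).trans e.symm)
      conv_rhs => rw [← h2]
      rw [Subgroup.map_map, Subgroup.map_map]
      congr 1
      ext x
      simp
    refine Cfsg.Lib.LTP.cjg_eq_iff.2 (Cfsg.Lib.LocalCStar.normalizer_le_of_char (map_mono hC) ?_)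
    refine Cfsg.Lib.LTP.cjg_eq_iff.1 ?_
    rw [hB]
    show (Cfsg.baumannSubgroupOf 2 T).map (MulAut.conj g₀).toMonoidHom = _
    rw [Cfsg.Lib.PushUpFocal.map_baumann _ (MulAut.conj g₀).injective]
    exact congrArg _ (Cfsg.Lib.LTP.cjg_eq_iff.2 hg₀)
  obtain ⟨B, hB, hdeg, -⟩ := Cfsg.Agent.S2982.result hmin hc S hchar hz
  obtain ⟨hblk, hconj, hcomm, htop, -, -, -⟩ := hB
  -- the core does not reach the top
  have hcs : Cfsg.cStarOf 2 (S : Subgroup ↥H) ≤ N.subgroupOf H := by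
    refine sup_le (habove _ ?_ ?_) (iSup_le fun C => habove _ ?_ ?_)
    · intro t ht
      exact mem_centralizer_iff.2 fun z hz' => (mem_centralizer_iff.1 (omega_le _ hz').2 t ht).symm
    · intro e
      refine hz ⟨fun z hz' x => ?_⟩
      have hx : x ∈ centralizer (Cfsg.omegaOneCenter 2 (S : Subgroup ↥H) : Set ↥H) := e.ge (mem_top x)
      rw [← mem_centralizer_iff.1 hx z hz', mul_inv_cancel_right]
      exact hz'
    · haveI := C.2.2.2
      haveI := C.2.2.2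
      refine le_trans ?_ (Cfsg.Lib.LocalCStar.normalizer_le_of_char C.2.1)
      intro t ht
      refine Cfsg.Lib.LTP.cjg_eq_iff.1 ?_
      show (Cfsg.baumannSubgroupOf 2 (S : Subgroup ↥H)).map (MulAut.conj t).toMonoidHom = _
      rw [Cfsg.Lib.PushUpFocal.map_baumann _ (MulAut.conj t).injective]
      exact congrArg _ (Cfsg.Lib.LTP.cjg_eq_iff.2 (le_normalizer ht))
    · intro e
      exact hchar C C.2.1 C.2.2.1 C.2.2.2 (normalizer_eq_top_iff.1 e)
  -- images in the linear group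
  have hEK : ∀ E ∈ B, E.map H.subtype ≤ Kr H := by
    intro E hE
    rw [← (hblk E hE).1, Cfsg.pResidualOf, Cfsg.pResidual, MonoidHom.map_closure, MonoidHom.map_closure]
    refine (closure_le _).2 ?_
    rintro _ ⟨_, ⟨y, hy, rfl⟩, rfl⟩
    refine odd_mem_Kr (y : ↥H).2 ?_
    rw [Subgroup.coe_subtype, Subgroup.coe_subtype, Subgroup.orderOf_coe, Subgroup.orderOf_coe]
    exact Nat.coprime_two_right.1 hy
  let img : Subgroup ↥H → Subgroup (SL2 F) := fun E => ((E.map H.subtype).subgroupOf (Kr H)).map π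
  have hgen : ∃ E ∈ B, img E ≠ ⊥ := by
    by_contra hcon
    push Not at hcon
    have hS' : sSup B ≤ N.subgroupOf H := sSup_le fun E hE => by
      intro x hx
      refine hTN (?_ : x ∈ (S : Subgroup ↥H))
      have hxK : (x : G) ∈ Kr H := hEK E hE (mem_map_of_mem _ hx)
      have h1 : π ⟨x, hxK⟩ ∈ img E := ⟨⟨x, hxK⟩, mem_map_of_mem _ hx, rfl⟩
      rw [hcon E hE, mem_bot, hker] at h1
      obtain ⟨y, hy, hyx⟩ : (x : G) ∈ (S : Subgroup ↥H).map H.subtype := hS.symm ▸ s.Wr_le_T h1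
      exact Subtype.ext (a1 := y) (a2 := x) hyx ▸ hy
    exact hNtop (top_le_iff.1 (htop.ge.trans (sup_le hcs hS')))
  obtain ⟨E, hE, hEi⟩ := hgen
  have hcomm' : ∀ E' ∈ B, E' ≠ E → ∀ a ∈ img E, ∀ b ∈ img E', a * b = b * a := by
    rintro E' hE' hne _ ⟨⟨a, ha⟩, haE, rfl⟩ _ ⟨⟨b, hb⟩, hbE, rfl⟩
    obtain ⟨a', ha', rfl⟩ := mem_subgroupOf.1 haE
    obtain ⟨b', hb', rfl⟩ := mem_subgroupOf.1 hbE
    rw [← map_mul, ← map_mul]
    congr 1
    have h := commutator_eq_bot_iff_le_centralizer.1 (hcomm E' hE' E hE hne) hb'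
    exact Subtype.ext (congrArg (fun y : ↥H => (y : G)) (mem_centralizer_iff.1 h a' ha'))
  have hconjmem : ∀ E' ∈ B, ∀ k (hk : k ∈ Kr H), ∀ w ∈ img E', π ⟨k, hk⟩ * w * (π ⟨k, hk⟩)⁻¹ ∈
      img (E'.map (MulAut.conj (⟨k, Kr_le H hk⟩ : ↥H)).toMonoidHom) := by
    rintro E' - k hk _ ⟨⟨w, hw⟩, hwE, rfl⟩
    obtain ⟨w', hw', hweq⟩ := mem_subgroupOf.1 hwE
    refine ⟨⟨k * w * k⁻¹, mul_mem (mul_mem hk hw) (inv_mem hk)⟩,
      mem_subgroupOf.2 ⟨⟨k, Kr_le H hk⟩ * w' * ⟨k, Kr_le H hk⟩⁻¹, ⟨w', hw', rfl⟩, ?_⟩, ?_⟩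
    · show k * (w' : G) * k⁻¹ = _
      rw [show (w' : G) = w from hweq]
    · rw [← map_inv, ← map_mul, ← map_mul]; rfl
  set J := ⨆ E' : {E' // E' ∈ B}, img E'.1 with hJ
  have hJn : J.Normal := ⟨fun a ha A => by
    obtain ⟨⟨k, hk⟩, rfl⟩ := hsurj A
    have h := mem_map_of_mem (MulAut.conj (π ⟨k, hk⟩)).toMonoidHom ha
    rw [hJ, Subgroup.map_iSup] at h
    refine (iSup_le fun E' => ?_ : _ ≤ J) h
    rintro _ ⟨w, hw, rfl⟩
    exact le_iSup (fun E' : {E' // E' ∈ B} => img E'.1) ⟨_, hconj E'.1 E'.2 ⟨k, Kr_le H hk⟩⟩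
      (hconjmem E'.1 E'.2 k hk w hw)⟩
  have hJtop : J = ⊤ := (IsSimpleGroup.eq_bot_or_eq_top_of_normal _ hJn).resolve_left fun e =>
    hEi (le_bot_iff.1 ((le_iSup (fun E' : {E' // E' ∈ B} => img E'.1) ⟨E, hE⟩).trans e.le))
  have hEtop : img E = ⊤ := by
    refine (IsSimpleGroup.eq_bot_or_eq_top_of_normal _ ?_).resolve_left hEi
    refine normalizer_eq_top_iff.1 (top_le_iff.1 (hJtop.ge.trans (iSup_le fun E' => ?_)))
    by_cases he : E'.1 = E
    · rw [he]; exact le_normalizer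
    · intro b hb
      refine mem_normalizer_iff.2 fun a => ⟨fun ha => ?_, fun ha => ?_⟩
      · rw [← hcomm' _ E'.2 he a ha b hb, mul_inv_cancel_right]; exact ha
      · have h := hcomm' _ E'.2 he _ ha b hb
        have : a = b * a * b⁻¹ := by
          calc a = b⁻¹ * (b * a * b⁻¹ * b) := by group
            _ = b⁻¹ * (b * (b * a * b⁻¹)) := by rw [h]
            _ = b * a * b⁻¹ := by group
        exact this ▸ ha
  have hpres : ∀ E' ∈ B, img E' = ⊥ → IsPGroup 2 ↥E' := by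
    intro E' hE' h0 x
    have hxK := hEK E' hE' (mem_map_of_mem _ x.2)
    have h1 : π ⟨_, hxK⟩ ∈ img E' := ⟨⟨_, hxK⟩, mem_map_of_mem _ x.2, rfl⟩
    rw [h0, mem_bot, hker] at h1
    obtain ⟨k, hk⟩ := Wr_two H ⟨_, h1⟩
    exact ⟨k, Subtype.ext (Subtype.ext (congrArg Subtype.val hk :))⟩
  have honly : ∀ E' ∈ B, E' = E := by
    intro E' hE'
    by_contra hne
    have h0 : img E' = ⊥ := (Subgroup.eq_bot_iff_forall _).2 fun b hb => sl2_center
      (hcomm' _ hE' hne _ (hEtop ▸ mem_top (LTP.up (1 : F))) b hb).symm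
      (hcomm' _ hE' hne _ (hEtop ▸ mem_top (LTP.lo (1 : F))) b hb).symm
    have h2 := hpres E' hE' h0
    have hbot : Cfsg.pResidualOf 2 E' = ⊥ := by
      rw [Cfsg.pResidualOf, Cfsg.pResidual, MonoidHom.map_closure, Subgroup.closure_eq_bot_iff]
      rintro _ ⟨y, hy, rfl⟩
      obtain ⟨k, hk⟩ := h2 y
      obtain ⟨i, -, hi⟩ := (Nat.dvd_prime_pow Nat.prime_two).1 (orderOf_dvd_of_pow_eq_one hk)
      have hy' : Nat.Coprime (orderOf y) 2 := hy
      rw [hi] at hy'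
      rcases Nat.eq_zero_or_pos i with h | h
      · rw [Set.mem_singleton_iff, show y = 1 from orderOf_eq_one_iff.1 (by rw [hi, h, pow_zero]), map_one]
      · exact absurd (Nat.Coprime.coprime_dvd_left (dvd_pow_self 2 h.ne') hy') (by norm_num)
    rw [(hblk E' hE').1] at hbot
    exact (hblk E' hE').2.2.2.1 (by rw [hbot, commutator_bot_left])
  refine ⟨S, E, hblk E hE, le_antisymm (hEK E hE) ?_, hdeg E hE⟩
  -- everything of odd order lies in the block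
  have hEn : E.Normal := ⟨fun a ha x => (honly _ (hconj E hE x)).le ⟨a, ha, rfl⟩⟩
  refine (closure_le _).2 fun y ⟨hy, ho⟩ => ?_
  have hyK : y ∈ Kr H := odd_mem_Kr hy ho
  obtain ⟨⟨e, he⟩, heE, hπe⟩ : π ⟨y, hyK⟩ ∈ img E := hEtop.ge (mem_top _)
  obtain ⟨e', he', hee⟩ := mem_subgroupOf.1 heE
  change (e' : G) = e at hee
  subst hee
  have hw : π ⟨(e' : G)⁻¹ * y, mul_mem (inv_mem he) hyK⟩ = 1 := by
    rw [show (⟨(e' : G)⁻¹ * y, mul_mem (inv_mem he) hyK⟩ : ↥(Kr H)) = ⟨e', he⟩⁻¹ * ⟨y, hyK⟩ from rfl,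
      map_mul, map_inv, hπe, inv_mul_cancel]
  obtain ⟨k, hk⟩ := Wr_two H ⟨_, (hker _ _).1 hw⟩
  -- in the quotient by the block
  set p := QuotientGroup.mk' E
  have h1 : p ⟨y, hy⟩ = p (e'⁻¹ * ⟨y, hy⟩) := by
    rw [map_mul, map_inv, show p e' = 1 from (QuotientGroup.eq_one_iff _).2 he', inv_one, one_mul]
  have h2 : p ⟨y, hy⟩ ^ 2 ^ k = 1 := by
    rw [h1, ← map_pow, show (e'⁻¹ * ⟨y, hy⟩ : ↥H) ^ 2 ^ k = 1 from
      Subtype.ext (by simpa using congrArg Subtype.val hk), map_one]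
  have h3 : p ⟨y, hy⟩ ^ orderOf y = 1 := by
    rw [← map_pow, show (⟨y, hy⟩ : ↥H) ^ orderOf y = 1 from Subtype.ext (pow_orderOf_eq_one y), map_one]
  have h4' : p ⟨y, hy⟩ = 1 := orderOf_eq_one_iff.1 (Nat.eq_one_of_dvd_coprimes
    (Nat.Coprime.pow_left k (Nat.coprime_two_left.2 ho)) (orderOf_dvd_of_pow_eq_one h2)
    (orderOf_dvd_of_pow_eq_one h3))
  exact ⟨_, (QuotientGroup.eq_one_iff _).1 h4', rfl⟩

end Setup

end Cfsg.Lib.PushPair
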