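import Cfsg.Agent.PushPair.Base
import Cfsg.Agent.Coprime.Sylow
import Cfsg.Agent.Coprime.SolvableBasics

/-!
# The module of the odd residual: centralisers, and the choice of the moving element
-/

set_option autoImplicit false
set_option linter.style.haveILetI false

namespace Cfsg.Lib.PushPair

open Subgroup
open Cfsg.Lib.LTP (cjg)
open scoped commutatorElement

variable {G : Type*} [Group G]

/-- the points of the module fixed by the odd residual -/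
abbrev Zr (H : Subgroup G) : Subgroup G := Wr H ⊓ centralizer (Kr H : Set G)
/-- the part of the core centralising the odd residual -/
abbrev Dr (H : Subgroup G) : Subgroup G := Qr H ⊓ centralizer (Kr H : Set G)

theorem mem_Zr {H : Subgroup G} {x : G} : x ∈ Zr H ↔ x ∈ Wr H ∧ ∀ k ∈ Kr H, k * x = x * k :=
  ⟨fun h => ⟨h.1, mem_centralizer_iff.1 h.2⟩, fun h => ⟨h.1, mem_centralizer_iff.2 h.2⟩⟩

theorem mem_Dr {H : Subgroup G} {x : G} : x ∈ Dr H ↔ x ∈ Qr H ∧ ∀ k ∈ Kr H, k * x = x * k :=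
  ⟨fun h => ⟨h.1, mem_centralizer_iff.1 h.2⟩, fun h => ⟨h.1, mem_centralizer_iff.2 h.2⟩⟩

namespace Setup

variable [Finite G] {H T : Subgroup G} (s : Setup H T)
include s

/-- **the core centralises the module** -/
theorem Q_comm_W (hab : ∀ a ∈ Wr H, ∀ b ∈ Wr H, a * b = b * a) (hne : Wr H ≠ ⊥)
    (hWK : Wr H ≤ ⁅Kr H, Wr H⁆)
    (hirr : ∀ U : Subgroup G, Zr H ≤ U → U ≤ Wr H → Kr H ≤ normalizer (U : Set G) → U = Zr H ∨ U = Wr H) :
    ∀ q ∈ Qr H, ∀ w ∈ Wr H, q * w = w * q := by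
  haveI : Fact (Nat.Prime 2) := ⟨Nat.prime_two⟩
  haveI := (Qr_two H).isNilpotent
  have hKW : Kr H ≤ normalizer (Wr H : Set G) := ((Kr_le H).trans (le_Mr H)).trans (Mr_norm_Wr H)
  have hKQ : Kr H ≤ normalizer (Qr H : Set G) := (Kr_le H).trans (H_norm_Qr H)
  have hQW : Qr H ≤ normalizer (Wr H : Set G) := ((Qr_le H).trans (le_Mr H)).trans (Mr_norm_Wr H)
  have hCW : ⁅Wr H, Qr H⁆ ≤ Wr H := Cfsg.Lib.Coprime.commutator_le_of_le_normalizer hQW
  have hKC : Kr H ≤ normalizer ((⁅Wr H, Qr H⁆ : Subgroup G) : Set G) := fun k hk => mem_norm_of_conj fun a ha => by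
    have h := mem_map_of_mem (MulAut.conj k).toMonoidHom ha
    rw [Subgroup.map_commutator, show (Wr H).map (MulAut.conj k).toMonoidHom = Wr H from
      Cfsg.Lib.LTP.cjg_eq_iff.2 (hKW hk), show (Qr H).map (MulAut.conj k).toMonoidHom = Qr H from
      Cfsg.Lib.LTP.cjg_eq_iff.2 (hKQ hk)] at h
    exact h
  set U := ⁅Wr H, Qr H⁆ ⊔ Zr H
  have hKU : Kr H ≤ normalizer (U : Set G) := fun k hk => by
    refine Cfsg.Lib.LTP.cjg_eq_iff.1 ?_
    show (⁅Wr H, Qr H⁆ ⊔ Zr H).map (MulAut.conj k).toMonoidHom = _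
    rw [Subgroup.map_sup]
    congr 1
    · exact Cfsg.Lib.LTP.cjg_eq_iff.2 (hKC hk)
    · exact Cfsg.Lib.LTP.cjg_eq_iff.2 (mem_norm_of_conj fun a ha => by
        rw [(mem_Zr.1 ha).2 k hk, mul_inv_cancel_right]; exact ha)
  rcases hirr U le_sup_right (sup_le hCW inf_le_left) hKU with h | h
  · intro q hq w hw
    let φ : G → G := fun w => q * w * q⁻¹ * w⁻¹
    have hφ : ∀ w ∈ Wr H, φ w ∈ Zr H := fun w hw => h.le (mem_sup_left (by
      have h3 := inv_mem (commutator_mem_commutator (H₁ := Wr H) (H₂ := Qr H) hw hq)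
      simpa [φ, commutatorElement_def, mul_assoc] using h3))
    let S : Subgroup G :=
      { carrier := {w | q * w = w * q}
        one_mem' := by simp
        mul_mem' := fun {a b} (ha : q * a = a * q) (hb : q * b = b * q) =>
          show q * (a * b) = a * b * q by rw [← mul_assoc, ha, mul_assoc, hb, mul_assoc]
        inv_mem' := fun {a} (ha : q * a = a * q) =>
          show q * a⁻¹ = a⁻¹ * q by rw [eq_inv_mul_iff_mul_eq, ← mul_assoc, ← ha, mul_inv_cancel_right] }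
    refine (hWK.trans (?_ : ⁅Kr H, Wr H⁆ ≤ S)) hw
    refine commutator_le.2 fun k hk v hv => ?_
    show q * ⁅k, v⁆ = ⁅k, v⁆ * q
    set c := q * k * q⁻¹ * k⁻¹
    have hc : c ∈ Wr H := (Qr_le_centPart H hq).2 k hk
    have hkv : k * v * k⁻¹ ∈ Wr H := (conj_mem_iff (hKW hk)).2 hv
    have e1 : φ (k * v * k⁻¹) = φ v := by
      have hz := mem_Zr.1 (hφ v hv)
      calc φ (k * v * k⁻¹) = c * (k * φ v * k⁻¹) * (k * v * k⁻¹) * c⁻¹ * (k * v * k⁻¹)⁻¹ := by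
            simp only [φ, c]; group
        _ = c * φ v * (k * v * k⁻¹) * c⁻¹ * (k * v * k⁻¹)⁻¹ := by rw [hz.2 k hk, mul_inv_cancel_right]
        _ = φ v * (c * (k * v * k⁻¹)) * c⁻¹ * (k * v * k⁻¹)⁻¹ := by rw [hab c hc _ hz.1]; group
        _ = φ v := by rw [hab c hc _ hkv]; group
    have e3 : ∀ x y, x ∈ Wr H → y ∈ Wr H → φ x = φ y → q * (x * y⁻¹) = x * y⁻¹ * q := by
      intro x y hx hy e
      have h3 : x * y⁻¹ * φ y = φ y * (x * y⁻¹) :=
        hab _ (mul_mem hx (inv_mem hy)) _ (hφ y hy).1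
      calc q * (x * y⁻¹) = φ x * x * y⁻¹ * (φ y)⁻¹ * q := by simp only [φ]; group
        _ = φ y * (x * y⁻¹) * (φ y)⁻¹ * q := by rw [e]; group
        _ = x * y⁻¹ * q := by rw [← h3]; group
    rw [commutatorElement_def]
    exact e3 _ _ hkv hv e1
  · exfalso
    have hW : Wr H ≤ ⁅Wr H, Qr H⁆ := hWK.trans (commutator_le.2 fun k hk v hv => by
      have hv' : v ∈ ⁅Wr H, Qr H⁆ ⊔ Zr H := h.ge hv
      rw [← SetLike.mem_coe, coe_mul_of_right_le_normalizer_left _ _ (fun z hz => mem_norm_of_conj fun a ha => by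
        rw [hab z (mem_Zr.1 hz).1 a (hCW ha), mul_inv_cancel_right]; exact ha)] at hv'
      obtain ⟨a, ha, z, hz, rfl⟩ := hv'
      have e : k * z = z * k := (mem_Zr.1 hz).2 k hk
      rw [commutatorElement_def, show k * (a * z) * k⁻¹ * (a * z)⁻¹ = k * a * (z * k⁻¹) * z⁻¹ * a⁻¹ by group,
        show z * k⁻¹ = k⁻¹ * z by rw [eq_inv_mul_iff_mul_eq, ← mul_assoc, e, mul_inv_cancel_right],
        show k * a * (k⁻¹ * z) * z⁻¹ * a⁻¹ = k * a * k⁻¹ * a⁻¹ by group]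
      exact mul_mem ((conj_mem_iff (hKC hk)).2 ha) (inv_mem ha))
    exact absurd hW (Cfsg.Lib.Coprime.commutator_lt_of_isNilpotent (Wr_le_Qr H) hne hQW).not_ge

/-- an element of the Sylow subgroup centralising the module lies in the core -/
theorem cent_W_T (hCK : ∀ k ∈ Kr H, (∀ w ∈ Wr H, k * w = w * k) → k ∈ Wr H) {t : G} (ht : t ∈ T)
    (hc : ∀ w ∈ Wr H, t * w = w * t) : t ∈ Qr H := by
  refine s.mem_Q ht fun k hk => hCK _ ?_ ?_
  · exact mul_mem ((conj_mem_iff (s.T_le_M ht)).2 hk) (inv_mem hk)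
  · intro w hw
    have hkM := le_Mr H (Kr_le H hk)
    set w' := k⁻¹ * w * k with hw'
    have h1 : w' ∈ Wr H := by simpa using (conj_mem_iff (Mr_norm_Wr H (inv_mem hkM))).2 hw
    have h2 : t⁻¹ * w = w * t⁻¹ := by rw [inv_mul_eq_iff_eq_mul, ← mul_assoc, hc w hw, mul_inv_cancel_right]
    calc t * k * t⁻¹ * k⁻¹ * w = t * k * (t⁻¹ * w') * k⁻¹ := by rw [hw']; group
      _ = t * k * (w' * t⁻¹) * k⁻¹ := by
          rw [show t⁻¹ * w' = w' * t⁻¹ by rw [inv_mul_eq_iff_eq_mul, ← mul_assoc, hc w' h1, mul_inv_cancel_right]]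
      _ = t * w * k * t⁻¹ * k⁻¹ := by rw [hw']; group
      _ = w * (t * k * t⁻¹ * k⁻¹) := by rw [hc w hw]; group

/-- **some conjugate of the module under the normaliser of `T` leaves the core** -/
theorem exists_move (hne : Wr H ≠ ⊥) {g₀ : G} (hg₀ : g₀ ∈ normalizer (T : Set G)) (hg₀M : g₀ ∉ Mr H) :
    ∃ g ∈ normalizer (T : Set G), g ∉ Mr H ∧ ¬ cjg g (Wr H) ≤ Qr H := by
  by_contra hcon
  push Not at hcon
  have hall : ∀ g ∈ normalizer (T : Set G), cjg g (Wr H) ≤ Qr H := fun g hg => by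
    by_cases hgM : g ∈ Mr H
    · rw [Cfsg.Lib.LTP.cjg_eq_iff.2 (Mr_norm_Wr H hgM)]; exact Wr_le_Qr H
    · exact hcon g hg hgM
  set J := ⨆ g : normalizer (T : Set G), cjg (g : G) (Wr H) with hJ
  have hWJ : Wr H ≤ J := le_iSup_of_le (1 : normalizer (T : Set G)) (Cfsg.Lib.LTP.cjg_one _).ge
  have hJQ : J ≤ Qr H := iSup_le fun g => hall g g.2
  have hNJ : normalizer (T : Set G) ≤ normalizer (J : Set G) := fun n hn => by
    refine mem_norm_of_conj fun a ha => ?_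
    have h := mem_map_of_mem (MulAut.conj n).toMonoidHom ha
    rw [hJ, Subgroup.map_iSup] at h
    refine (iSup_le fun g => ?_ : _ ≤ J) h
    exact le_iSup_of_le (f := fun g : normalizer (T : Set G) => cjg (g : G) (Wr H)) (⟨n * g, mul_mem hn g.2⟩)
      (Cfsg.Lib.LTP.cjg_mul n g _).ge
  have hHJ : H ≤ normalizer (J : Set G) := s.sup_eq.ge.trans (sup_le (fun k hk => mem_norm_of_conj fun a ha => by
    have h1 := inv_mem ((Qr_le_centPart H (hJQ ha)).2 k hk)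
    rw [show (a * k * a⁻¹ * k⁻¹)⁻¹ = k * a * k⁻¹ * a⁻¹ by group] at h1
    simpa using mul_mem (hWJ h1) ha) (le_normalizer.trans hNJ))
  exact hne (le_bot_iff.1 (hWJ.trans (s.no_invariant ((Qr_two H).to_le hJQ) hHJ hg₀M (hNJ hg₀)).le))

/-- a moved copy of `H` does not lie in `M` -/
theorem conj_H_not_le {g : G} (hg : g ∉ Mr H) : ¬ cjg g H ≤ Mr H := fun hle => by
  have hg' : g⁻¹ ∉ Mr H := fun h => hg (by simpa using inv_mem h)
  obtain ⟨⟨P, hP, h1, heq⟩, -⟩ := s.M_max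
  set P' := cjg g⁻¹ P
  have hn : H ≤ normalizer (P' : Set G) := fun h hh => mem_norm_of_conj fun a ha => by
    obtain ⟨b, hb, rfl⟩ := ha
    have h2 : g * h * g⁻¹ ∈ normalizer (P : Set G) := heq ▸ hle ⟨h, hh, rfl⟩
    refine ⟨_, (conj_mem_iff h2).2 hb, ?_⟩
    show g⁻¹ * (g * h * g⁻¹ * b * (g * h * g⁻¹)⁻¹) * g⁻¹⁻¹ = h * (g⁻¹ * b * g⁻¹⁻¹) * h⁻¹
    group
  have hP' : IsPGroup 2 ↥P' := hP.map _
  have h1' : P' ≠ ⊥ := fun e => h1 (by
    have := congrArg (cjg g) e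
    rw [← Cfsg.Lib.LTP.cjg_mul, mul_inv_cancel, Cfsg.Lib.LTP.cjg_one] at this
    simpa [cjg] using this)
  refine hg' (s.norm_M.le (mem_norm_of_conj fun a ha => s.local_le hP' h1' hn ?_))
  refine mem_norm_of_conj fun x hx => ?_
  obtain ⟨b, hb, rfl⟩ := hx
  refine ⟨_, (conj_mem_iff (heq ▸ ha : a ∈ normalizer (P : Set G))).2 hb, ?_⟩
  show g⁻¹ * (a * b * a⁻¹) * g⁻¹⁻¹ = g⁻¹ * a * g⁻¹⁻¹ * (g⁻¹ * b * g⁻¹⁻¹) * (g⁻¹ * a * g⁻¹⁻¹)⁻¹
  group

/-- the parts centralising the two residuals meet trivially -/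
theorem Dr_inter {g : G} (hg : g ∈ normalizer (T : Set G)) (hgM : g ∉ Mr H) : Dr H ⊓ cjg g (Dr H) = ⊥ := by
  haveI : Fact (Nat.Prime 2) := ⟨Nat.prime_two⟩
  set P := Dr H ⊓ cjg g (Dr H)
  by_contra hne
  have hDn : ∀ t ∈ T, ∀ x ∈ Dr H, t * x * t⁻¹ ∈ Dr H := fun t ht x hx => by
    refine mem_Dr.2 ⟨(conj_mem_iff (H_norm_Qr H (s.T_le ht))).2 (mem_Dr.1 hx).1, fun k hk => ?_⟩
    have h := (mem_Dr.1 hx).2 _ ((conj_mem_iff (inv_mem (s.T_le_M ht))).2 hk)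
    have h2 := congrArg (fun y => t * y * t⁻¹) h
    simpa [mul_assoc] using h2
  have hPT : P ≤ T := inf_le_left.trans (inf_le_left.trans s.Q_le_T)
  have hTn : T ≤ normalizer (P : Set G) := fun t ht => mem_norm_of_conj fun x hx => by
    refine mem_inf.2 ⟨hDn t ht x (mem_inf.1 hx).1, ?_⟩
    obtain ⟨y, hy, rfl⟩ := (mem_inf.1 hx).2
    refine ⟨g⁻¹ * t * g * y * (g⁻¹ * t * g)⁻¹, hDn _ ?_ y hy, ?_⟩
    · simpa using (conj_mem_iff (inv_mem hg)).2 ht
    · show g * (g⁻¹ * t * g * y * (g⁻¹ * t * g)⁻¹) * g⁻¹ = t * (g * y * g⁻¹) * t⁻¹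
      group
  haveI := s.T_two.isNilpotent
  -- a central element
  have key : ∃ z ∈ P, z ≠ 1 ∧ ∀ t ∈ T, t * z = z * t := by
    haveI : Nontrivial ↥P := (Subgroup.nontrivial_iff_ne_bot P).2 hne
    haveI : (P.subgroupOf T).Normal := normal_subgroupOf_of_le_normalizer hTn
    haveI : Nontrivial ↥(P.subgroupOf T) := (subgroupOfEquivOfLe hPT).toEquiv.nontrivial
    have h := Cfsg.Lib.Coprime.inf_center_ne_bot (P.subgroupOf T)
      ((Subgroup.nontrivial_iff_ne_bot _).1 inferInstance)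
    obtain ⟨⟨z, hz⟩, hzm⟩ := (Subgroup.nontrivial_iff_exists_ne_one _).1
      ((Subgroup.nontrivial_iff_ne_bot _).2 h)
    exact ⟨z, mem_subgroupOf.1 (mem_inf.1 hzm.1).1, fun e => hzm.2 (Subtype.ext e), fun t ht =>
      congrArg Subtype.val (mem_center_iff.1 (mem_inf.1 hzm.1).2 ⟨t, ht⟩)⟩
  obtain ⟨z, hzP, hz1, hzT⟩ := key
  have hz2 : IsPGroup 2 ↥(zpowers z) :=
    s.T_two.to_le (zpowers_le.2 (hPT hzP))
  have hcz : ∀ x : G, x * z = z * x → x ∈ normalizer (zpowers z : Set G) := fun x hx => by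
    refine mem_norm_of_conj fun a ha => ?_
    obtain ⟨i, rfl⟩ := mem_zpowers_iff.1 ha
    have h : Commute x z := hx
    rw [(h.zpow_right i).eq, mul_inv_cancel_right]
    exact zpow_mem (mem_zpowers z) i
  have hH : H ≤ normalizer (zpowers z : Set G) := s.sup_eq.ge.trans (sup_le
    (fun k hk => hcz k ((mem_Dr.1 (mem_inf.1 hzP).1).2 k hk)) fun t ht => hcz t (hzT t ht))
  have hM := s.local_le hz2 (fun e => hz1 (zpowers_eq_bot.1 e)) hH
  refine s.conj_H_not_le hgM ?_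
  show H.map (MulAut.conj g).toMonoidHom ≤ Mr H
  rw [map_le_iff_le_comap]
  refine s.sup_eq.ge.trans (sup_le (fun k hk => ?_) fun t ht => ?_)
  · obtain ⟨y, hy, hyz⟩ := (mem_inf.1 hzP).2
    refine hM (hcz _ ?_)
    rw [← hyz]
    show g * k * g⁻¹ * (g * y * g⁻¹) = g * y * g⁻¹ * (g * k * g⁻¹)
    rw [show g * k * g⁻¹ * (g * y * g⁻¹) = g * (k * y) * g⁻¹ by group, (mem_Dr.1 hy).2 k hk]
    group
  · exact hM (hcz _ (hzT _ ((conj_mem_iff hg).2 ht)))

end Setup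

end Cfsg.Lib.PushPair
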