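import Cfsg.Agent.PushPair.PermShape
import Cfsg.Agent.FixityFour.Groups
import Cfsg.Agent.S1233

/-!
# The permutation module: an extraspecial group of order thirty-two is self-centralising
-/

set_option autoImplicit false
set_option linter.style.haveILetI false
set_option maxRecDepth 20000

namespace Cfsg.Lib.PushPair

open Subgroup
open Cfsg.Lib.LTP (cjg)
open scoped commutatorElement

namespace Five

open Equiv

theorem dbl_lift_fact : ∀ p : Perm (Fin 5), Dbl p → ∀ v : Fin 5 → ZMod 2, ∑ l, v l = 0 → pv p v = v →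
    v 4 = 0 ∧ ∃ w : Fin 5 → ZMod 2, ∑ l, w l = 0 ∧ pv p w + w = v := by
  decide +kernel

/-- the first generator of the hyperplane -/
def ev : Fin 5 → ZMod 2 := pairVec 0 1
/-- the second generator of the hyperplane -/
def fv : Fin 5 → ZMod 2 := pairVec 0 2

theorem gen_vecs : ∑ l, ev l = 0 ∧ ∑ l, fv l = 0 ∧ pv dbl0 ev = ev ∧ pv dbl0 fv = fv + quad 4 ∧
    pv dbl1 ev = ev + quad 4 ∧ pv dbl1 fv = fv ∧ ev + quad 4 + pv dbl1 ev = 0 ∧ ev 4 = 0 ∧ fv 4 = 0 ∧
    quad 4 4 = 0 := by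
  decide +kernel

theorem hyper_cases : ∀ v : Fin 5 → ZMod 2, ∑ l, v l = 0 → v 4 = 0 →
    ∃ a : ZMod 2, ∃ b : ZMod 2, ∃ c : ZMod 2, v = a • ev + b • fv + c • quad 4 := by
  decide +kernel

theorem hyper_card : (Finset.univ.filter fun v : Fin 5 → ZMod 2 => ∑ l, v l = 0 ∧ v 4 = 0).card = 8 := by
  decide +kernel

theorem fix_ef : ∀ p : Perm (Fin 5), p 4 = 4 → pv p ev = ev → pv p fv = fv → p = 1 := by decide +kernel

theorem four_trs : ∀ p : Perm (Fin 5), Trs p → p ∉ [1, dbl0, dbl1, dbl0 * dbl1] := by decide +kernel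

theorem dbl_word : dbl0 * dbl1 * dbl0 * dbl1 = 1 := by decide +kernel

theorem zmod_two_cases : ∀ r : ZMod 2, r = 0 ∨ r = 1 := by decide

theorem four_list : [1, dbl0, dbl1, dbl0 * dbl1].Nodup := by decide +kernel

end Five

open Five

/-- two commuting quaternion groups inside the extraspecial group -/
theorem two_quats {G : Type*} [Group G] {e f z a b : G} (he : e * e = 1) (hf : f * f = 1) (hz : z * z = 1)
    (ha : a * a = 1) (hb : b * b = 1) (hz1 : z ≠ 1) (hef : f * e = e * f) (hez : z * e = e * z)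
    (hfz : z * f = f * z) (hza : a * z = z * a) (hzb : b * z = z * b) (hba : b * a = a * b)
    (hae : a * e = e * a) (haf : a * f = f * (z * a)) (hbe : b * e = e * (z * b)) (hbf : b * f = f * b) :
    Nonempty (↥(closure ({e * b, e * (f * a)} : Set G)) ≃* QuaternionGroup 2) ∧
    Nonempty (↥(closure ({f * a, f * (e * b)} : Set G)) ≃* QuaternionGroup 2) ∧
    ∀ p ∈ closure ({e * b, e * (f * a)} : Set G), ∀ q ∈ closure ({f * a, f * (e * b)} : Set G), p * q = q * p := by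
  have L : ∀ {x : G}, x * x = 1 → ∀ u, x * (x * u) = u := fun h u => by rw [← mul_assoc, h, one_mul]
  have M : ∀ {p q r : G}, p * q = r → ∀ u, p * (q * u) = r * u := fun h u => by rw [← mul_assoc, h]
  have L1 := L he; have L2 := L hf; have L3 := L hz; have L4 := L ha; have L5 := L hb
  have M1 := M hef; have M2 := M hez; have M3 := M hfz; have M4 := M hza; have M5 := M hzb; have M6 := M hba
  have M7 := M hae; have M8 := M haf; have M9 := M hbe; have M10 := M hbf
  have x1 : e * b * (e * b) = z := by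
    simp [mul_assoc, he, hz, ha, hb, L1, L3, L5, hef, hez, hzb, hbe, M2, M5, M9]
  have y1 : e * (f * a) * (e * (f * a)) = z := by
    simp [mul_assoc, he, hf, hz, ha, L1, L2, L3, L4, hef, hez, hfz, hza, hae, haf, M1, M2, M3, M4, M7, M8]
  have x2 : f * a * (f * a) = z := by
    simp [mul_assoc, hf, hz, ha, L2, L3, L4, hfz, hza, haf, M3, M4, M8]
  have y2 : f * (e * b) * (f * (e * b)) = z := by
    simp [mul_assoc, he, hf, hz, hb, L1, L2, L3, L5, hef, hez, hfz, hzb, hbe, hbf, M1, M2, M3, M5, M9, M10]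
  have r1 : e * (f * a) * (e * b) * (e * (f * a)) = e * b := by
    simp [mul_assoc, he, hf, hz, ha, hb, L1, L2, L3, L4, L5, hef, hez, hfz, hza, hzb, hba, hae, haf, hbe, hbf,
      M1, M2, M3, M4, M5, M6, M7, M8, M9, M10]
  have r2 : f * (e * b) * (f * a) * (f * (e * b)) = f * a := by
    simp [mul_assoc, he, hf, hz, ha, hb, L1, L2, L3, L4, L5, hef, hez, hfz, hza, hzb, hba, hae, haf, hbe, hbf,
      M1, M2, M3, M4, M5, M6, M7, M8, M9, M10]
  have key : ∀ {x y : G}, x * x = z → y * y = z → y * x * y = x → y * x * y⁻¹ = x⁻¹ ∧ y ∉ zpowers x := by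
    intro x y hx hy hr
    have hyi : y⁻¹ = y * z := inv_eq_of_mul_eq_one_right (by rw [← mul_assoc, hy, hz])
    have hxi : x⁻¹ = x * z := inv_eq_of_mul_eq_one_right (by rw [← mul_assoc, hx, hz])
    have e1 : y * x * y⁻¹ = x⁻¹ := by rw [hyi, ← mul_assoc, hr, ← hxi]
    refine ⟨e1, fun hm => hz1 ?_⟩
    obtain ⟨i, rfl⟩ := mem_zpowers_iff.1 hm
    rw [((Commute.refl x).zpow_left i).eq, mul_inv_cancel_right] at e1
    rw [← hx]
    exact mul_eq_one_iff_eq_inv.2 e1
  obtain ⟨i1, n1⟩ := key x1 y1 r1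
  obtain ⟨i2, n2⟩ := key x2 y2 r2
  refine ⟨quat_equiv x1 y1 hz hz1 i1 n1, quat_equiv x2 y2 hz hz1 i2 n2, ?_⟩
  have c : ∀ p ∈ ({e * b, e * (f * a)} : Set G), ∀ q ∈ ({f * a, f * (e * b)} : Set G), p * q = q * p := by
    rintro p (rfl | rfl) q (rfl | rfl) <;>
    simp [mul_assoc, he, hf, hz, ha, hb, L1, L2, L3, L4, L5, hef, hez, hfz, hza, hzb, hba, hae, haf, hbe, hbf,
      M1, M2, M3, M4, M5, M6, M7, M8, M9, M10]
  have h1 : closure ({f * a, f * (e * b)} : Set G) ≤ centralizer ({e * b, e * (f * a)} : Set G) :=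
    (closure_le _).2 fun q hq => mem_centralizer_iff.2 fun p hp => c p hp q hq
  have h2 : closure ({e * b, e * (f * a)} : Set G) ≤
      centralizer (closure ({f * a, f * (e * b)} : Set G) : Set G) :=
    (closure_le _).2 fun p hp => mem_centralizer_iff.2 fun q hq => (mem_centralizer_iff.1 (h1 hq) p hp).symm
  exact fun p hp q hq => (mem_centralizer_iff.1 (h2 hp) q hq).symm

variable {G : Type*} [Group G] [Finite G]

namespace PermCtx

variable {H T : Subgroup G} (C : PermCtx H T)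
include C

/-- an involution in `T` over a double transposition -/
theorem invol_lift {p : Equiv.Perm (Fin 5)} (hp : Dbl p) :
    ∃ k ∈ Kr H, k ∈ T ∧ C.sg k = p ∧ k * k = 1 := by
  obtain ⟨y, hy, ey⟩ := C.m.lift hp.1.1
  have hy2 : y * y ∈ Wr H := (C.m.ker _ (mul_mem hy hy)).1 (by rw [C.m.rho_mul hy hy, ey, hp.1.2.2])
  have hfix : pv p (C.m.c (y * y)) = C.m.c (y * y) := by
    rw [← ey, ← C.m.c_act hy hy2]
    group
  obtain ⟨-, w, hw, hwv⟩ := dbl_lift_fact p hp _ (C.m.sum _ hy2) hfix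
  obtain ⟨a, ha, hac⟩ := C.m.onto w hw
  have haK : a ∈ Kr H := Wr_le_Kr H ha
  have hk : y * a ∈ Kr H := mul_mem hy haK
  have erho : C.m.ρ ⟨y * a, hk⟩ = p := by rw [C.m.rho_mul hy haK, ey, (C.m.ker a haK).2 ha, mul_one]
  refine ⟨y * a, hk, (C.m.frame _ hk).2 (by rw [erho]; exact hp.1), by rw [C.onK _ hk, erho], ?_⟩
  have hya : y⁻¹ * a * y⁻¹⁻¹ ∈ Wr H := conj_mem_Wr (inv_mem hy) ha
  rw [show y * a * (y * a) = y * y * (y⁻¹ * a * y⁻¹⁻¹) * a by group]
  refine C.m.eq_one_of_c C.su (mul_mem (mul_mem hy2 hya) ha) ?_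
  rw [C.m.add _ (mul_mem hy2 hya) _ ha, C.m.add _ hy2 _ hya, C.m.c_act (inv_mem hy) ha, C.m.rho_inv hy, ey,
    inv_eq_of_mul_eq_one_right hp.1.2.2, hac, ← hwv]
  exact funext fun i => by
    simp only [Pi.add_apply, Pi.zero_apply]
    linear_combination (pv p w i + w i) * CharTwo.two_eq_zero (R := ZMod 2)

/-- commuting involutions over the four-group, with the relations of the extraspecial group -/
theorem exists_gens {z : G} (hz : z ∈ Wr H) (ez : C.m.c z = quad 4) :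
    ∃ a b e f : G, a ∈ Kr H ∧ b ∈ Kr H ∧ a ∈ T ∧ b ∈ T ∧ C.sg a = dbl0 ∧ C.sg b = dbl1 ∧ e ∈ Wr H ∧ f ∈ Wr H ∧
      C.m.c e = ev ∧ C.m.c f = fv ∧ a * a = 1 ∧ b * b = 1 ∧ b * a = a * b ∧ a * e = e * a ∧ a * f = f * (z * a) ∧
      b * e = e * (z * b) ∧ b * f = f * b := by
  obtain ⟨q0, q1, -, n0, n1, -, -, qc, s0, s1⟩ := dbl_facts
  obtain ⟨hev, hfv, fe0, ff0, fe1, ff1, hs, -, -, -⟩ := gen_vecs
  obtain ⟨e, he, hec⟩ := C.m.onto ev hev
  obtain ⟨f, hf, hfc⟩ := C.m.onto fv hfv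
  obtain ⟨a, ha, haT, ea, ha2⟩ := C.invol_lift ⟨q0, n0⟩
  obtain ⟨b, hb, hbT, eb, hb2⟩ := C.invol_lift ⟨q1, n1⟩
  have hconj : ∀ {x u w : G}, x ∈ Kr H → u ∈ Wr H → w ∈ Wr H →
      pv (C.sg x) (C.m.c u) = C.m.c w → x * u = w * x := fun hx hu hw h =>
    mul_inv_eq_iff_eq_mul.1 (C.m.c_inj C.su (conj_mem_Wr hx hu) hw
      ((C.act _ (le_Mr H (Kr_le H hx)) _ hu).trans h))
  have rels : ∀ {a' : G}, a' ∈ Kr H → C.sg a' = dbl0 →
      a' * e = e * a' ∧ a' * f = f * (z * a') := fun hx ex =>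
    ⟨hconj hx he he (by rw [ex, hec, fe0]), by
      rw [← mul_assoc]; exact hconj hx hf (mul_mem hf hz) (by rw [ex, C.m.add f hf z hz, hfc, ez, ff0])⟩
  have hbe : b * e = e * (z * b) := by
    rw [← mul_assoc]; exact hconj hb he (mul_mem he hz) (by rw [eb, C.m.add e he z hz, hec, ez, fe1])
  have hbf : b * f = f * b := hconj hb hf hf (by rw [eb, hfc, ff1])
  set r := a * b * a * b with hr
  have hrK : r ∈ Kr H := mul_mem (mul_mem (mul_mem ha hb) ha) hb
  have hrW : r ∈ Wr H := (C.m.ker r hrK).1 (by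
    rw [← C.onK r hrK, C.mul _ (le_Mr H (Kr_le H (mul_mem (mul_mem ha hb) ha))) _ (le_Mr H (Kr_le H hb)),
      C.mul _ (le_Mr H (Kr_le H (mul_mem ha hb))) _ (le_Mr H (Kr_le H ha)),
      C.mul _ (le_Mr H (Kr_le H ha)) _ (le_Mr H (Kr_le H hb)), ea, eb, dbl_word])
  have hai : a⁻¹ = a := inv_eq_of_mul_eq_one_right ha2
  have hbi : b⁻¹ = b := inv_eq_of_mul_eq_one_right hb2
  have hbr : b * r * b⁻¹ = r := by
    have h1 : b * r * b⁻¹ = r⁻¹ := by
      rw [hr]
      simp only [mul_inv_rev, hai, hbi, mul_assoc, hb2, mul_one]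
    rw [h1, inv_of_sq C.m.sq hrW]
  have har : a * r * a⁻¹ = r := by
    have h1 : a * r * a⁻¹ = r⁻¹ := by
      rw [hr]
      simp only [mul_inv_rev, hai, hbi, ← mul_assoc, ha2, one_mul]
    rw [h1, inv_of_sq C.m.sq hrW]
  have fr0 : pv dbl0 (C.m.c r) = C.m.c r := by rw [← ea, ← C.act a (le_Mr H (Kr_le H ha)) r hrW, har]
  have fr1 : pv dbl1 (C.m.c r) = C.m.c r := by rw [← eb, ← C.act b (le_Mr H (Kr_le H hb)) r hrW, hbr]
  have hswap : ∀ {a' : G}, a' * a' = 1 → a' * b * a' * b = 1 → b * a' = a' * b := fun {a'} h2 h => by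
    have h' : a' * b * (a' * b) = 1 := by rw [← mul_assoc]; exact h
    rw [← inv_eq_of_mul_eq_one_right h', mul_inv_rev, inv_eq_of_mul_eq_one_right h2, hbi]
  obtain ⟨hae, haf⟩ := rels ha ea
  rcases four_fixed _ (C.m.sum r hrW) fr0 fr1 with h | h
  · exact ⟨a, b, e, f, ha, hb, haT, hbT, ea, eb, he, hf, hec, hfc, ha2, hb2,
      hswap ha2 (C.m.eq_one_of_c C.su hrW h), hae, haf, hbe, hbf⟩
  · have he2 := C.m.sq e he
    have heK : e ∈ Kr H := Wr_le_Kr H he
    have ha' : a * e ∈ Kr H := mul_mem ha heK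
    have ea' : C.sg (a * e) = dbl0 := by
      rw [C.mul _ (le_Mr H (Kr_le H ha)) _ (le_Mr H (Kr_le H heK)), ea, C.onK e heK, (C.m.ker e heK).2 he, mul_one]
    have ha'2 : a * e * (a * e) = 1 := by
      rw [show a * e * (a * e) = a * (e * a) * e by group, ← hae, ← mul_assoc, ha2, one_mul, he2]
    have hr' : a * e * b * (a * e) * b = 1 := by
      have hbeb : b⁻¹ * e * b⁻¹⁻¹ ∈ Wr H := conj_mem_Wr (inv_mem hb) he
      rw [show a * e * b * (a * e) * b = a * e * a⁻¹ * r * (b⁻¹ * e * b⁻¹⁻¹) by rw [hr]; group,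
        show a * e * a⁻¹ = e by rw [hae, mul_inv_cancel_right]]
      refine C.m.eq_one_of_c C.su (mul_mem (mul_mem he hrW) hbeb) ?_
      rw [C.m.add _ (mul_mem he hrW) _ hbeb, C.m.add _ he _ hrW, hec, h,
        C.m.c_act (inv_mem hb) he, C.m.rho_inv hb, ← C.onK b hb, eb, inv_eq_of_mul_eq_one_right s1, hec]
      exact hs
    obtain ⟨hae', haf'⟩ := rels ha' ea'
    exact ⟨a * e, b, e, f, ha', hb, mul_mem haT (C.su.Wr_le_T' he), hbT, ea', eb, he, hf, hec, hfc, ha'2, hb2,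
      hswap ha'2 hr', hae', haf', hbe, hbf⟩

end PermCtx

/-- the permutation module forces sectional rank at most four -/
theorem perm_case {H T : Subgroup G} {g : G} (v : Moved H T g) (m : PermMod H T) :
    Cfsg.SectionalPRankLE 2 4 G := by
  classical
  haveI : Fact (Nat.Prime 2) := ⟨Nat.prime_two⟩
  obtain ⟨sg, hact, hmul, honK⟩ := m.exists_sig v.su
  let C : PermCtx H T := ⟨v.su, m, sg, hact, hmul, honK⟩
  have hQ : Qr H = Wr H := C.Qr_eq v
  obtain ⟨z, hz', ez⟩ := (C.inter v).2.2.2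
  have hz : z ∈ Wr H := (mem_inf.1 hz').1
  obtain ⟨a, b, e, f, ha, hb, haT, hbT, ea, eb, he, hf, hec, hfc, ha2, hb2, hba, hae, haf, hbe, hbf⟩ :=
    C.exists_gens hz ez
  obtain ⟨hev, hfv, -, -, -, -, -, he4, hf4, hq4⟩ := gen_vecs
  obtain ⟨q0, q1, q01, n0, n1, n2, n01, qc, s0, s1⟩ := dbl_facts
  have hWT := C.su.Wr_le_T'
  have hzT := C.cent_T hz ez
  have hzne : z ≠ 1 := fun h => quad_ne 4 (by rw [← ez, h]; exact m.c_one)
  obtain ⟨⟨e₁⟩, ⟨e₂⟩, hcomm⟩ := two_quats (m.sq e he) (m.sq f hf) (m.sq z hz) ha2 hb2 hzne (m.comm hf he) (m.comm hz he)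
    (m.comm hz hf) (hzT a haT) (hzT b hbT) hba hae haf hbe hbf
  set U₁ := closure ({e * b, e * (f * a)} : Set G) with hU1
  set U₂ := closure ({f * a, f * (e * b)} : Set G) with hU2
  set U := U₁ ⊔ U₂ with hU
  have m1 : e * b ∈ U := mem_sup_left (subset_closure (Or.inl rfl))
  have m2 : e * (f * a) ∈ U := mem_sup_left (subset_closure (Or.inr rfl))
  have m3 : f * a ∈ U := mem_sup_right (subset_closure (Or.inl rfl))
  have m4 : f * (e * b) ∈ U := mem_sup_right (subset_closure (Or.inr rfl))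
  have heU : e ∈ U := by simpa [mul_assoc] using mul_mem m2 (inv_mem m3)
  have hfU : f ∈ U := by simpa [mul_assoc] using mul_mem m4 (inv_mem m1)
  have hbU : b ∈ U := by simpa using mul_mem (inv_mem heU) m1
  have haU : a ∈ U := by simpa using mul_mem (inv_mem hfU) m3
  have hzU : z ∈ U := by
    have h := mul_mem (mul_mem (mul_mem (inv_mem heU) hbU) heU) hbU
    rwa [show e⁻¹ * b * e * b = e⁻¹ * (b * e) * b by group, hbe, inv_mul_cancel_left, mul_assoc, hb2, mul_one] at h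
  -- the hyperplane of the module
  let E : Subgroup G :=
    { carrier := {x | x ∈ Wr H ∧ m.c x 4 = 0}
      one_mem' := ⟨one_mem _, by rw [m.c_one]; rfl⟩
      mul_mem' := fun {p q} hp hq => ⟨mul_mem hp.1 hq.1, by rw [m.add p hp.1 q hq.1, Pi.add_apply, hp.2, hq.2, add_zero]⟩
      inv_mem' := fun {p} hp => ⟨inv_mem hp.1, by rw [m.c_inv hp.1]; exact hp.2⟩ }
  have heE : e ∈ E := ⟨he, by rw [hec]; exact he4⟩
  have hfE : f ∈ E := ⟨hf, by rw [hfc]; exact hf4⟩
  have hzE : z ∈ E := ⟨hz, by rw [ez]; exact hq4⟩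
  have hEU : E ≤ U := fun x hx => by
    obtain ⟨i, j, k, h⟩ := hyper_cases _ (m.sum x hx.1) hx.2
    have hpow : ∀ (r : ZMod 2) {u : G}, u ∈ Wr H → u ∈ U → ∃ u', u' ∈ Wr H ∧ u' ∈ U ∧ m.c u' = r • m.c u := by
      intro r u hu huU
      rcases zmod_two_cases r with rfl | rfl
      · exact ⟨1, one_mem _, one_mem _, by rw [zero_smul, m.c_one]⟩
      · exact ⟨u, hu, huU, by rw [one_smul]⟩
    obtain ⟨e', he', heU', hec'⟩ := hpow i he heU
    obtain ⟨f', hf', hfU', hfc'⟩ := hpow j hf hfU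
    obtain ⟨z', hz'', hzU', hzc'⟩ := hpow k hz hzU
    rw [m.c_inj C.su hx.1 (mul_mem (mul_mem he' hf') hz'') (by
      rw [m.add _ (mul_mem he' hf') _ hz'', m.add _ he' _ hf', hec', hfc', hzc', hec, hfc, ez, h])]
    exact mul_mem (mul_mem heU' hfU') hzU'
  have hEcard : Nat.card ↥E = 8 := by
    rw [← hyper_card, ← Fintype.card_coe, ← Nat.card_eq_fintype_card]
    refine Nat.card_eq_of_bijective (fun x : ↥E => (⟨m.c x, Finset.mem_filter.2
      ⟨Finset.mem_univ _, m.sum _ x.2.1, x.2.2⟩⟩ :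
      { w // w ∈ Finset.univ.filter fun w : Fin 5 → ZMod 2 => ∑ l, w l = 0 ∧ w 4 = 0 }))
      ⟨fun x y h => Subtype.ext (m.c_inj C.su x.2.1 y.2.1 (congrArg Subtype.val h)), fun w => ?_⟩
    obtain ⟨x, hx, hxc⟩ := m.onto w.1 (Finset.mem_filter.1 w.2).2.1
    exact ⟨⟨x, hx, by rw [hxc]; exact (Finset.mem_filter.1 w.2).2.2⟩, Subtype.ext hxc⟩
  -- the set of the thirty-two elements
  have hEn : ∀ t ∈ T, ∀ x ∈ E, t * x * t⁻¹ ∈ E := fun t ht x hx => by
    refine ⟨(conj_mem_iff (Mr_norm_Wr H (C.su.T_le_M ht))).2 hx.1, ?_⟩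
    rw [hact t (C.su.T_le_M ht) x hx.1]
    show m.c x ((sg t)⁻¹ 4) = 0
    rw [show (sg t)⁻¹ 4 = 4 by rw [Equiv.Perm.inv_eq_iff_eq]; exact (C.T_fix ht).symm]
    exact hx.2
  let A : Subgroup G :=
    { carrier := {x | x = 1 ∨ x = a ∨ x = b ∨ x = a * b}
      one_mem' := Or.inl rfl
      mul_mem' := by
        have L4 : ∀ u, a * (a * u) = u := fun u => by rw [← mul_assoc, ha2, one_mul]
        have M6 : ∀ u, b * (a * u) = a * (b * u) := fun u => by rw [← mul_assoc, hba, mul_assoc]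
        rintro x y (rfl | rfl | rfl | rfl) (rfl | rfl | rfl | rfl) <;>
          simp [ha2, hb2, hba, L4, M6, mul_assoc]
      inv_mem' := by
        rintro x hx
        have hx2 : x * x = 1 := by
          rcases hx with rfl | rfl | rfl | rfl
          exacts [one_mul 1, ha2, hb2, by rw [show a * b * (a * b) = a * (b * a) * b by group, hba, ← mul_assoc, ha2, one_mul, hb2]]
        rwa [inv_eq_of_mul_eq_one_right hx2] }
  have hAT : A ≤ T := by
    rintro x (rfl | rfl | rfl | rfl)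
    exacts [one_mem _, haT, hbT, mul_mem haT hbT]
  have hAK : A ≤ Kr H := by
    rintro x (rfl | rfl | rfl | rfl)
    exacts [one_mem _, ha, hb, mul_mem ha hb]
  have hAM : A ≤ Mr H := hAT.trans C.su.T_le_M
  have hAU : A ≤ U := by
    rintro x (rfl | rfl | rfl | rfl)
    exacts [one_mem _, haU, hbU, mul_mem haU hbU]
  have eab : sg (a * b) = dbl0 * dbl1 := by
    rw [hmul a (C.su.T_le_M haT) b (C.su.T_le_M hbT)]; exact congrArg₂ (· * ·) ea eb
  have hAsq : ∀ x ∈ A, x * x = 1 := by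
    rintro x (rfl | rfl | rfl | rfl)
    exacts [one_mul 1, ha2, hb2, by rw [show a * b * (a * b) = a * (b * a) * b by group, hba, ← mul_assoc, ha2, one_mul, hb2]]
  have hAsg : ∀ p : Equiv.Perm (Fin 5), IsFour p → ∃ x ∈ A, sg x = p := fun p hp => by
    rcases four_cases p with h | rfl | rfl | rfl | rfl
    · exact absurd hp h
    · exact ⟨1, Or.inl rfl, C.sg_one⟩
    · exact ⟨a, Or.inr (Or.inl rfl), ea⟩
    · exact ⟨b, Or.inr (Or.inr (Or.inl rfl)), eb⟩
    · exact ⟨a * b, Or.inr (Or.inr (Or.inr rfl)), eab⟩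
  -- the group as a product
  have hAE : A ≤ normalizer (E : Set G) := fun x hx => mem_norm_of_conj fun y hy => hEn x (hAT hx) y hy
  have hUeq : U = E ⊔ A := by
    refine le_antisymm (sup_le ((closure_le _).2 ?_) ((closure_le _).2 ?_)) (sup_le hEU hAU)
    · rintro x (rfl | rfl)
      · exact mul_mem (mem_sup_left heE) (mem_sup_right (Or.inr (Or.inr (Or.inl rfl))))
      · exact mul_mem (mem_sup_left heE) (mul_mem (mem_sup_left hfE) (mem_sup_right (Or.inr (Or.inl rfl))))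
    · rintro x (rfl | rfl)
      · exact mul_mem (mem_sup_left hfE) (mem_sup_right (Or.inr (Or.inl rfl)))
      · exact mul_mem (mem_sup_left hfE) (mul_mem (mem_sup_left heE) (mem_sup_right (Or.inr (Or.inr (Or.inl rfl)))))
  have hmem : ∀ x ∈ U, ∃ p ∈ E, ∃ q ∈ A, p * q = x := fun x hx => by
    rw [hUeq, ← SetLike.mem_coe, coe_mul_of_right_le_normalizer_left _ _ hAE] at hx
    exact hx
  have hUT : U ≤ T := hUeq.le.trans (sup_le (fun x hx => hWT hx.1) hAT)
  have hsgE : ∀ x ∈ E, sg x = 1 := fun x hx => by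
    rw [honK x (Wr_le_Kr H hx.1)]; exact (m.ker x (Wr_le_Kr H hx.1)).2 hx.1
  have hU32 : Nat.card ↥U = 32 := by
    have hAcard : Nat.card ↥A = 4 := by
      let i : Fin 4 → ↥A := ![1, ⟨a, Or.inr (Or.inl rfl)⟩, ⟨b, Or.inr (Or.inr (Or.inl rfl))⟩,
        ⟨a * b, Or.inr (Or.inr (Or.inr rfl))⟩]
      have hi : ∀ k, sg (i k) = ![1, dbl0, dbl1, dbl0 * dbl1] k := fun k => by
        fin_cases k
        exacts [C.sg_one, ea, eb, eab]
      have hbij : Function.Bijective i := by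
        refine ⟨fun k l h => ?_, ?_⟩
        · have h' := (hi k).symm.trans ((congrArg (fun x : ↥A => sg (x : G)) h).trans (hi l))
          clear h
          revert k l
          decide +kernel
        · rintro ⟨x, rfl | rfl | rfl | rfl⟩
          exacts [⟨0, rfl⟩, ⟨1, rfl⟩, ⟨2, rfl⟩, ⟨3, rfl⟩]
      rw [← Nat.card_congr (Equiv.ofBijective i hbij)]
      simp
    have hinjA : ∀ x ∈ A, sg x = 1 → x = 1 := by
      rintro x (rfl | rfl | rfl | rfl) h
      · rfl
      · exact absurd (ea.symm.trans h) n0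
      · exact absurd (eb.symm.trans h) n1
      · exact absurd (eab.symm.trans h) n01
    rw [show 32 = Nat.card ↥E * Nat.card ↥A by rw [hEcard, hAcard], ← Nat.card_prod]
    refine (Nat.card_eq_of_bijective (fun p : ↥E × ↥A =>
      (⟨(p.1 : G) * p.2, mul_mem (hEU p.1.2) (hAU p.2.2)⟩ : ↥U)) ⟨?_, ?_⟩).symm
    · rintro ⟨p, q⟩ ⟨p', q'⟩ h
      have h' : (p : G) * q = p' * q' := congrArg Subtype.val h
      have e1 : (p' : G)⁻¹ * p = q' * (q : G)⁻¹ := by
        rw [inv_mul_eq_iff_eq_mul, ← mul_assoc, ← h', mul_inv_cancel_right]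
      have e2 := hinjA _ (mul_mem q'.2 (inv_mem q.2)) (e1 ▸ hsgE _ (mul_mem (inv_mem p'.2) p.2))
      have e3 : (q : G) = q' := (mul_inv_eq_one.1 e2).symm
      exact Prod.ext (Subtype.ext (mul_right_cancel (e3 ▸ h'))) (Subtype.ext e3)
    · rintro ⟨x, hx⟩
      obtain ⟨p, hp, q, hq, h⟩ := hmem x hx
      exact ⟨(⟨p, hp⟩, ⟨q, hq⟩), Subtype.ext h⟩
  -- the Sylow subgroup of `H` normalises it
  have hTU : T ≤ normalizer (U : Set G) := fun t ht => mem_norm_of_conj fun x hx => by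
    obtain ⟨p, hp, q, hq, rfl⟩ := hmem x hx
    rw [show t * (p * q) * t⁻¹ = t * p * t⁻¹ * (t * q * t⁻¹) by group]
    refine mul_mem (hEU (hEn t ht p hp)) ?_
    set y := t * q * t⁻¹ with hy
    have hyK : y ∈ Kr H := (conj_mem_iff (C.su.T_le_M ht)).2 (hAK hq)
    have hy4 : IsFour (sg y) := by
      rw [honK y hyK]; exact (m.frame y hyK).1 (mul_mem (mul_mem ht (hAT hq)) (inv_mem ht))
    have hy2 : y * y = 1 := by
      rw [hy, show t * q * t⁻¹ * (t * q * t⁻¹) = t * (q * q) * t⁻¹ by group, hAsq q hq, mul_one, mul_inv_cancel]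
    obtain ⟨q', hq', eq'⟩ := hAsg _ hy4
    by_cases hy1 : sg y = 1
    · have hq1 : sg q = 1 := by
        rw [hy, hmul _ (mul_mem (C.su.T_le_M ht) (hAM hq)) _ (inv_mem (C.su.T_le_M ht)),
          hmul _ (C.su.T_le_M ht) _ (hAM hq)] at hy1
        rw [show sg t⁻¹ = (sg t)⁻¹ from C.sg_inv (C.su.T_le_M ht), mul_inv_eq_one, mul_eq_left] at hy1
        exact hy1
      rcases hq with rfl | rfl | rfl | rfl
      · rw [hy]; simp
      · exact absurd (ea.symm.trans hq1) n0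
      · exact absurd (eb.symm.trans hq1) n1
      · exact absurd (eab.symm.trans hq1) n01
    · set w := y * q'⁻¹ with hw
      have hwW : w ∈ Wr H := (m.ker w (mul_mem hyK (inv_mem (hAK hq')))).1 (by
        rw [← honK w (mul_mem hyK (inv_mem (hAK hq'))), hw, hmul _ (le_Mr H (Kr_le H hyK)) _ (inv_mem (hAM hq')),
          show sg q'⁻¹ = (sg q')⁻¹ from C.sg_inv (hAM hq'), eq', mul_inv_cancel])
      have hyw : y = w * q' := by rw [hw, inv_mul_cancel_right]
      have hq'2 : q'⁻¹ = q' := inv_eq_of_mul_eq_one_right (hAsq q' hq')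
      have hqw : q' * w * q'⁻¹ = w := by
        have h := hy2
        rw [hyw, show w * q' * (w * q') = w * (q' * w * q') by group, mul_eq_one_iff_inv_eq,
          inv_of_sq m.sq hwW] at h
        rw [hq'2]; exact h.symm
      have hfix : pv (sg y) (m.c w) = m.c w := by
        rw [← eq', ← hact q' (hAM hq') w hwW, hqw]
      rw [hyw]
      exact mul_mem (hEU ⟨hwW, (dbl_lift_fact _ ⟨hy4, hy1⟩ _ (m.sum w hwW) hfix).1⟩) (hAU hq')
  -- the Sylow subgroup
  obtain ⟨S, hS⟩ := C.su.T_two.exists_le_sylow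
  haveI hSn := S.isPGroup'.isNilpotent
  set R := (S : Subgroup G) ⊓ centralizer (U : Set G) with hR
  have hTR : T ≤ normalizer (R : Set G) := fun t ht => mem_norm_of_conj fun x hx => by
    refine mem_inf.2 ⟨mul_mem (mul_mem (hS ht) (mem_inf.1 hx).1) (inv_mem (hS ht)), mem_centralizer_iff.2 fun u hu => ?_⟩
    have h := mem_centralizer_iff.1 (mem_inf.1 hx).2 _ ((conj_mem_iff (inv_mem (hTU ht))).2 hu)
    have h2 := congrArg (fun y => t * y * t⁻¹) h
    simpa [mul_assoc] using h2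
  have hcT : ∀ x ∈ R, x ∈ T → x ∈ U := fun x hx hxT => by
    have hc : ∀ u ∈ U, x * u = u * x := fun u hu => (mem_centralizer_iff.1 (mem_inf.1 hx).2 u hu).symm
    have hxM := C.su.T_le_M hxT
    have h1 : sg x = 1 := fix_ef _ (C.T_fix hxT)
      (by rw [← hec, ← hact x hxM e he, hc e heU, mul_inv_cancel_right])
      (by rw [← hfc, ← hact x hxM f hf, hc f hfU, mul_inv_cancel_right])
    have hxW : x ∈ Wr H := hQ ▸ (C.Q_iff hxT).2 h1
    have fa : pv dbl0 (m.c x) = m.c x := by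
      rw [← show sg a = dbl0 from ea, ← hact a (C.su.T_le_M haT) x hxW, ← hc a haU, mul_inv_cancel_right]
    have fb : pv dbl1 (m.c x) = m.c x := by
      rw [← show sg b = dbl1 from eb, ← hact b (C.su.T_le_M hbT) x hxW, ← hc b hbU, mul_inv_cancel_right]
    rcases four_fixed _ (m.sum x hxW) fa fb with h | h
    · rw [m.eq_one_of_c C.su hxW h]; exact one_mem _
    · rw [m.c_inj C.su hxW hz (h.trans ez.symm)]; exact hzU
  have hRT : R ≤ T := by
    by_contra hcon
    set P := R ⊔ T with hP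
    have hPS : P ≤ (S : Subgroup G) := sup_le inf_le_left hS
    haveI : Group.IsNilpotent ↥P := (S.isPGroup'.to_le hPS).isNilpotent
    have hlt : T.subgroupOf P < ⊤ := lt_top_iff_ne_top.2 fun h =>
      hcon (le_sup_left.trans (subgroupOf_eq_top.1 h))
    obtain ⟨y, hy, hyT⟩ := SetLike.exists_of_lt (Group.normalizerCondition_of_isNilpotent _ hlt)
    have hyN : (y : G) ∈ normalizer (T : Set G) := mem_norm_of_conj fun t ht =>
      mem_subgroupOf.1 ((conj_mem_iff hy).2 (show (⟨t, mem_sup_right ht⟩ : ↥P) ∈ T.subgroupOf P from ht))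
    have hyP : (y : G) ∈ R ⊔ T := y.2
    rw [← SetLike.mem_coe, coe_mul_of_right_le_normalizer_left _ _ hTR] at hyP
    obtain ⟨r, hr, t, ht, hrt⟩ := hyP
    have hrT : r ∉ T := fun h => hyT (mem_subgroupOf.2 (hrt ▸ mul_mem h ht))
    have hrN : r ∈ normalizer (T : Set G) := by
      rw [show r = (y : G) * t⁻¹ by rw [← hrt, mul_inv_cancel_right]]
      exact mul_mem hyN (inv_mem (le_normalizer ht))
    have hrc : ∀ u ∈ U, r * u = u * r := fun u hu => (mem_centralizer_iff.1 (mem_inf.1 hr).2 u hu).symm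
    have hrM : r ∈ Mr H := by
      by_contra hrM
      have hmv : ¬ cjg r (Wr H) ≤ Qr H := fun hle => hrM (v.norm_W_le (Cfsg.Lib.LTP.cjg_eq_iff.1
        (eq_of_le_of_card_ge (hle.trans hQ.le) (Cfsg.Lib.LTP.card_cjg r (Wr H)).ge)))
      have h8 : Nat.card ↥E ≤ Nat.card ↥(Wr H ⊓ cjg r (Wr H) : Subgroup G) := card_le_of_le fun x hx =>
        mem_inf.2 ⟨hx.1, ⟨x, hx.1, by
          show r * x * r⁻¹ = x
          rw [hrc x (hEU hx), mul_inv_cancel_right]⟩⟩
      rw [hEcard, (C.inter ⟨v.su, v.gm, hrN, hrM, hmv⟩).1] at h8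
      omega
    -- the image of `T` is a whole Sylow group of the stabiliser
    let φ : ↥(Mr H) →* Equiv.Perm (Fin 5) :=
      MonoidHom.mk' (fun x => sg x) fun x y => hmul x x.2 y y.2
    set I1 := (T.subgroupOf (Mr H)).map φ
    set I2 := ((S : Subgroup G).subgroupOf (Mr H)).map φ
    have h12 : I1 ≤ I2 := map_mono fun x hx => hS hx
    have h2 : IsPGroup 2 ↥I2 := (S.isPGroup'.comap_of_injective (Mr H).subtype (Subgroup.subtype_injective _)).map _
    obtain ⟨n, hn⟩ := h2.exists_card_eq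
    have hd : Nat.card ↥I2 ∣ 120 := by
      have h := card_subgroup_dvd_card I2
      rwa [Nat.card_perm, Nat.card_fin] at h
    have h5 : 5 ≤ Nat.card ↥I1 := by
      obtain ⟨x', hx', htr⟩ := C.exists_trs v
      have hmemI : ∀ {u : G}, u ∈ T → sg u ∈ I1 := fun {u} hu => ⟨⟨u, C.su.T_le_M hu⟩, hu, rfl⟩
      have hs : ∀ p ∈ [sg x', 1, dbl0, dbl1, dbl0 * dbl1], p ∈ I1 := by
        intro p hp
        simp only [List.mem_cons, List.not_mem_nil, or_false] at hp
        rcases hp with rfl | rfl | rfl | rfl | rfl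
        exacts [hmemI (v.W'_le_T hx'), one_mem _, (show sg a = dbl0 from ea) ▸ hmemI haT,
          (show sg b = dbl1 from eb) ▸ hmemI hbT, eab ▸ hmemI (mul_mem haT hbT)]
      have hnd : [sg x', 1, dbl0, dbl1, dbl0 * dbl1].Nodup := List.nodup_cons.2 ⟨four_trs _ htr, four_list⟩
      haveI : Fintype ↥I1 := Fintype.ofFinite _
      rw [Nat.card_eq_fintype_card]
      calc 5 = [sg x', 1, dbl0, dbl1, dbl0 * dbl1].toFinset.card := by
            rw [List.toFinset_card_of_nodup hnd]; rfl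
        _ ≤ _ := by
            rw [← Fintype.card_coe]
            exact Fintype.card_le_of_injective (fun p => (⟨p.1, hs _ (List.mem_toFinset.1 p.2)⟩ : ↥I1))
              fun p q h => Subtype.ext (by simpa using h)
    have h18 : 8 ≤ Nat.card ↥I1 := by
      obtain ⟨k, hk⟩ := (h2.to_le h12).exists_card_eq
      rw [hk] at h5 ⊢
      have : 3 ≤ k := by
        by_contra hlt
        have h : 2 ^ k ≤ 2 ^ 2 := Nat.pow_le_pow_right (by norm_num) (by omega)
        omega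
      exact le_trans (by norm_num) (Nat.pow_le_pow_right (by norm_num) this)
    have hI : I1 = I2 := eq_of_le_of_card_ge h12 (le_trans (by
      rw [hn] at hd ⊢
      have : n ≤ 3 := by
        by_contra hlt
        exact absurd ((pow_dvd_pow 2 (show 4 ≤ n by omega)).trans hd) (by norm_num)
      exact (Nat.pow_le_pow_right (by norm_num) this).trans (le_of_eq (by norm_num))) h18)
    obtain ⟨⟨t', ht'M⟩, ht', et'⟩ := hI.ge (⟨⟨r, hrM⟩, (mem_inf.1 hr).1, rfl⟩ : sg r ∈ I2)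
    have et'' : sg t' = sg r := et'
    set u := r * t'⁻¹ with hu
    have huM : u ∈ Mr H := mul_mem hrM (inv_mem ht'M)
    have hu1 : sg u = 1 := by
      rw [hu, hmul _ hrM _ (inv_mem ht'M), show sg t'⁻¹ = (sg t')⁻¹ from C.sg_inv ht'M, et'', mul_inv_cancel]
    have huW := C.sg_eq_one huM hu1
    have huC : CentMod H u := fun k hk => m.cent_mem _ (mul_mem ((conj_mem_iff huM).2 hk) (inv_mem hk)) fun w hw => by
      have hkM := le_Mr H (Kr_le H hk)
      set w' := k⁻¹ * w * k with hw'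
      have h1 : w' ∈ Wr H := by simpa using (conj_mem_iff (Mr_norm_Wr H (inv_mem hkM))).2 hw
      have h2' : ∀ y ∈ Wr H, u⁻¹ * y = y * u⁻¹ := fun y hy => by
        rw [inv_mul_eq_iff_eq_mul, ← mul_assoc, huW y hy, mul_inv_cancel_right]
      calc u * k * u⁻¹ * k⁻¹ * w = u * k * (u⁻¹ * w') * k⁻¹ := by rw [hw']; group
        _ = u * k * (w' * u⁻¹) * k⁻¹ := by rw [h2' w' h1]
        _ = u * w * k * u⁻¹ * k⁻¹ := by rw [hw']; group
        _ = w * (u * k * u⁻¹ * k⁻¹) := by rw [huW w hw]; group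
    have huS : u ∈ (S : Subgroup G) := mul_mem (mem_inf.1 hr).1 (inv_mem (hS ht'))
    have hm := C.su.hmax ((S : Subgroup G) ⊓ centPart H) (S.isPGroup'.to_le inf_le_left)
      (le_inf (C.su.Q_le_T.trans hS) (Qr_le_centPart H)) (fun x hx => hx.2.1) (fun x hx => hx.2.2)
    refine hrT ?_
    have huT : u ∈ T := C.su.Q_le_T (hm.le ⟨huS, huM, huC⟩)
    rw [show r = u * t' by rw [hu, inv_mul_cancel_right]]
    exact mul_mem huT ht'
  -- Harada's criterion
  refine Cfsg.Lib.FixityFour.sectional_of_sylow S ?_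
  have h1T : U₁ ≤ (S : Subgroup G) := (le_sup_left.trans hUT).trans hS
  have h2T : U₂ ≤ (S : Subgroup G) := (le_sup_right.trans hUT).trans hS
  refine Cfsg.Agent.S1233.result S.isPGroup' (U.subgroupOf S) (U₁.subgroupOf S) (U₂.subgroupOf S)
    ((subgroupOfEquivOfLe h1T).trans e₁) ((subgroupOfEquivOfLe h2T).trans e₂)
    (fun p hp q hq => Subtype.ext (hcomm _ (mem_subgroupOf.1 hp) _ (mem_subgroupOf.1 hq))) ?_
    ((Nat.card_congr (subgroupOfEquivOfLe (hUT.trans hS)).toEquiv).trans hU32) ?_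
  · exact (subgroupOf_sup h1T h2T).symm
  · intro x hx
    have hxR : (x : G) ∈ R := mem_inf.2 ⟨x.2, mem_centralizer_iff.2 fun u hu =>
      congrArg Subtype.val (mem_centralizer_iff.1 hx ⟨u, hS (hUT hu)⟩ (mem_subgroupOf.2 hu))⟩
    exact mem_subgroupOf.2 (hcT _ hxR (hRT hxR))

end Cfsg.Lib.PushPair
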