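import Cfsg.Agent.PushPair.BlockEx
import Cfsg.Agent.PushPair.AltSmall

/-!
# The module of the odd residual is natural or the even permutation module
-/

set_option autoImplicit false
set_option linter.style.haveILetI false

namespace Cfsg.Lib.PushPair

open Subgroup
open Cfsg.Lib.LTP (cjg SL2 upGroup)
open scoped commutatorElement

variable {G : Type*} [Group G] [Finite G] {H T : Subgroup G}

theorem sq_omega {X : Type*} [Group X] {Q : Subgroup X} {a : X} (ha : a ∈ Cfsg.omegaOneCenter 2 Q) :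
    a * a = 1 := by
  have key : ∀ y ∈ Cfsg.omegaOneCenter 2 Q, y ∈ Q ⊓ centralizer (Q : Set X) ∧ y * y = 1 := by
    intro y hy
    refine closure_induction (p := fun y _ => y ∈ Q ⊓ centralizer (Q : Set X) ∧ y * y = 1) ?_ ?_ ?_ ?_ hy
    · intro y hy
      exact ⟨hy.1, by rw [← pow_two]; exact hy.2⟩
    · exact ⟨one_mem _, one_mul 1⟩
    · rintro x y - - ⟨hx, hx2⟩ ⟨hy, hy2⟩
      refine ⟨mul_mem hx hy, ?_⟩
      rw [show x * y * (x * y) = x * (y * x) * y by group, mem_centralizer_iff.1 hx.2 y hy.1,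
        show x * (x * y) * y = x * x * (y * y) by group, hx2, hy2, one_mul]
    · rintro x - ⟨hx, hx2⟩
      exact ⟨inv_mem hx, by rw [← mul_inv_rev, hx2, inv_one]⟩
  exact (key a ha).2

/-- the raw linear data on the module -/
structure RawMod (H : Subgroup G) (F : Type*) [Field F] where
  /-- the map -/
  π : ↥(Kr H) →* SL2 F
  /-- the first coordinate -/
  c₀ : G → F
  /-- the second coordinate -/
  c₁ : G → F
  surj : Function.Surjective π
  ker : ∀ x (hx : x ∈ Kr H), π ⟨x, hx⟩ = 1 ↔ x ∈ Wr H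
  add₀ : ∀ a ∈ Wr H, ∀ b ∈ Wr H, c₀ (a * b) = c₀ a + c₀ b
  add₁ : ∀ a ∈ Wr H, ∀ b ∈ Wr H, c₁ (a * b) = c₁ a + c₁ b
  zero_iff : ∀ a ∈ Wr H, (c₀ a = 0 ∧ c₁ a = 0 ↔ a ∈ Zr H)
  onto : ∀ z y, ∃ a ∈ Wr H, c₀ a = z ∧ c₁ a = y
  act₀ : ∀ k (hk : k ∈ Kr H), ∀ a ∈ Wr H,
    c₀ (k * a * k⁻¹) = (π ⟨k, hk⟩).1 0 0 * c₀ a + (π ⟨k, hk⟩).1 0 1 * c₁ a
  act₁ : ∀ k (hk : k ∈ Kr H), ∀ a ∈ Wr H,
    c₁ (k * a * k⁻¹) = (π ⟨k, hk⟩).1 1 0 * c₀ a + (π ⟨k, hk⟩).1 1 1 * c₁ a
  sq : ∀ a ∈ Wr H, a * a = 1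
  wk : Wr H ≤ ⁅Kr H, Wr H⁆

/-- moving the frame -/
theorem RawMod.toNatMod (s : Setup H T) {F : Type*} [Field F] [Finite F] [CharP F 2] (r : RawMod H F) :
    Nonempty (NatMod F H T) := by
  obtain ⟨g, hg⟩ := s.exists_frame r.π r.surj r.ker
  have hd := Cfsg.Lib.LTP.det2 g
  refine ⟨{
    π := (MulAut.conj g⁻¹).toMonoidHom.comp r.π
    c₀ := fun a => g.1 1 1 * r.c₀ a - g.1 0 1 * r.c₁ a
    c₁ := fun a => g.1 0 0 * r.c₁ a - g.1 1 0 * r.c₀ a
    surj := (MulAut.conj g⁻¹).surjective.comp r.surj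
    ker := fun x hx => by
      rw [MonoidHom.comp_apply, MulEquiv.coe_toMonoidHom, MulEquiv.map_eq_one_iff, r.ker]
    add₀ := fun a ha b hb => by rw [r.add₀ a ha b hb, r.add₁ a ha b hb]; ring
    add₁ := fun a ha b hb => by rw [r.add₀ a ha b hb, r.add₁ a ha b hb]; ring
    zero_iff := fun a ha => by
      rw [← r.zero_iff a ha]
      constructor
      · rintro ⟨h1, h2⟩
        constructor
        · linear_combination g.1 0 0 * h1 + g.1 0 1 * h2 - r.c₀ a * hd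
        · linear_combination g.1 1 0 * h1 + g.1 1 1 * h2 - r.c₁ a * hd
      · rintro ⟨h1, h2⟩
        rw [h1, h2]; simp
    onto := fun z y => by
      obtain ⟨a, ha, h0, h1⟩ := r.onto (g.1 0 0 * z + g.1 0 1 * y) (g.1 1 0 * z + g.1 1 1 * y)
      refine ⟨a, ha, ?_, ?_⟩
      · rw [h0, h1]; linear_combination z * hd
      · rw [h0, h1]; linear_combination y * hd
    act₀ := ?_
    act₁ := ?_
    frame := fun x hx => by
      rw [hg x hx, MonoidHom.comp_apply, MulEquiv.coe_toMonoidHom, MulAut.conj_apply, inv_inv]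
    sq := r.sq
    wk := r.wk }⟩
  all_goals
    intro k hk a ha
    set C := ((MulAut.conj g⁻¹).toMonoidHom.comp r.π) ⟨k, hk⟩ with hCdef
    have hC : g * C = r.π ⟨k, hk⟩ * g := by
      rw [hCdef, MonoidHom.comp_apply, MulEquiv.coe_toMonoidHom, MulAut.conj_apply, inv_inv]
      group
    have e00 := congrArg (fun M : SL2 F => M.1 0 0) hC
    have e01 := congrArg (fun M : SL2 F => M.1 0 1) hC
    have e10 := congrArg (fun M : SL2 F => M.1 1 0) hC
    have e11 := congrArg (fun M : SL2 F => M.1 1 1) hC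
    simp only [LTP.mul_00, LTP.mul_01, LTP.mul_10, LTP.mul_11] at e00 e01 e10 e11
    rw [r.act₀ k hk a ha, r.act₁ k hk a ha]
    set A := r.π ⟨k, hk⟩
    set z := g.1 1 1 * r.c₀ a - g.1 0 1 * r.c₁ a with hz
    set y := g.1 0 0 * r.c₁ a - g.1 1 0 * r.c₀ a with hy
    have hp : r.c₀ a = g.1 0 0 * z + g.1 0 1 * y := by rw [hz, hy]; linear_combination -r.c₀ a * hd
    have hq : r.c₁ a = g.1 1 0 * z + g.1 1 1 * y := by rw [hz, hy]; linear_combination -r.c₁ a * hd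
    rw [hp, hq]
  · linear_combination (-(g.1 1 1) * z) * e00 + (-(g.1 1 1) * y) * e01 + (g.1 0 1 * z) * e10 +
      (g.1 0 1 * y) * e11 + (C.1 0 0 * z + C.1 0 1 * y) * hd
  · linear_combination (g.1 1 0 * z) * e00 + (g.1 1 0 * y) * e01 - (g.1 0 0 * z) * e10 -
      (g.1 0 0 * y) * e11 + (C.1 1 0 * z + C.1 1 1 * y) * hd

namespace Setup

variable (s : Setup H T)
include s

theorem perm_frame (ρ : ↥(Kr H) →* Equiv.Perm (Fin 5)) (heven : ∀ k, Equiv.Perm.sign (ρ k) = 1)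
    (hker : ∀ x (hx : x ∈ Kr H), ρ ⟨x, hx⟩ = 1 ↔ x ∈ Wr H) :
    ∃ σ : Equiv.Perm (Fin 5), ∀ x (hx : x ∈ Kr H), x ∈ T ↔ IsFour (σ * ρ ⟨x, hx⟩ * σ⁻¹) := by
  classical
  haveI : Fact (Nat.Prime 2) := ⟨Nat.prime_two⟩
  set P := ((T ⊓ Kr H).subgroupOf (Kr H)).map ρ
  have hP : IsPGroup 2 ↥P :=
    ((s.T_two.to_le inf_le_left).of_equiv (subgroupOfEquivOfLe inf_le_right).symm).map _
  obtain ⟨p, hp⟩ := hP.nonempty_fixed_point_of_prime_not_dvd_card (Fin 5) (by
    rw [Nat.card_eq_fintype_card, Fintype.card_fin]; norm_num)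
  set σ := Equiv.swap p 4
  have hVmul : ∀ a b : Equiv.Perm (Fin 5), IsFour a → IsFour b → IsFour (a * b) := by
    unfold IsFour; decide +kernel
  have hVinv : ∀ a : Equiv.Perm (Fin 5), IsFour a → IsFour a⁻¹ := fun a ha => by
    rw [inv_eq_of_mul_eq_one_right ha.2.2]; exact ha
  have hV3 : ∀ a : Equiv.Perm (Fin 5), Equiv.Perm.sign a = 1 → a 4 = 4 → a * a * a = 1 ∨ a * a = 1 := by
    decide +kernel
  set ρ' : ↥(Kr H) →* Equiv.Perm (Fin 5) := (MulAut.conj σ).toMonoidHom.comp ρ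
  have hρ' : ∀ k, ρ' k = σ * ρ k * σ⁻¹ := fun k => rfl
  have hin : ∀ x, ∀ hx : x ∈ Kr H, x ∈ T → IsFour (ρ' ⟨x, hx⟩) := by
    intro x hx hxT
    have h4 : ρ' ⟨x, hx⟩ 4 = 4 := by
      have : ρ ⟨x, hx⟩ p = p := hp ⟨ρ ⟨x, hx⟩, ⟨x, hx⟩, mem_inf.2 ⟨hxT, hx⟩, rfl⟩
      simp [hρ', σ, this]
    have hsg : Equiv.Perm.sign (ρ' ⟨x, hx⟩) = 1 := by
      simp [hρ', heven]
    refine ⟨hsg, h4, ?_⟩
    rcases hV3 _ hsg h4 with h | h
    · obtain ⟨k, hk⟩ := s.T_two ⟨x, hxT⟩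
      have h2 : ρ' ⟨x, hx⟩ ^ 2 ^ k = 1 := by
        rw [← map_pow, show (⟨x, hx⟩ : ↥(Kr H)) ^ 2 ^ k = 1 from
          Subtype.ext (by simpa using congrArg Subtype.val hk), map_one]
      have h3 : ρ' ⟨x, hx⟩ ^ 3 = 1 := by rw [pow_three, ← mul_assoc]; exact h
      rw [orderOf_eq_one_iff.1 (Nat.eq_one_of_dvd_coprimes (Nat.Coprime.pow_left k (by norm_num))
        (orderOf_dvd_of_pow_eq_one h2) (orderOf_dvd_of_pow_eq_one h3)), one_mul]
    · exact h
  refine ⟨σ, fun x hx => ⟨fun hxT => hin x hx hxT, fun hf => ?_⟩⟩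
  let V : Subgroup (Equiv.Perm (Fin 5)) :=
    { carrier := {a | IsFour a}
      one_mem' := ⟨map_one _, rfl, one_mul 1⟩
      mul_mem' := fun {a b} => hVmul a b
      inv_mem' := fun {a} => hVinv a }
  have hV2 : IsPGroup 2 ↥V := fun a => ⟨1, Subtype.ext (by
    show (a : Equiv.Perm (Fin 5)) ^ 2 ^ 1 = 1
    rw [pow_one, pow_two]; exact a.2.2.2)⟩
  have hkerp : IsPGroup 2 ↥ρ'.ker := by
    have e : ρ'.ker = (Wr H).subgroupOf (Kr H) := by
      ext ⟨k, hk⟩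
      rw [MonoidHom.mem_ker, mem_subgroupOf, ← hker k hk, MonoidHom.comp_apply, MulEquiv.coe_toMonoidHom,
        MulEquiv.map_eq_one_iff]
    rw [e]
    exact (Wr_two H).of_equiv (subgroupOfEquivOfLe (Wr_le_Kr H)).symm
  set X := (V.comap ρ').map (Kr H).subtype
  have h := s.Kr_syl (P := X) ((hV2.comap_of_ker_isPGroup ρ' hkerp).map _) (map_subtype_le _) fun y hy =>
    ⟨⟨y, (mem_inf.1 hy).2⟩, hin y _ (mem_inf.1 hy).1, rfl⟩
  have hxX : x ∈ X := ⟨⟨x, hx⟩, hf, rfl⟩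
  exact (mem_inf.1 (h.le hxX)).1

/-- **the structure of the module** -/
theorem exists_module {F : Type*} [Field F] [Finite F] [CharP F 2] (h4 : 4 ≤ Nat.card F)
    (φ : ↥(Kr H) ⧸ Cfsg.pCore 2 ↥(Kr H) ≃* SL2 F)
    {g₀ : G} (hg₀ : g₀ ∈ normalizer (T : Set G)) (hg₀M : g₀ ∉ Mr H) :
    (∃ (F' : Type) (_ : Field F') (_ : Finite F') (_ : CharP F' 2),
      4 ≤ Nat.card F' ∧ Nonempty (NatMod F' H T)) ∨ Nonempty (PermMod H T) := by
  classical
  haveI : Fact (Nat.Prime 2) := ⟨Nat.prime_two⟩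
  haveI := sl2_simple (F := F) h4
  set π₀ : ↥(Kr H) →* SL2 F := φ.toMonoidHom.comp (QuotientGroup.mk' (Cfsg.pCore 2 ↥(Kr H)))
  have hπ₀s : Function.Surjective π₀ := φ.surjective.comp (QuotientGroup.mk'_surjective _)
  have hπ₀k : ∀ x (hx : x ∈ Kr H), π₀ ⟨x, hx⟩ = 1 ↔ x ∈ Wr H := fun x hx => by
    simp only [π₀, MonoidHom.comp_apply, MulEquiv.coe_toMonoidHom, QuotientGroup.mk'_apply,
      MulEquiv.map_eq_one_iff, QuotientGroup.eq_one_iff]
    exact ⟨fun h => ⟨_, h, rfl⟩, fun ⟨y, hy, e⟩ => Subtype.ext (a1 := y) (a2 := ⟨x, hx⟩) e ▸ hy⟩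
  obtain ⟨g, hg⟩ := s.exists_frame π₀ hπ₀s hπ₀k
  obtain ⟨S, E, hblk, hEK, hdeg⟩ := s.exists_block h4 ((MulAut.conj g⁻¹).toMonoidHom.comp π₀)
    ((MulAut.conj g⁻¹).surjective.comp hπ₀s)
    (fun x hx => by rw [MonoidHom.comp_apply, MulEquiv.coe_toMonoidHom, MulEquiv.map_eq_one_iff, hπ₀k])
    (fun x hx => (hg x hx).trans (by
      show _ ↔ g⁻¹ * π₀ ⟨x, hx⟩ * g⁻¹⁻¹ ∈ upGroup F
      rw [inv_inv]))
    hg₀ hg₀M
  let e : ↥E ≃* ↥(Kr H) := (E.equivMapOfInjective _ H.subtype_injective).trans (MulEquiv.subgroupCongr hEK)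
  have he : ∀ x : ↥E, ((e x : ↥(Kr H)) : G) = ((x : ↥H) : G) := fun x => rfl
  have he' : ∀ k : ↥(Kr H), (((e.symm k : ↥E) : ↥H) : G) = k := fun k => by
    rw [← he, MulEquiv.apply_symm_apply]
  obtain ⟨-, -, hQE, -, hcases⟩ := hblk
  set U := Cfsg.omegaOneCenter 2 (Cfsg.pCoreOf 2 E)
  have hW : (Cfsg.pCoreOf 2 E).map H.subtype = Wr H := by
    rw [Cfsg.Lib.PushBlocks.map_pCoreOf_inj _ H.subtype_injective, hEK]
  -- the common part
  have hfull : ∀ {α : Type} [Group α] (ρ : ↥E →* α) (x : G) (hx : x ∈ Kr H),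
      (∀ w (hw : w ∈ Wr H), ρ (e.symm ⟨w, Wr_le_Kr H hw⟩) = 1) → (∃ k, ρ k ≠ 1) →
      (ρ (e.symm ⟨x, hx⟩) = 1 ↔ x ∈ Wr H) := by
    intro α _ ρ x hx hW1 hne
    refine ⟨fun h1 => ?_, fun h1 => hW1 x h1⟩
    set ρ' := ρ.comp e.symm.toMonoidHom
    rcases IsSimpleGroup.eq_bot_or_eq_top_of_normal (ρ'.ker.map π₀) (ρ'.normal_ker.map _ hπ₀s) with h | h
    · refine (hπ₀k x hx).1 ?_
      rw [← mem_bot, ← h]
      exact ⟨⟨x, hx⟩, h1, rfl⟩
    · exfalso
      obtain ⟨k, hk⟩ := hne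
      refine hk ?_
      obtain ⟨l, hl, hlπ⟩ : π₀ (e k) ∈ ρ'.ker.map π₀ := h.ge (mem_top _)
      have h2 : ((l⁻¹ * e k : ↥(Kr H)) : G) ∈ Wr H := (hπ₀k _ (l⁻¹ * e k).2).1 (by
        rw [show (⟨((l⁻¹ * e k : ↥(Kr H)) : G), (l⁻¹ * e k).2⟩ : ↥(Kr H)) = l⁻¹ * e k from rfl, map_mul, map_inv,
          hlπ, inv_mul_cancel])
      have h3 : ρ' (l⁻¹ * e k) = 1 := hW1 _ h2
      rw [map_mul, map_inv, show ρ' l = 1 from hl, inv_one, one_mul] at h3
      simpa [ρ'] using h3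
  have hUW : Cfsg.pCoreOf 2 E = U → (∀ a ∈ Wr H, a * a = 1) ∧
      (U ⊓ centralizer (E : Set ↥H)).map H.subtype = Zr H ∧ Wr H ≤ ⁅Kr H, Wr H⁆ ∧ U.map H.subtype = Wr H := by
    intro hU
    have hW' : U.map H.subtype = Wr H := by rw [← hU]; exact hW
    refine ⟨?_, ?_, ?_, hW'⟩
    · intro a ha
      obtain ⟨a', ha', rfl⟩ := hW.ge ha
      exact congrArg Subtype.val (sq_omega (show a' ∈ U from hU.le ha'))
    · rw [Cfsg.Lib.PushBlocks.map_inf_centralizer _ H.subtype_injective, hEK, hW']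
    · rw [commutator_comm]
      conv_lhs => rw [← hW, ← hQE, Subgroup.map_commutator, hW, hEK]
  let cU : ∀ {α : Type} [Zero α], (↥U → α) → G → α := fun {α} _ f a =>
    if h : ∃ u : ↥U, ((u : ↥H) : G) = a then f h.choose else 0
  have hcU : ∀ {α : Type} [Zero α] (f : ↥U → α) (u : ↥U), cU f ((u : ↥H) : G) = f u := by
    intro α _ f u
    have h : ∃ v : ↥U, ((v : ↥H) : G) = ((u : ↥H) : G) := ⟨u, rfl⟩
    show dite _ _ _ = _
    rw [dif_pos h]
    exact congrArg f (Subtype.ext (Subtype.ext h.choose_spec))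
  rcases hcases with ⟨F', iF', iFt', n', hF', -, ⟨hEU, hU₀, ρ, ψ, hR, hψs, hψ0, hact⟩, hQ⟩ |
    ⟨-, m, ⟨θ⟩, ⟨hEU, hU₀, ρ, ψ, hR, hψsum, hψs, hψ0, hact⟩, hQ⟩
  · have hQ' : Cfsg.pCoreOf 2 E = U := hQ.resolve_right fun h => by omega
    obtain ⟨hsq, hZ, hwk, hUW'⟩ := hUW hQ'
    have hget : ∀ a ∈ Wr H, ∃ u : ↥U, ((u : ↥H) : G) = a := fun a ha => by
      obtain ⟨u, hu, rfl⟩ := hUW'.ge ha
      exact ⟨⟨u, hu⟩, rfl⟩
    have hn' : n' ≠ 0 := fun h0 => by
      have := Fintype.one_lt_card (α := F')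
      rw [hF', h0, pow_zero] at this
      omega
    haveI : CharP F' 2 := charP_of_card_eq_prime_pow hF'
    let c : G → Fin 2 → F' := cU fun u => Multiplicative.toAdd (ψ u)
    have hcu : ∀ u : ↥U, c ((u : ↥H) : G) = Multiplicative.toAdd (ψ u) := fun u => hcU _ u
    have hactc : ∀ k (hk : k ∈ Kr H), ∀ a ∈ Wr H, c (k * a * k⁻¹) =
        ((ρ (e.symm ⟨k, hk⟩) : SL2 F') : Matrix (Fin 2) (Fin 2) F').mulVec (c a) := by
      intro k hk a ha
      obtain ⟨u, rfl⟩ := hget a ha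
      obtain ⟨w, hw1, hw2⟩ := hact (e.symm ⟨k, hk⟩) u
      have hwa : ((w : ↥H) : G) = k * ((u : ↥H) : G) * k⁻¹ := by
        rw [hw1, Subgroup.coe_mul, Subgroup.coe_mul, Subgroup.coe_inv, he']
      rw [← hwa, hcu w, hcu u]
      exact hw2
    have honto : ∀ v : Fin 2 → F', ∃ a ∈ Wr H, c a = v := fun v => by
      obtain ⟨u, hu⟩ := hψs (Multiplicative.ofAdd v)
      refine ⟨_, hUW'.le (mem_map_of_mem _ u.2), ?_⟩
      rw [show c (H.subtype (u : ↥H)) = Multiplicative.toAdd (ψ u) from hcu u, hu, toAdd_ofAdd]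
    have hW1 : ∀ w (hw : w ∈ Wr H), ρ (e.symm ⟨w, Wr_le_Kr H hw⟩) = 1 := by
      intro w hw
      refine Cfsg.Lib.LTP.eq_one_of_fix fun z y => ?_
      obtain ⟨a, ha, hca⟩ := honto ![z, y]
      have h := hactc w (Wr_le_Kr H hw) a ha
      rw [comm_of_sq hsq hw ha, mul_inv_cancel_right, hca] at h
      have h0 := congrFun h 0
      have h1 := congrFun h 1
      simp [Matrix.mulVec, dotProduct, Fin.sum_univ_two] at h0 h1
      exact ⟨h0.symm, h1.symm⟩
    have hRne : (commutator (SL2 F') : Subgroup (SL2 F')) ≠ ⊥ := by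
      intro h0
      have h1 : ⁅LTP.up (1 : F'), LTP.lo (1 : F')⁆ ∈ (commutator (SL2 F') : Subgroup (SL2 F')) :=
        commutator_def (SL2 F') ▸ commutator_mem_commutator (mem_top _) (mem_top _)
      rw [h0, mem_bot, commutatorElement_eq_one_iff_mul_comm] at h1
      exact one_ne_zero (LTP.up_eq_one.1 (sl2_center rfl h1))
    have hkne : ∃ k, ρ k ≠ 1 := by
      by_contra hh
      push Not at hh
      exact hRne (hR ▸ (MonoidHom.range_eq_bot_iff.2 (MonoidHom.ext hh)))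
    have hker : ∀ x (hx : x ∈ Kr H), ρ (e.symm ⟨x, hx⟩) = 1 ↔ x ∈ Wr H :=
      fun x hx => hfull ρ x hx hW1 hkne
    have hcard : 4 ≤ Nat.card F' := by
      by_contra hlt
      have h2 : Fintype.card F' = 2 := by
        rw [Nat.card_eq_fintype_card] at hlt
        rw [hF'] at hlt ⊢
        rcases Nat.lt_or_ge n' 2 with h | h
        · rw [show n' = 1 by omega, pow_one]
        · exact absurd (Nat.pow_le_pow_right (show 2 ≥ 1 by norm_num) h) (by omega)
      letI := Fintype.ofFinite F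
      have hinj : Function.Injective fun A : SL2 F => ρ (e.symm (hπ₀s A).choose) := by
        intro A B hAB
        have hAB' : ρ (e.symm (hπ₀s A).choose) = ρ (e.symm (hπ₀s B).choose) := hAB
        have h1 : ρ (e.symm ⟨_, ((hπ₀s A).choose⁻¹ * (hπ₀s B).choose).2⟩) = 1 := by
          show ρ (e.symm ((hπ₀s A).choose⁻¹ * (hπ₀s B).choose)) = 1
          rw [map_mul, map_mul, map_inv, map_inv, hAB', inv_mul_cancel]
        have h3 := (hπ₀k _ ((hπ₀s A).choose⁻¹ * (hπ₀s B).choose).2).2 ((hker _ _).1 h1)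
        rw [show (⟨_, ((hπ₀s A).choose⁻¹ * (hπ₀s B).choose).2⟩ : ↥(Kr H)) =
          (hπ₀s A).choose⁻¹ * (hπ₀s B).choose from rfl, map_mul, map_inv, (hπ₀s A).choose_spec,
          (hπ₀s B).choose_spec, inv_mul_eq_one] at h3
        exact h3
      have h := Nat.card_le_card_of_injective _ hinj
      rw [Cfsg.Lib.Classical.SLTwoTori.card_SL2, Cfsg.Lib.Classical.SLTwoTori.card_SL2, h2] at h
      rw [Nat.card_eq_fintype_card] at h4
      have h5 : 4 * 15 ≤ Fintype.card F * (Fintype.card F ^ 2 - 1) :=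
        Nat.mul_le_mul h4 (by have := Nat.pow_le_pow_left h4 2; omega)
      omega
    haveI := sl2_simple (F := F') hcard
    have hRtop : ρ.range = ⊤ := by
      rw [hR]
      exact (IsSimpleGroup.eq_bot_or_eq_top_of_normal _ inferInstance).resolve_left hRne
    refine Or.inl ⟨F', iF', inferInstance, inferInstance, hcard, RawMod.toNatMod s
      { π := ρ.comp e.symm.toMonoidHom
        c₀ := fun a => c a 0
        c₁ := fun a => c a 1
        surj := (MonoidHom.range_eq_top.1 hRtop).comp e.symm.surjective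
        ker := hker
        add₀ := ?_, add₁ := ?_, zero_iff := ?_
        onto := fun z y => by
          obtain ⟨a, ha, h⟩ := honto ![z, y]
          exact ⟨a, ha, by rw [h]; rfl, by rw [h]; rfl⟩
        act₀ := fun k hk a ha => by
          show c (k * a * k⁻¹) 0 = _
          rw [hactc k hk a ha]
          simp [Matrix.mulVec, dotProduct, Fin.sum_univ_two]
        act₁ := fun k hk a ha => by
          show c (k * a * k⁻¹) 1 = _
          rw [hactc k hk a ha]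
          simp [Matrix.mulVec, dotProduct, Fin.sum_univ_two]
        sq := hsq, wk := hwk }⟩
    any_goals
      intro a ha b hb
      obtain ⟨u, rfl⟩ := hget a ha
      obtain ⟨v, rfl⟩ := hget b hb
      show c (((u * v : ↥U) : ↥H) : G) _ = c _ _ + c _ _
      rw [hcu (u * v), hcu u, hcu v, map_mul, toAdd_mul]
      rfl
    intro a ha
    obtain ⟨u, rfl⟩ := hget a ha
    rw [hcu u, ← hZ]
    constructor
    · intro h
      refine mem_map_of_mem H.subtype ((hψ0 u).1 (Multiplicative.toAdd.injective (funext fun i => ?_)))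
      fin_cases i
      · exact h.1
      · exact h.2
    · intro h
      have := (hψ0 u).2 ((mem_map_iff_mem H.subtype_injective).1 h)
      rw [this]
      exact ⟨rfl, rfl⟩
  · obtain ⟨hsq, hZ, hwk, hUW'⟩ := hUW hQ
    have hget : ∀ a ∈ Wr H, ∃ u : ↥U, ((u : ↥H) : G) = a := fun a ha => by
      obtain ⟨u, hu, rfl⟩ := hUW'.ge ha
      exact ⟨⟨u, hu⟩, rfl⟩
    have hcore : (Cfsg.pCore 2 ↥E).map e.toMonoidHom = Cfsg.pCore 2 ↥(Kr H) := by
      refine map_injective (Kr H).subtype_injective ?_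
      rw [Subgroup.map_map]
      refine Eq.trans ?_ hW
      rw [Cfsg.pCoreOf, Subgroup.map_map]
      congr 1
    have hm := alt_degree h4 m ((φ.symm.trans
      (QuotientGroup.congr (Cfsg.pCore 2 ↥E) (Cfsg.pCore 2 ↥(Kr H)) e hcore).symm).trans θ)
    subst hm
    let c : G → Fin 5 → ZMod 2 := cU fun u => Multiplicative.toAdd (ψ u)
    have hcu : ∀ u : ↥U, c ((u : ↥H) : G) = Multiplicative.toAdd (ψ u) := fun u => hcU _ u
    have hactc : ∀ k (hk : k ∈ Kr H), ∀ a ∈ Wr H, ∀ i,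
        c (k * a * k⁻¹) i = c a ((ρ (e.symm ⟨k, hk⟩))⁻¹ i) := by
      intro k hk a ha i
      obtain ⟨u, rfl⟩ := hget a ha
      obtain ⟨w, hw1, hw2⟩ := hact (e.symm ⟨k, hk⟩) u
      have hwa : ((w : ↥H) : G) = k * ((u : ↥H) : G) * k⁻¹ := by
        rw [hw1, Subgroup.coe_mul, Subgroup.coe_mul, Subgroup.coe_inv, he']
      rw [← hwa, hcu w, hcu u]
      exact hw2 i
    have honto : ∀ v : Fin 5 → ZMod 2, ∑ i, v i = 0 → ∃ a ∈ Wr H, c a = v := fun v hv => by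
      obtain ⟨u, hu⟩ := hψs v hv
      refine ⟨_, hUW'.le (mem_map_of_mem _ u.2), ?_⟩
      rw [show c (H.subtype (u : ↥H)) = Multiplicative.toAdd (ψ u) from hcu u, hu]
    have hW1 : ∀ w (hw : w ∈ Wr H), ρ (e.symm ⟨w, Wr_le_Kr H hw⟩) = 1 := by
      intro w hw
      by_contra hne
      have key : ∀ σ : Equiv.Perm (Fin 5), σ ≠ 1 → ∃ i j : Fin 5, i ≠ j ∧ ∃ l,
          pairVec i j (σ⁻¹ l) ≠ pairVec i j l := by
        decide +kernel
      obtain ⟨i, j, hij, l, hl⟩ := key _ hne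
      obtain ⟨a, ha, hca⟩ := honto _ (pair_sum i j hij)
      have h := hactc w (Wr_le_Kr H hw) a ha l
      rw [comm_of_sq hsq hw ha, mul_inv_cancel_right, hca] at h
      exact hl h.symm
    have hkne : ∃ k, ρ k ≠ 1 := by
      have h3 : Equiv.swap (0 : Fin 5) 1 * Equiv.swap 1 2 ∈ alternatingGroup (Fin 5) := by
        rw [Equiv.Perm.mem_alternatingGroup]; decide +kernel
      obtain ⟨k, hk⟩ := (hR ▸ h3 : _ ∈ ρ.range)
      exact ⟨k, by rw [hk]; decide +kernel⟩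
    have heven : ∀ k : ↥(Kr H), Equiv.Perm.sign (ρ (e.symm k)) = 1 := fun k =>
      Equiv.Perm.mem_alternatingGroup.1 (hR ▸ ⟨_, rfl⟩ : ρ (e.symm k) ∈ alternatingGroup (Fin 5))
    obtain ⟨σ, hσ⟩ := s.perm_frame (ρ.comp e.symm.toMonoidHom) heven (fun x hx => hfull ρ x hx hW1 hkne)
    refine Or.inr ⟨
      { ρ := (MulAut.conj σ).toMonoidHom.comp (ρ.comp e.symm.toMonoidHom)
        c := fun a i => c a (σ⁻¹ i)
        even := fun k => by
          show Equiv.Perm.sign (σ * ρ (e.symm k) * σ⁻¹) = 1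
          simp [heven]
        surj := fun τ hτ => ?_
        ker := fun x hx => by
          rw [MonoidHom.comp_apply, MulEquiv.coe_toMonoidHom, MulEquiv.map_eq_one_iff, MonoidHom.comp_apply,
            MulEquiv.coe_toMonoidHom]
          exact hfull ρ x hx hW1 hkne
        add := ?_, zero_iff := ?_, sum := ?_
        onto := fun v hv => ?_
        act := fun k hk a ha i => by
          show c (k * a * k⁻¹) (σ⁻¹ i) = c a (σ⁻¹ ((σ * ρ (e.symm ⟨k, hk⟩) * σ⁻¹)⁻¹ i))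
          rw [hactc k hk a ha]
          simp
        frame := hσ
        sq := hsq, wk := hwk }⟩
    · obtain ⟨k, hk⟩ : σ⁻¹ * τ * σ ∈ ρ.range := by
        rw [hR, Equiv.Perm.mem_alternatingGroup]; simp [hτ]
      exact ⟨e k, by
        show σ * ρ (e.symm (e k)) * σ⁻¹ = τ
        rw [MulEquiv.symm_apply_apply, hk]; group⟩
    · intro a ha b hb
      obtain ⟨u, rfl⟩ := hget a ha
      obtain ⟨v, rfl⟩ := hget b hb
      funext i
      show c (((u * v : ↥U) : ↥H) : G) _ = c _ _ + c _ _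
      rw [hcu (u * v), hcu u, hcu v, map_mul, toAdd_mul]
      rfl
    · intro a ha
      obtain ⟨u, rfl⟩ := hget a ha
      rw [← hZ]
      have hu := hcu u
      constructor
      · intro h
        refine mem_map_of_mem H.subtype ((hψ0 u).1 (Multiplicative.toAdd.injective (funext fun i => ?_)))
        have h2 := congrFun h (σ i)
        simpa [hu] using h2
      · intro h
        have h2 := (hψ0 u).2 ((mem_map_iff_mem H.subtype_injective).1 h)
        funext i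
        rw [hu, h2]
        rfl
    · intro a ha
      obtain ⟨u, rfl⟩ := hget a ha
      simp only [hcu]
      exact (Equiv.sum_comp σ⁻¹ (fun i => Multiplicative.toAdd (ψ u) i)).trans (hψsum u)
    · obtain ⟨a, ha, h⟩ := honto (fun i => v (σ i)) ((Equiv.sum_comp σ v).trans hv)
      refine ⟨a, ha, funext fun i => ?_⟩
      rw [h]
      simp

end Setup

end Cfsg.Lib.PushPair
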