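import Cfsg.Agent.PushPair.TypeBBase
import Cfsg.Agent.LThreePlane.OuterBasic
import Cfsg.Agent.LThreePlane.Cent
import Cfsg.Agent.Known.InvTwo.Core

/-!
# The natural module with `D` covering the line: the two-elements of the stabiliser
-/

set_option autoImplicit false
set_option linter.style.haveILetI false

namespace Cfsg.Lib.PushPair

open Subgroup
open Cfsg.Lib.LTP (cjg SL2 upGroup up lo dg)

variable {G : Type*} [Group G] [Finite G] {F : Type*} [Field F] [Finite F] [CharP F 2]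
  {H T : Subgroup G} {g : G}

omit [CharP F 2] in
/-- an element with prescribed trace under an involutory automorphism -/
theorem exists_lam [CharP F 2] {σ : F ≃+* F} (hσ : σ * σ = 1) (h1 : σ ≠ 1) : ∃ l : F, l + σ l = 1 := by
  obtain ⟨e, he⟩ : ∃ e, σ e ≠ e := by
    by_contra h
    push Not at h
    exact h1 (RingEquiv.ext h)
  have hne : e + σ e ≠ 0 := fun h => he (CharTwo.add_eq_zero.1 h).symm
  refine ⟨e / (e + σ e), ?_⟩
  rw [map_div₀, map_add, show σ (σ e) = e from congrArg (fun f : F ≃+* F => f e) hσ, add_comm (σ e) e, ← add_div,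
    div_self hne]

/-- two elements conjugate into the root group commute -/
theorem comm_of_conj_up {c A B : SL2 F} (hA : c⁻¹ * A * c ∈ upGroup F) (hB : c⁻¹ * B * c ∈ upGroup F) :
    A * B = B * A := by
  obtain ⟨a, ha⟩ := LTP.mem_upGroup.1 hA
  obtain ⟨b, hb⟩ := LTP.mem_upGroup.1 hB
  have e : up a * up b = up b * up a := by rw [← LTP.up_add, add_comm, LTP.up_add]
  calc A * B = c * (c⁻¹ * A * c * (c⁻¹ * B * c)) * c⁻¹ := by group
    _ = c * (c⁻¹ * B * c * (c⁻¹ * A * c)) * c⁻¹ := by rw [ha, hb, e]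
    _ = B * A := by group

omit [Finite F] in
/-- the centraliser of a root element -/
theorem eq_up_of_comm {s : F} (hs : s ≠ 0) {B : SL2 F} (h : B * up s = up s * B) : B = up (B.1 0 1) := by
  have e00 := congrArg (fun M : SL2 F => M.1 0 0) h
  have e01 := congrArg (fun M : SL2 F => M.1 0 1) h
  simp only [Cfsg.Lib.LTP.mul_00, Cfsg.Lib.LTP.mul_01, LTP.up_00, LTP.up_01, LTP.up_10, LTP.up_11, mul_one,
    one_mul, mul_zero, add_zero] at e00 e01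
  have h10 : B.1 1 0 = 0 := (mul_eq_zero.1 (by linear_combination -e00 : s * B.1 1 0 = 0)).resolve_left hs
  have h11 : B.1 1 1 = B.1 0 0 := mul_left_cancel₀ hs (by linear_combination -e01)
  have hdet := Cfsg.Lib.LTP.det2 B
  rw [h10, h11, mul_zero, sub_zero] at hdet
  have h00 : B.1 0 0 = 1 := by
    rcases mul_self_eq_one_iff.1 hdet with h | h
    · exact h
    · rw [h, CharTwo.neg_eq]
  exact Cfsg.Lib.LTP.ext2 (by simp [h00]) (by simp) (by simp [h10]) (by simp [h11, h00])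

namespace NatCtx

variable (n : NatCtx F H T g)

/-- the coordinates of an element fixing both cores with a field part -/
structure Semi (x : G) (σ : F ≃+* F) (α β δ : F) : Prop where
  e₀ : ∀ w ∈ Wr H, n.m.c₀ (x * w * x⁻¹) = α * σ (n.m.c₀ w) + β * σ (n.m.c₁ w)
  e₁ : ∀ w ∈ Wr H, n.m.c₁ (x * w * x⁻¹) = δ * σ (n.m.c₁ w)
  root : ∀ (u : G) (hu : u ∈ Kr H) (h' : x * u * x⁻¹ ∈ Kr H) (s : F),
    n.m.π ⟨u, hu⟩ = up s → n.m.π ⟨x * u * x⁻¹, h'⟩ = up (α / δ * σ s)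
  inv : σ * σ = 1
  ne : σ ≠ 1
  αα : α * σ α = 1
  δδ : δ * σ δ = 1

namespace Split

variable {n} (p : n.Split)
include p

theorem exists_root {u : G} (hu : u ∈ Tk H T) : ∃ s, n.m.π ⟨u, p.Tk_le_K hu⟩ = up s :=
  LTP.mem_upGroup.1 ((n.m.frame u (p.Tk_le_K hu)).1 (n.Tk_le_T hu))

theorem of_root {u : G} (hu : u ∈ Kr H) {s : F} (h : n.m.π ⟨u, hu⟩ = up s) : u ∈ Tk H T :=
  mem_sup_left (mem_inf.2 ⟨(n.m.frame u hu).2 (by rw [h]; exact LTP.up_mem s), hu⟩)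

variable {P : Subgroup G} (hP : IsPGroup 2 ↥P) (hTP : T ≤ P) (hPS : P ≤ twinStab (Qr H) (cjg g (Qr H)))
include hP hTP hPS

/-- outside the join the field part is not trivial -/
theorem exists_semi {x : G} (hx : x ∈ P) (hxJ : x ∉ Tk H T) (hxx : x * x ∈ Tk H T) :
    ∃ (σ : F ≃+* F) (α β δ : F), n.Semi x σ α β δ := by
  have hxS := hPS hx
  have hxM := n.stab_Mr hxS
  have hJP : Tk H T ≤ P := n.Tk_le_T.trans hTP
  have hxU : ∀ u ∈ T ⊓ Kr H, x * u * x⁻¹ ∈ T := fun u hu =>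
    n.Tk_le_T ((conj_mem_iff (n.stab_Tk hxS)).2 (mem_sup_left hu))
  obtain ⟨A⟩ := n.m.exists_tri_act' hxM hxU
  have hconj : ∀ w ∈ Wr H, x * w * x⁻¹ ∈ Wr H := fun w hw => (conj_mem_iff (Mr_norm_Wr H hxM)).2 hw
  have hτ0 : A.τ 0 = 0 := by
    have h1 := A.root 1 (one_mem _) (by simpa using one_mem (Kr H)) 0
      (by rw [LTP.up_zero, ← n.m.π.map_one]; rfl)
    rw [show (⟨x * 1 * x⁻¹, _⟩ : ↥(Kr H)) = 1 from Subtype.ext (by simp), map_one] at h1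
    exact LTP.up_eq_one.1 h1.symm
  have ha0 : A.a 0 = 0 := by
    have := A.rel 0 0
    rwa [zero_mul, hτ0, zero_mul] at this
  have hb0 : A.b 0 = 0 := by
    have := A.e₀ 1 (one_mem _)
    rw [mul_one, mul_inv_cancel, n.m.c_one.1, n.m.c_one.2, ha0, zero_add] at this
    exact this.symm
  have hline : ∀ z, ∃ w ∈ Wr H, n.m.c₀ w = z ∧ n.m.c₁ w = 0 ∧ n.m.c₀ (x * w * x⁻¹) = A.a z := fun z => by
    obtain ⟨w, hw, h0, h1⟩ := n.m.onto z 0
    exact ⟨w, hw, h0, h1, by rw [A.e₀ w hw, h0, h1, hb0, add_zero]⟩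
  have hadd : ∀ a b, A.a (a + b) = A.a a + A.a b := by
    intro a b
    obtain ⟨w, hw, rfl, hw1, hwa⟩ := hline a
    obtain ⟨v, hv, rfl, hv1, hva⟩ := hline b
    rw [← hwa, ← hva, ← n.m.add₀ _ (hconj w hw) _ (hconj v hv), show x * w * x⁻¹ * (x * v * x⁻¹) = x * (w * v) * x⁻¹ by
      group, A.e₀ _ (mul_mem hw hv), n.m.add₀ _ hw _ hv, n.m.add₁ _ hw _ hv, hw1, hv1, add_zero, hb0, add_zero]
  obtain ⟨r, hr⟩ := p.exists_root hxx
  have hττ : ∀ s, A.τ (A.τ s) = s := by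
    intro s
    obtain ⟨u, hu, -, hπ⟩ := n.m.lift_up s
    have h1 : x * u * x⁻¹ ∈ Kr H := (conj_mem_iff hxM).2 hu
    have h2 : x * (x * u * x⁻¹) * x⁻¹ ∈ Kr H := (conj_mem_iff hxM).2 h1
    have h3 := A.root _ h1 h2 _ (A.root u hu h1 s hπ)
    rw [show (⟨x * (x * u * x⁻¹) * x⁻¹, h2⟩ : ↥(Kr H)) =
      ⟨x * x, p.Tk_le_K hxx⟩ * ⟨u, hu⟩ * ⟨x * x, p.Tk_le_K hxx⟩⁻¹ from
      Subtype.ext (show x * (x * u * x⁻¹) * x⁻¹ = x * x * u * (x * x)⁻¹ by group), map_mul, map_mul, map_inv, hπ,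
      hr, ← LTP.up_add, add_comm, LTP.up_add, mul_inv_cancel_right] at h3
    exact (LTP.up_inj h3).symm
  have hact : ∀ w ∈ Wr H, n.m.c₀ (x * (x * w * x⁻¹) * x⁻¹) = n.m.c₀ w + r * n.m.c₁ w ∧
      n.m.c₁ (x * (x * w * x⁻¹) * x⁻¹) = n.m.c₁ w := fun w hw => by
    rw [show x * (x * w * x⁻¹) * x⁻¹ = x * x * w * (x * x)⁻¹ by group]
    exact n.m.act_up _ hr hw
  have hc0 : A.c 0 = 0 := by
    have h1 := A.rel 1 0
    rw [mul_zero, ha0] at h1
    refine (mul_eq_zero.1 h1.symm).resolve_left fun h => one_ne_zero (α := F) ?_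
    rw [← hττ 1, h, hτ0]
  have haa : ∀ z, A.a (A.a z) = z := by
    intro z
    obtain ⟨w, hw, rfl, hw1, hwa⟩ := hline z
    have h1 := (hact w hw).1
    rw [A.e₀ _ (hconj w hw), hwa, A.e₁ w hw, hw1, hc0, hb0, add_zero, mul_zero, add_zero] at h1
    exact h1
  have hai : ∀ z, A.a z = 0 → z = 0 := fun z h => by rw [← haa z, h, ha0]
  obtain ⟨σ, α, δ, -, hδ, hA, hC, hE⟩ := Cfsg.Lib.LTP.exists_semi A.a A.c A.τ hadd hai A.rel
  have hαα : α * σ α = 1 := by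
    have := haa 1
    rwa [hA 1, hA, map_one, mul_one] at this
  have hσσ : σ * σ = 1 := RingEquiv.ext fun z => by
    have := haa z
    rw [hA z, hA, map_mul, ← mul_assoc, hαα, one_mul] at this
    exact this
  have hδδ : δ * σ δ = 1 := by
    obtain ⟨w, hw, -, hw1⟩ := n.m.onto 0 1
    have h1 := (hact w hw).2
    rw [A.e₁ _ (hconj w hw), A.e₁ w hw, hw1, hC, hC, map_one, mul_one] at h1
    exact h1
  have hσ1 : σ ≠ 1 := by
    rintro rfl
    have hα : α = 1 := by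
      rcases mul_self_eq_one_iff.1 (show α * α = 1 from hαα) with h | h
      · exact h
      · rw [h, CharTwo.neg_eq]
    have hd : δ = 1 := by
      rcases mul_self_eq_one_iff.1 (show δ * δ = 1 from hδδ) with h | h
      · exact h
      · rw [h, CharTwo.neg_eq]
    refine hxJ (n.m.mem_Tk' n.v.su hP hJP (hPS.trans fun y hy => n.stab_Mr hy) hx hxU fun u hu => ?_)
    have huK := (mem_inf.1 hu).2
    have h' : x * u * x⁻¹ ∈ Kr H := (conj_mem_iff hxM).2 huK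
    obtain ⟨s, hs⟩ := p.exists_root (mem_sup_left hu)
    refine (n.m.ker _ (mul_mem h' (inv_mem huK))).1 ?_
    rw [n.m.π_mul h' (inv_mem huK), n.m.π_inv huK, A.root u huK h' s hs, hs, hE, hα, hd, div_one, one_mul,
      show (1 : F ≃+* F) s = s from rfl, mul_inv_cancel]
  -- the mixed part
  obtain ⟨⟨l, hl⟩, hπl⟩ := n.m.surj (lo 1)
  have hl' : x * l * x⁻¹ ∈ Kr H := (conj_mem_iff hxM).2 hl
  set M := n.m.π ⟨x * l * x⁻¹, hl'⟩
  refine ⟨σ, α, (M.1 0 0 - 1) * α, δ, ⟨fun w hw => ?_, fun w hw => by rw [A.e₁ w hw, hC],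
    fun u hu h' s hs => by rw [A.root u hu h' s hs, hE], hσσ, hσ1, hαα, hδδ⟩⟩
  suffices hb : ∀ z, A.b z = (M.1 0 0 - 1) * A.a z by rw [A.e₀ w hw, hb, hA, hA, mul_assoc]
  intro z
  obtain ⟨v, hv, rfl, hv1, hva⟩ := hline z
  have h1 := n.m.act₀ _ hl' _ (hconj v hv)
  rw [show x * l * x⁻¹ * (x * v * x⁻¹) * (x * l * x⁻¹)⁻¹ = x * (l * v * l⁻¹) * x⁻¹ by group,
    A.e₀ _ (conj_mem_Wr hl hv), hva, A.e₁ _ hv, hv1, hc0, n.m.act₀ l hl v hv, n.m.act₁ l hl v hv, hπl, hv1] at h1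
  simp only [LTP.lo_00, LTP.lo_01, LTP.lo_10, LTP.lo_11, one_mul, mul_zero, add_zero, zero_mul] at h1
  linear_combination h1

/-- outside the join there is an involution -/
theorem exists_invol {x : G} (hx : x ∈ P) (hxJ : x ∉ Tk H T) (hxx : x * x ∈ Tk H T) :
    ∃ y ∈ P, y ∉ Tk H T ∧ y * y = 1 := by
  have hJP : Tk H T ≤ P := n.Tk_le_T.trans hTP
  have hout : ∀ u ∈ Tk H T, ∀ x, x ∉ Tk H T → u * x ∉ Tk H T := fun u hu x hx h =>
    hx ((Subgroup.mul_mem_cancel_left _ hu).1 h)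
  -- the square can be brought into the module
  obtain ⟨x, hx, hxJ, hxx⟩ : ∃ y ∈ P, y ∉ Tk H T ∧ y * y ∈ Wr H := by
    obtain ⟨σ, α, β, δ, S⟩ := p.exists_semi hP hTP hPS hx hxJ hxx
    obtain ⟨r, hr⟩ := p.exists_root hxx
    have hfix : α / δ * σ r = r := by
      have hK := p.Tk_le_K hxx
      have h' : x * (x * x) * x⁻¹ ∈ Kr H := by rwa [show x * (x * x) * x⁻¹ = x * x by group]
      have h := S.root _ hK h' r hr
      rw [show (⟨x * (x * x) * x⁻¹, h'⟩ : ↥(Kr H)) = ⟨x * x, hK⟩ from Subtype.ext (by group), hr] at h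
      exact (LTP.up_inj h).symm
    obtain ⟨l, hl⟩ := exists_lam S.inv S.ne
    obtain ⟨u, hu, huT, hπ⟩ := n.m.lift_up (l * r)
    have huJ : u ∈ Tk H T := mem_sup_left (mem_inf.2 ⟨huT, hu⟩)
    have h' : x * u * x⁻¹ ∈ Kr H := (conj_mem_iff (n.stab_Mr (hPS hx))).2 hu
    refine ⟨u * x, mul_mem (hJP huJ) hx, hout u huJ x hxJ, ?_⟩
    rw [show u * x * (u * x) = u * (x * u * x⁻¹) * (x * x) by group]
    refine (n.m.ker _ (mul_mem (mul_mem hu h') (p.Tk_le_K hxx))).1 ?_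
    rw [n.m.π_mul (mul_mem hu h') (p.Tk_le_K hxx), n.m.π_mul hu h', hπ, S.root u hu h' _ hπ, hr, ← LTP.up_add,
      ← LTP.up_add, LTP.up_eq_one, map_mul]
    linear_combination σ l * hfix + r * hl + r * CharTwo.two_eq_zero (R := F)
  -- and further into `D`
  obtain ⟨x, hx, hxJ, hxx⟩ : ∃ y ∈ P, y ∉ Tk H T ∧ y * y ∈ Dr H := by
    have hWJ : Wr H ≤ Tk H T := (Wr_le_Qr H).trans le_sup_right
    obtain ⟨σ, α, β, δ, S⟩ := p.exists_semi hP hTP hPS hx hxJ (hWJ hxx)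
    obtain ⟨l, hl⟩ := exists_lam S.inv S.ne
    have e : x * (x * x) * x⁻¹ = x * x := by group
    have f0 := S.e₀ _ hxx
    have f1 := S.e₁ _ hxx
    rw [e] at f0 f1
    obtain ⟨w, hw, hw0, hw1⟩ := n.m.onto (l * n.m.c₀ (x * x)) (l * n.m.c₁ (x * x))
    have hxw : x * w * x⁻¹ ∈ Wr H := (conj_mem_iff (Mr_norm_Wr H (n.stab_Mr (hPS hx)))).2 hw
    refine ⟨w * x, mul_mem (hJP (hWJ hw)) hx, hout w (hWJ hw) x hxJ, n.v.Zr_le_Dr ?_⟩
    rw [show w * x * (w * x) = w * (x * w * x⁻¹) * (x * x) by group]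
    refine (n.m.zero_iff _ (mul_mem (mul_mem hw hxw) hxx)).1 ⟨?_, ?_⟩
    · rw [n.m.add₀ _ (mul_mem hw hxw) _ hxx, n.m.add₀ _ hw _ hxw, S.e₀ w hw, hw0, hw1, map_mul, map_mul]
      linear_combination (-σ l) * f0 + n.m.c₀ (x * x) * hl + n.m.c₀ (x * x) * CharTwo.two_eq_zero (R := F)
    · rw [n.m.add₁ _ (mul_mem hw hxw) _ hxx, n.m.add₁ _ hw _ hxw, S.e₁ w hw, hw1, map_mul]
      linear_combination (-σ l) * f1 + n.m.c₁ (x * x) * hl + n.m.c₁ (x * x) * CharTwo.two_eq_zero (R := F)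
  -- look from the other side
  set e := g * (x * x) * g⁻¹ with he
  have heD : e ∈ cjg g (Dr H) := Cfsg.Lib.LTP.cjg_mem hxx
  set x' := g * x * g⁻¹
  have hx'x : x' * x' = e := by simp only [x', he]; group
  have hx'J : x' ∉ Tk H T := fun h => hxJ ((conj_mem_iff n.norm_Tk).1 h)
  obtain ⟨σ, α, β, δ, S⟩ := p.exists_semi (P := cjg g P) (hP.map _)
    (by rw [← n.v.cjg_T]; exact cjg_mono g hTP)
    (by rintro _ ⟨y, hy, rfl⟩; exact (n.stab_conj (hPS hy)).1)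
    (Cfsg.Lib.LTP.cjg_mem hx) hx'J (hx'x ▸ mem_sup_right (n.D'_le_Q heD))
  obtain ⟨l, hl⟩ := exists_lam S.inv S.ne
  obtain ⟨d, hd, hd0⟩ := p.surj (l * n.m.c₀ e)
  have hx'S : x' ∈ twinStab (Qr H) (cjg g (Qr H)) := (n.stab_conj (hPS hx)).1
  have f0 := S.e₀ _ (p.D'W heD)
  rw [show x' * e * x'⁻¹ = e by rw [← hx'x]; group, p.D'_c₁ heD, map_zero, mul_zero, add_zero] at f0
  have hcd := n.stab_D' hx'S hd
  have hprod : d * (x' * d * x'⁻¹) = e := p.D'_inj (mul_mem hd hcd) heD (by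
    rw [n.m.add₀ _ (p.D'W hd) _ (p.D'W hcd), S.e₀ d (p.D'W hd), hd0, p.D'_c₁ hd, map_zero, mul_zero, add_zero,
      map_mul]
    linear_combination (-σ l) * f0 + n.m.c₀ e * hl)
  set v := g⁻¹ * d * g
  have hvD : v ∈ Dr H := mem_cjg_iff.1 hd
  refine ⟨v * x, mul_mem (hJP (mem_sup_right (mem_Dr.1 hvD).1)) hx,
    hout v (mem_sup_right (mem_Dr.1 hvD).1) x hxJ, ?_⟩
  have e2 : e * e = 1 := n.sq_Q (n.D'_le_Q heD)
  calc v * x * (v * x) = g⁻¹ * (d * (x' * d * x'⁻¹) * (x' * x')) * g := by simp only [v, x']; group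
    _ = 1 := by rw [hprod, hx'x, e2, mul_one, inv_mul_cancel]

variable {x : G} (hx : x ∈ P) (hxJ : x ∉ Tk H T) (h2 : x * x = 1)
include hx hxJ h2

/-- an element of order three centralising the involution, and a fixed point of `D'` -/
theorem exists_d : ∃ (d : G) (hd : d ∈ Kr H), d * d * d = 1 ∧ x * d = d * x ∧ (n.m.π ⟨d, hd⟩).1 1 0 ≠ 0 ∧
    ∃ e ∈ cjg g (Dr H), e ≠ 1 ∧ x * e = e * x := by
  letI := Fintype.ofFinite F
  have hxi : x⁻¹ = x := inv_eq_of_mul_eq_one_right h2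
  have hxS := hPS hx
  have hxM := n.stab_Mr hxS
  have hWn := Mr_norm_Wr H hxM
  have hconj : ∀ w ∈ Wr H, x * w * x⁻¹ ∈ Wr H := fun w hw => (conj_mem_iff hWn).2 hw
  obtain ⟨σ, α, β, δ, S⟩ := p.exists_semi hP hTP hPS hx hxJ (by rw [h2]; exact one_mem _)
  obtain ⟨q, hq, hqf⟩ := Cfsg.Lib.LTP.fix_ne_zero S.inv S.ne S.αα
  obtain ⟨y, hy, hyf⟩ := Cfsg.Lib.LTP.fix_ne_zero S.inv S.ne S.δδ
  obtain ⟨l, hl⟩ := exists_lam S.inv S.ne
  have hrel : α * σ β + β * σ δ = 0 := by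
    obtain ⟨w, hw, hw0, hw1⟩ := n.m.onto 0 1
    have h1 := S.e₀ _ (hconj w hw)
    rw [show x * (x * w * x⁻¹) * x⁻¹ = x * x * w * (x * x)⁻¹ by group, h2, one_mul, inv_one, mul_one,
      S.e₀ w hw, S.e₁ w hw, hw0, hw1, map_zero, mul_zero, zero_add, map_one, mul_one, mul_one] at h1
    exact h1.symm
  have hσσ : ∀ a, σ (σ a) = a := fun a => congrArg (fun f : F ≃+* F => f a) S.inv
  set b := β * σ y
  set z := l * b
  have hb : α * σ b = b := by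
    simp only [b, map_mul, hσσ]
    have h3 : σ δ * y = σ y := by
      have := congrArg σ hyf
      rwa [map_mul, hσσ] at this
    linear_combination y * hrel - β * h3 - β * σ y * CharTwo.two_eq_zero (R := F)
  have hzf : α * σ z + β * σ y = z := by
    simp only [z, map_mul]
    linear_combination σ l * hb + b * hl + (b - l * b) * CharTwo.two_eq_zero (R := F)
  -- the matrix moving the fixed vectors
  set A : SL2 F := ⟨!![z / q, (q + z + z * z / q) / y; y / q, 1 + z / q], by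
    rw [Matrix.det_fin_two]
    simp only [Matrix.of_apply, Matrix.cons_val', Matrix.cons_val_zero, Matrix.cons_val_one,
      Matrix.cons_val_fin_one, Matrix.empty_val']
    field_simp
    linear_combination (-(q * q)) * CharTwo.two_eq_zero (R := F)⟩ with hA
  have A00 : A.1 0 0 = z / q := by simp [hA]
  have A01 : A.1 0 1 = (q + z + z * z / q) / y := by simp [hA]
  have A10 : A.1 1 0 = y / q := by simp [hA]
  have A11 : A.1 1 1 = 1 + z / q := by simp [hA]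
  have hA3 : A * A * A = 1 := by
    have hd := Cfsg.Lib.LTP.det2 A
    have ht : A.1 0 0 + A.1 1 1 = 1 := by
      rw [A00, A11]
      linear_combination z / q * CharTwo.two_eq_zero (R := F)
    refine Cfsg.Lib.LTP.ext2 ?_ ?_ ?_ ?_ <;>
      simp only [Cfsg.Lib.LTP.mul_00, Cfsg.Lib.LTP.mul_01, Cfsg.Lib.LTP.mul_10, Cfsg.Lib.LTP.mul_11,
        Matrix.SpecialLinearGroup.coe_one, Matrix.one_apply_eq, ne_eq, zero_ne_one, one_ne_zero,
        not_false_eq_true, Matrix.one_apply_ne] <;>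
      grind [CharTwo.two_eq_zero]
  obtain ⟨⟨d₁, hd₁⟩, hπ₁⟩ := n.m.surj A
  have hd₁3 : d₁ ^ 3 ∈ Wr H := (n.m.ker _ (pow_mem hd₁ 3)).1 (by
    rw [show (⟨d₁ ^ 3, _⟩ : ↥(Kr H)) = ⟨d₁, hd₁⟩ ^ 3 from rfl, map_pow, hπ₁, pow_succ, pow_succ, pow_one, hA3])
  set d := d₁ ^ 4 with hddef
  have hd : d ∈ Kr H := pow_mem hd₁ 4
  have hd3 : d * d * d = 1 := by
    calc d * d * d = (d₁ ^ 3) ^ 2 * (d₁ ^ 3) ^ 2 := by rw [hddef, ← pow_add, ← pow_add, ← pow_mul, ← pow_add]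
      _ = 1 := by rw [pow_two, n.m.sq _ hd₁3, one_mul]
  have hπ : n.m.π ⟨d, hd⟩ = A := by
    rw [show (⟨d, hd⟩ : ↥(Kr H)) = ⟨d₁, hd₁⟩ ^ 4 from rfl, map_pow, hπ₁, pow_succ, pow_succ, pow_succ, pow_one, hA3,
      one_mul]
  -- the conjugate has the same image
  have hd' : x * d * x⁻¹ ∈ Kr H := (conj_mem_iff hxM).2 hd
  have hπ' : n.m.π ⟨x * d * x⁻¹, hd'⟩ = A := by
    have hmove : ∀ a b, α * σ a + β * σ b = a → δ * σ b = b →
        α * σ (A.1 0 0 * a + A.1 0 1 * b) + β * σ (A.1 1 0 * a + A.1 1 1 * b) = A.1 0 0 * a + A.1 0 1 * b →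
        δ * σ (A.1 1 0 * a + A.1 1 1 * b) = A.1 1 0 * a + A.1 1 1 * b →
        (n.m.π ⟨x * d * x⁻¹, hd'⟩).1 0 0 * a + (n.m.π ⟨x * d * x⁻¹, hd'⟩).1 0 1 * b =
          A.1 0 0 * a + A.1 0 1 * b ∧
        (n.m.π ⟨x * d * x⁻¹, hd'⟩).1 1 0 * a + (n.m.π ⟨x * d * x⁻¹, hd'⟩).1 1 1 * b =
          A.1 1 0 * a + A.1 1 1 * b := by
      intro a b f0 f1 g0 g1
      obtain ⟨w, hw, hwa, hwb⟩ := n.m.onto a b
      have hw' := hconj w hw
      have hw'' := conj_mem_Wr hd hw'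
      have e : x * d * x⁻¹ * w * (x * d * x⁻¹)⁻¹ = x * (d * (x * w * x⁻¹) * d⁻¹) * x⁻¹ := by
        simp only [mul_inv_rev, hxi]; group
      have c0 : n.m.c₀ (x * w * x⁻¹) = a := by rw [S.e₀ w hw, hwa, hwb, f0]
      have c1 : n.m.c₁ (x * w * x⁻¹) = b := by rw [S.e₁ w hw, hwb, f1]
      refine ⟨?_, ?_⟩
      · rw [← hwa, ← hwb, ← n.m.act₀ _ hd' w hw, e, S.e₀ _ hw'', n.m.act₀ d hd _ hw', n.m.act₁ d hd _ hw', hπ, c0, c1,
          hwa, hwb, g0]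
      · rw [← hwa, ← hwb, ← n.m.act₁ _ hd' w hw, e, S.e₁ _ hw'', n.m.act₁ d hd _ hw', hπ, c0, c1, hwa, hwb, g1]
    have i0 : A.1 0 0 * q + A.1 0 1 * 0 = z := by rw [A00]; field_simp; ring
    have i1 : A.1 1 0 * q + A.1 1 1 * 0 = y := by rw [A10]; field_simp; ring
    have j0 : A.1 0 0 * z + A.1 0 1 * y = q + z := by
      rw [A00, A01]; field_simp
      linear_combination z * z * CharTwo.two_eq_zero (R := F)
    have j1 : A.1 1 0 * z + A.1 1 1 * y = y := by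
      rw [A10, A11]; field_simp
      linear_combination z * CharTwo.two_eq_zero (R := F)
    obtain ⟨h0, h1⟩ := hmove q 0 (by rw [map_zero, mul_zero, add_zero, hqf]) (by simp)
      (by rw [i0, i1]; exact hzf) (by rw [i1]; exact hyf)
    obtain ⟨h2', h3⟩ := hmove z y hzf hyf
      (by rw [j0, j1, map_add]; linear_combination hqf + hzf) (by rw [j1]; exact hyf)
    simp only [mul_zero, add_zero] at h0 h1
    exact Cfsg.Lib.LTP.pair_eq hq hy h0 h1 h2' h3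
  set w₀ := x * d * x⁻¹ * d⁻¹ with hw₀
  have hw₀W : w₀ ∈ Wr H := (n.m.ker _ (mul_mem hd' (inv_mem hd))).1 (by
    rw [n.m.π_mul hd' (inv_mem hd), n.m.π_inv hd, hπ', hπ, mul_inv_cancel])
  have hwi := inv_of_sq n.m.sq hw₀W
  have hxd : x * d * x⁻¹ = w₀ * d := by rw [hw₀]; group
  have hxw₀ : x * w₀ * x⁻¹ = w₀ := by
    rw [← hwi]
    have h3 : x * w₀ * x⁻¹ = x * x * d * (x * x)⁻¹ * (x * d * x⁻¹)⁻¹ := by rw [hw₀]; group
    rw [hwi, h3, h2, one_mul, inv_one, mul_one, hxd, mul_inv_rev, hwi, ← mul_assoc, mul_inv_cancel, one_mul]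
  set v₀ := d * w₀ * d⁻¹
  have hv₀ : v₀ ∈ Wr H := conj_mem_Wr hd hw₀W
  set v₁ := d * v₀ * d⁻¹
  have hv₁ : v₁ ∈ Wr H := conj_mem_Wr hd hv₀
  have hrelW : w₀ * v₀ * v₁ = 1 := by
    have h4 : (x * d * x⁻¹) * (x * d * x⁻¹) * (x * d * x⁻¹) = 1 := by
      rw [show (x * d * x⁻¹) * (x * d * x⁻¹) * (x * d * x⁻¹) = x * (d * d * d) * x⁻¹ by group, hd3, mul_one,
        mul_inv_cancel]
    rw [hxd] at h4
    calc w₀ * v₀ * v₁ = w₀ * d * (w₀ * d) * (w₀ * d) * (d * d * d)⁻¹ := by simp only [v₀, v₁]; group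
      _ = 1 := by rw [h4, hd3, inv_one, mul_one]
  have hxv₀ : x * v₀ * x⁻¹ = v₀ := by
    rw [show x * v₀ * x⁻¹ = x * d * x⁻¹ * (x * w₀ * x⁻¹) * (x * d * x⁻¹)⁻¹ by simp only [v₀]; group, hxw₀, hxd,
      show w₀ * d * w₀ * (w₀ * d)⁻¹ = w₀ * v₀ * w₀⁻¹ by simp only [v₀]; group, n.m.comm hw₀W hv₀,
      mul_inv_cancel_right]
  obtain ⟨w, hw, hw0, hw1⟩ := n.m.onto (l * n.m.c₀ v₀) (l * n.m.c₁ v₀)
  have hxw := hconj w hw
  set w₁ := x * w * x⁻¹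
  set v := w * w₁ with hv
  have hvW : v ∈ Wr H := mul_mem hw hxw
  have hz : v * v₀ ∈ Zr H := by
    have f0 := S.e₀ v₀ hv₀
    have f1 := S.e₁ v₀ hv₀
    rw [hxv₀] at f0 f1
    refine n.m.ext_mod hvW hv₀ ?_ ?_
    · rw [n.m.add₀ _ hw _ hxw, S.e₀ w hw, hw0, hw1, map_mul, map_mul]
      linear_combination (-σ l) * f0 + n.m.c₀ v₀ * hl
    · rw [n.m.add₁ _ hw _ hxw, S.e₁ w hw, hw1, map_mul]
      linear_combination (-σ l) * f1 + n.m.c₁ v₀ * hl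
  have hkey : v * w₀ * (d * v * d⁻¹) = 1 := by
    obtain ⟨hzW, hzK⟩ := mem_Zr.1 hz
    set c := v * v₀
    have ev : v = c * v₀ := by simp only [c]; rw [mul_assoc, n.m.sq v₀ hv₀, mul_one]
    have edv : d * v * d⁻¹ = c * v₁ := by
      rw [ev, show d * (c * v₀) * d⁻¹ = d * c * d⁻¹ * (d * v₀ * d⁻¹) by group, hzK d hd, mul_inv_cancel_right]
    calc v * w₀ * (d * v * d⁻¹) = c * (v₀ * w₀) * (c * v₁) := by rw [edv, ev]; group
      _ = c * (w₀ * v₀ * c) * v₁ := by rw [n.m.comm hv₀ hw₀W]; group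
      _ = c * c * (w₀ * v₀ * v₁) := by rw [← n.m.comm hzW (mul_mem hw₀W hv₀)]; group
      _ = 1 := by rw [n.m.sq c hzW, hrelW, mul_one]
  obtain ⟨e, he, he0⟩ := p.surj q
  have he1 : e ≠ 1 := fun h => hq (by rw [← he0, h, n.m.c_one.1])
  have hex : x * e * x⁻¹ = e := p.D'_inj (n.stab_D' hxS he) he (by
    rw [S.e₀ e (p.D'W he), he0, p.D'_c₁ he, map_zero, mul_zero, add_zero, hqf])
  refine ⟨w * d * w⁻¹, mul_mem (mul_mem (Wr_le_Kr H hw) hd) (inv_mem (Wr_le_Kr H hw)), ?_, ?_, ?_, e, he, he1,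
    mul_inv_eq_iff_eq_mul.1 hex⟩
  · rw [show w * d * w⁻¹ * (w * d * w⁻¹) * (w * d * w⁻¹) = w * (d * d * d) * w⁻¹ by group, hd3, mul_one,
      mul_inv_cancel]
  · refine mul_inv_eq_iff_eq_mul.1 ?_
    have hww := inv_of_sq n.m.sq hw
    have e1 : w₁ = w * v := by rw [hv, ← mul_assoc, n.m.sq w hw, one_mul]
    have e2 : w₁⁻¹ = v * w⁻¹ := by
      rw [inv_of_sq n.m.sq hxw, hww, e1, n.m.comm hw hvW]
    calc x * (w * d * w⁻¹) * x⁻¹ = w₁ * (x * d * x⁻¹) * w₁⁻¹ := by simp only [w₁]; group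
      _ = w * v * (w₀ * d) * (v * w⁻¹) := by rw [hxd, e2, e1]
      _ = w * (v * w₀ * (d * v * d⁻¹)) * (d * w⁻¹) := by group
      _ = w * d * w⁻¹ := by rw [hkey, mul_one, mul_assoc]
  · rw [show (⟨w * d * w⁻¹, _⟩ : ↥(Kr H)) = ⟨w, Wr_le_Kr H hw⟩ * ⟨d, hd⟩ * ⟨w, Wr_le_Kr H hw⟩⁻¹ from rfl,
      map_mul, map_mul, map_inv, (n.m.ker w (Wr_le_Kr H hw)).2 hw, hπ, inv_one, one_mul, mul_one, A10]
    exact div_ne_zero hy hq

/-- a fixed point in the moved core, outside the core -/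
theorem exists_fixed' : ∃ y ∈ cjg g (Qr H), y ∉ Qr H ∧ x * y = y * x := by
  set x'' := g⁻¹ * x * g
  have hT' : T ≤ cjg g⁻¹ P := by rw [← n.v.inv.cjg_T]; exact cjg_mono g⁻¹ hTP
  have hx'' : x'' ∈ cjg g⁻¹ P := mem_cjg_iff.2 (by simpa [x'', mul_assoc] using hx)
  have hx''J : x'' ∉ Tk H T := fun h => hxJ (by
    simpa [x'', mul_assoc] using (conj_mem_iff n.norm_Tk).2 h)
  obtain ⟨d, hd, -, hdx, h10, e, he, he1, hex⟩ := p.exists_d (hP.map _) hT' (P := cjg g⁻¹ P)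
    (by
      rintro _ ⟨y, hy, rfl⟩
      simpa [mul_assoc] using (n.stab_conj (hPS hy)).2)
    hx'' hx''J (by simp only [x'']; rw [show g⁻¹ * x * g * (g⁻¹ * x * g) = g⁻¹ * (x * x) * g by group, h2]; simp)
  set q := d * e * d⁻¹
  have hqW : q ∈ Wr H := conj_mem_Wr hd (p.D'W he)
  have hq1 : n.m.c₁ q ≠ 0 := by
    rw [n.m.act₁ d hd e (p.D'W he), p.D'_c₁ he, mul_zero, add_zero]
    exact mul_ne_zero h10 fun h => he1 (p.D'_zero he h)
  refine ⟨g * q * g⁻¹, Cfsg.Lib.LTP.cjg_mem (Wr_le_Qr H hqW), fun h => hq1 ?_, ?_⟩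
  · refine (n.low_eq.le (mem_inf.2 ⟨hqW, ?_⟩)).2
    rw [← n.cjg_inv_Q]
    exact mem_cjg_iff.2 (by simpa using h)
  · have hc : x'' * q = q * x'' := ((Commute.mul_right hdx hex).mul_right (Commute.inv_right hdx)).eq
    calc x * (g * q * g⁻¹) = g * (x'' * q) * g⁻¹ := by simp only [x'']; group
      _ = g * (q * x'') * g⁻¹ := by rw [hc]
      _ = g * q * g⁻¹ * x := by simp only [x'']; group

/-- the core of the centraliser meets the meet inside `D` -/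
theorem core_meet_D {r : G} (hr : r ∈ Cfsg.pCoreOf 2 (normalizer (zpowers x : Set G)))
    (hrR : r ∈ Qr H ⊓ cjg g (Qr H)) : r ∈ Dr H := by
  set X := normalizer (zpowers x : Set G)
  set R₀ := Cfsg.pCoreOf 2 X
  have hx1 : x ≠ 1 := fun e => hxJ (e ▸ one_mem _)
  have hX : ∀ k, k ∈ X ↔ k * x = x * k := fun k => Cfsg.Lib.LTP.mem_norm_invol h2 hx1
  have hXR : X ≤ normalizer (R₀ : Set G) := le_normalizer.trans (Cfsg.Lib.JComp.normalizer_le_pCoreOf 2 X)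
  have hxS := hPS hx
  obtain ⟨δ, hδ, d', hd', rfl⟩ := p.R_dec hrR
  have hfix : x * d' * x⁻¹ = d' := by
    have hc : x * (δ * d') * x⁻¹ = δ * d' := by
      rw [← (hX _).1 (Cfsg.Lib.JComp.pCoreOf_le X hr), mul_inv_cancel_right]
    rw [show x * (δ * d') * x⁻¹ = x * δ * x⁻¹ * (x * d' * x⁻¹) by group] at hc
    exact (n.dec_unique (n.stab_D hxS hδ) hδ (n.stab_D' hxS hd') hd' hc).2
  by_contra hne
  have hd'1 : d' ≠ 1 := fun e => hne (by rw [e, mul_one]; exact hδ)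
  obtain ⟨d, hd, -, hdx, h10, -⟩ := p.exists_d hP hTP hPS hx hxJ h2
  set r := δ * d'
  set q₀ := d * r * d⁻¹
  have hq₀R : q₀ ∈ R₀ := (conj_mem_iff (hXR ((hX d).2 hdx.symm))).2 hr
  have hrW : r ∈ Wr H := mul_mem (mem_Zr.1 (p.DZ hδ)).1 (p.D'W hd')
  have hq₀W : q₀ ∈ Wr H := conj_mem_Wr hd hrW
  have hq₀1 : n.m.c₁ q₀ ≠ 0 := by
    rw [n.m.act₁ d hd r hrW, n.m.add₀ _ (mem_Zr.1 (p.DZ hδ)).1 _ (p.D'W hd'),
      n.m.add₁ _ (mem_Zr.1 (p.DZ hδ)).1 _ (p.D'W hd'), (p.D_zero hδ).1, (p.D_zero hδ).2, p.D'_c₁ hd',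
      zero_add, zero_add, mul_zero, add_zero]
    exact mul_ne_zero h10 fun h => hd'1 (p.D'_zero hd' h)
  -- the same point seen from the other module
  set x'' := g⁻¹ * x * g
  obtain ⟨d₂, hd₂, -, hd₂x, h10', -⟩ := p.exists_d (hP.map _) (P := cjg g⁻¹ P)
    (by rw [← n.v.inv.cjg_T]; exact cjg_mono g⁻¹ hTP)
    (by rintro _ ⟨y, hy, rfl⟩; simpa [mul_assoc] using (n.stab_conj (hPS hy)).2)
    (x := x'') (mem_cjg_iff.2 (by simpa [x'', mul_assoc] using hx))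
    (fun h => hxJ (by simpa [x'', mul_assoc] using (conj_mem_iff n.norm_Tk).2 h))
    (by simp only [x'']; rw [show g⁻¹ * x * g * (g⁻¹ * x * g) = g⁻¹ * (x * x) * g by group, h2]; simp)
  set d₃ := g * d₂ * g⁻¹
  have hd₃ : d₃ ∈ X := (hX _).2 (by
    calc d₃ * x = g * (d₂ * x'') * g⁻¹ := by simp only [d₃, x'']; group
      _ = g * (x'' * d₂) * g⁻¹ := by rw [hd₂x]
      _ = x * d₃ := by simp only [d₃, x'']; group)
  set q'' := g⁻¹ * q₀ * g with hq''def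
  have hq''Q' : q'' ∈ cjg g (Qr H) := by
    rw [← n.cjg_inv_Q]
    exact mem_cjg_iff.2 (by simpa [hq''def, mul_assoc] using Wr_le_Qr H hq₀W)
  obtain ⟨s, hs⟩ := p.exists_root (n.Q'_le hq''Q')
  have hq''K : q'' ∈ Kr H := p.Tk_le_K (n.Q'_le hq''Q')
  have hs0 : s ≠ 0 := by
    rintro rfl
    rw [LTP.up_zero, n.m.ker q'' hq''K] at hs
    refine hq₀1 (n.low_eq.le (mem_inf.2 ⟨hq₀W, ?_⟩)).2
    have h1 := Cfsg.Lib.LTP.cjg_mem (g := g) (Wr_le_Qr H hs)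
    simpa [hq''def, mul_assoc] using h1
  set E := q₀ * (d₃ * q₀ * d₃⁻¹)
  have hER : E ∈ R₀ := mul_mem hq₀R ((conj_mem_iff (hXR hd₃)).2 hq₀R)
  obtain ⟨k, hk⟩ := Cfsg.Lib.JComp.isPGroup_pCoreOf X ⟨E, hER⟩
  set E'' := q'' * (d₂ * q'' * d₂⁻¹)
  have hE''K : E'' ∈ Kr H := mul_mem hq''K (mul_mem (mul_mem hd₂ hq''K) (inv_mem hd₂))
  have hE'' : E'' = MulAut.conj g⁻¹ E := by
    simp only [E'', E, d₃, hq''def, MulAut.conj_apply]; group
  have hEk : (⟨E'', hE''K⟩ : ↥(Kr H)) ^ 2 ^ k = 1 := Subtype.ext (by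
    show E'' ^ 2 ^ k = 1
    rw [hE'', ← map_pow, show E ^ 2 ^ k = 1 from congrArg Subtype.val hk, map_one])
  have h0 := Cfsg.Lib.LTP.trace_two k (n.m.π ⟨E'', hE''K⟩) (by rw [← map_pow, hEk, map_one])
  rw [show (⟨E'', hE''K⟩ : ↥(Kr H)) = ⟨q'', hq''K⟩ * (⟨d₂, hd₂⟩ * ⟨q'', hq''K⟩ * ⟨d₂, hd₂⟩⁻¹) from rfl, map_mul,
    map_mul, map_mul, map_inv, hs, Cfsg.Lib.LTP.trace_conj_up] at h0
  exact mul_ne_zero (mul_ne_zero hs0 hs0) (mul_ne_zero h10' h10') h0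

/-- the core of the centraliser meets the meet trivially -/
theorem core_meet_R {r : G} (hr : r ∈ Cfsg.pCoreOf 2 (normalizer (zpowers x : Set G)))
    (hrR : r ∈ Qr H ⊓ cjg g (Qr H)) : r = 1 := by
  have hrD := p.core_meet_D hP hTP hPS hx hxJ h2 hr hrR
  have hr'D : g * r * g⁻¹ ∈ cjg g (Dr H) := Cfsg.Lib.LTP.cjg_mem hrD
  have hx1 : x ≠ 1 := fun e => hxJ (e ▸ one_mem _)
  have h2' : g * x * g⁻¹ * (g * x * g⁻¹) = 1 := by
    rw [show g * x * g⁻¹ * (g * x * g⁻¹) = g * (x * x) * g⁻¹ by group, h2, mul_one, mul_inv_cancel]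
  have hX' : cjg g (normalizer (zpowers x : Set G)) = normalizer (zpowers (g * x * g⁻¹) : Set G) := by
    ext k
    rw [mem_cjg_iff, Cfsg.Lib.LTP.mem_norm_invol h2 hx1,
      Cfsg.Lib.LTP.mem_norm_invol h2' fun e => hx1 (conj_eq_one_iff.1 e)]
    constructor
    · intro h
      calc k * (g * x * g⁻¹) = g * (g⁻¹ * k * g * x) * g⁻¹ := by group
        _ = g * (x * (g⁻¹ * k * g)) * g⁻¹ := by rw [h]
        _ = _ := by group
    · intro h
      calc g⁻¹ * k * g * x = g⁻¹ * (k * (g * x * g⁻¹)) * g := by group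
        _ = g⁻¹ * (g * x * g⁻¹ * k) * g := by rw [h]
        _ = _ := by group
  have hr'core : g * r * g⁻¹ ∈ Cfsg.pCoreOf 2 (normalizer (zpowers (g * x * g⁻¹) : Set G)) := by
    rw [← hX', show Cfsg.pCoreOf 2 (cjg g (normalizer (zpowers x : Set G))) =
      cjg g (Cfsg.pCoreOf 2 (normalizer (zpowers x : Set G))) from Cfsg.Lib.JComp.pCoreOf_cj 2 g _]
    exact Cfsg.Lib.LTP.cjg_mem hr
  have h1 := p.core_meet_D (hP.map _) (P := cjg g P) (by rw [← n.v.cjg_T]; exact cjg_mono g hTP)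
    (by rintro _ ⟨y, hy, rfl⟩; exact (n.stab_conj (hPS hy)).1)
    (x := g * x * g⁻¹) (Cfsg.Lib.LTP.cjg_mem hx) (fun h => hxJ ((conj_mem_iff n.norm_Tk).1 h)) h2'
    hr'core (n.D'_le_meet hr'D)
  have h3 : g * r * g⁻¹ ∈ Dr H ⊓ cjg g (Dr H) := mem_inf.2 ⟨h1, hr'D⟩
  rw [n.v.Dr_disjoint, mem_bot, conj_eq_one_iff] at h3
  exact h3

/-- the core of the centraliser meets the core trivially -/
theorem core_meet_Q {r : G} (hr : r ∈ Cfsg.pCoreOf 2 (normalizer (zpowers x : Set G))) (hrQ : r ∈ Qr H) :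
    r = 1 := by
  set X := normalizer (zpowers x : Set G)
  have hx1 : x ≠ 1 := fun e => hxJ (e ▸ one_mem _)
  have hX : ∀ k, k ∈ X ↔ k * x = x * k := fun k => Cfsg.Lib.LTP.mem_norm_invol h2 hx1
  refine p.core_meet_R hP hTP hPS hx hxJ h2 hr (mem_inf.2 ⟨hrQ, ?_⟩)
  obtain ⟨y, hy, hyQ, hxy⟩ := p.exists_fixed' hP hTP hPS hx hxJ h2
  have hXR : X ≤ normalizer (Cfsg.pCoreOf 2 X : Set G) :=
    le_normalizer.trans (Cfsg.Lib.JComp.normalizer_le_pCoreOf 2 X)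
  have hyJ := n.Q'_le hy
  have h1 := p.core_meet_R hP hTP hPS hx hxJ h2 (r := y * r * y⁻¹ * r⁻¹)
    (mul_mem ((conj_mem_iff (hXR ((hX y).2 hxy.symm))).2 hr) (inv_mem hr))
    (n.Tk_comm hyJ (mem_sup_right hrQ))
  refine n.Lw_le_Q' (n.low_of_comm hyJ hyQ (p.QW.le hrQ) ?_)
  exact mul_inv_eq_iff_eq_mul.1 (mul_inv_eq_one.1 h1)

/-- **there is no involution outside the join** -/
theorem no_invol : False := by
  haveI : Fact (Nat.Prime 2) := ⟨Nat.prime_two⟩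
  set X := normalizer (zpowers x : Set G)
  set R₀ := Cfsg.pCoreOf 2 X
  have hx1 : x ≠ 1 := fun e => hxJ (e ▸ one_mem _)
  have hX : ∀ k, k ∈ X ↔ k * x = x * k := fun k => Cfsg.Lib.LTP.mem_norm_invol h2 hx1
  have hR : IsPGroup 2 ↥R₀ := Cfsg.Lib.JComp.isPGroup_pCoreOf _
  have hRX : R₀ ≤ X := Cfsg.Lib.JComp.pCoreOf_le X
  have hXR : X ≤ normalizer (R₀ : Set G) := le_normalizer.trans (Cfsg.Lib.JComp.normalizer_le_pCoreOf 2 X)
  -- a point fixed by the whole group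
  have hDP : Dr H ≤ P := inf_le_left.trans (n.v.su.Q_le_T.trans hTP)
  have hDn : P ≤ normalizer (Dr H : Set G) := fun y hy => mem_norm_of_conj fun a ha => n.stab_D (hPS hy) ha
  obtain ⟨z, hzD, hz1, hzP⟩ : ∃ z ∈ Dr H, z ≠ 1 ∧ ∀ y ∈ P, y * z = z * y := by
    haveI := hP.isNilpotent
    have hne : Dr H ≠ ⊥ := fun e => by
      obtain ⟨d, hd, hd0⟩ := p.surj 1
      rw [e] at hd
      simp only [Cfsg.Lib.LTP.cjg, Subgroup.map_bot, mem_bot] at hd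
      rw [hd, n.m.c_one.1] at hd0
      exact zero_ne_one hd0
    haveI : Nontrivial ↥(Dr H) := (Subgroup.nontrivial_iff_ne_bot _).2 hne
    haveI : ((Dr H).subgroupOf P).Normal := normal_subgroupOf_of_le_normalizer hDn
    haveI : Nontrivial ↥((Dr H).subgroupOf P) := (subgroupOfEquivOfLe hDP).toEquiv.nontrivial
    have h := Cfsg.Lib.Coprime.inf_center_ne_bot ((Dr H).subgroupOf P)
      ((Subgroup.nontrivial_iff_ne_bot _).1 inferInstance)
    obtain ⟨⟨z, hz⟩, hzm⟩ := (Subgroup.nontrivial_iff_exists_ne_one _).1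
      ((Subgroup.nontrivial_iff_ne_bot _).2 h)
    exact ⟨z, mem_subgroupOf.1 (mem_inf.1 hzm.1).1, fun e => hzm.2 (Subtype.ext e), fun t ht =>
      congrArg Subtype.val (mem_center_iff.1 (mem_inf.1 hzm.1).2 ⟨t, ht⟩)⟩
  have hz2 : z * z = 1 := n.sq_Q (mem_Dr.1 hzD).1
  have hcz : ∀ c : G, c * z = z * c → c ∈ Mr H := by
    have hN : ∀ k, k ∈ normalizer (zpowers z : Set G) ↔ k * z = z * k := fun k =>
      Cfsg.Lib.LTP.mem_norm_invol hz2 hz1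
    have hM := n.v.su.local_le (Cfsg.Lib.LTP.two_of_pow (g := z) (k := 1) (by rw [pow_one, pow_two, hz2]))
      (fun e => hz1 (zpowers_eq_bot.1 e))
      (n.v.su.sup_eq.ge.trans (sup_le (fun k hk => (hN k).2 ((mem_Dr.1 hzD).2 k hk))
        fun t ht => (hN t).2 (hzP t (hTP ht))))
    exact fun c hc => hM ((hN c).2 hc)
  obtain ⟨d, hd, hd3, hdx, h10, -⟩ := p.exists_d hP hTP hPS hx hxJ h2
  have hdX : d ∈ X := (hX d).2 hdx.symm
  obtain ⟨y, hy, hyQ, hxy⟩ := p.exists_fixed' hP hTP hPS hx hxJ h2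
  have hyK := p.Tk_le_K (n.Q'_le hy)
  obtain ⟨s, hs⟩ := p.exists_root (n.Q'_le hy)
  have hs0 : s ≠ 0 := by
    rintro rfl
    rw [LTP.up_zero, n.m.ker y hyK] at hs
    exact hyQ (Wr_le_Qr H hs)
  -- the image of the part of the core in the odd residual
  set Λ := ((Kr H ⊓ R₀).subgroupOf (Kr H)).map n.m.π
  have hΛ : IsPGroup 2 ↥Λ :=
    ((hR.to_le inf_le_right).comap_of_injective (Kr H).subtype Subtype.val_injective).map _
  have hΛn : ∀ (a : G) (ha : a ∈ Kr H), a ∈ X → ∀ B ∈ Λ, n.m.π ⟨a, ha⟩ * B * (n.m.π ⟨a, ha⟩)⁻¹ ∈ Λ := by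
    rintro a ha haX _ ⟨⟨k, hk⟩, hkR, rfl⟩
    refine ⟨⟨a, ha⟩ * ⟨k, hk⟩ * ⟨a, ha⟩⁻¹, mem_subgroupOf.2 (mem_inf.2
      ⟨mul_mem (mul_mem ha hk) (inv_mem ha), (conj_mem_iff (hXR haX)).2 (mem_inf.1 hkR).2⟩), ?_⟩
    rw [map_mul, map_mul, map_inv]
  have hΛ1 : ∀ B ∈ Λ, B = 1 := by
    intro B hB
    have hup : up s ∈ normalizer (Λ : Set (SL2 F)) :=
      mem_norm_of_conj fun b hb => hs ▸ hΛn y hyK ((hX y).2 hxy.symm) b hb
    have h2s : IsPGroup 2 ↥(zpowers (up s)) := Cfsg.Lib.LTP.two_of_pow (k := 1) (by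
      rw [pow_one, pow_two, ← LTP.up_add, CharTwo.add_self_eq_zero, LTP.up_zero])
    obtain ⟨c, hc⟩ := exists_conj_up (Λ ⊔ zpowers (up s))
      (hΛ.to_sup_of_normal_left' h2s (zpowers_le.2 hup))
    have hBup : B = up (B.1 0 1) := eq_up_of_comm hs0 (comm_of_conj_up (hc B (mem_sup_left hB))
      (hc (up s) (mem_sup_right (mem_zpowers _))))
    -- moved by the element of order three
    have hC := hΛn d hd hdX B hB
    set A := n.m.π ⟨d, hd⟩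
    obtain ⟨e, he⟩ : ∃ e, A * B * A⁻¹ = up e :=
      ⟨_, eq_up_of_comm hs0 (comm_of_conj_up (hc _ (mem_sup_left hC))
        (hc (up s) (mem_sup_right (mem_zpowers _))))⟩
    rw [hBup, mul_inv_eq_iff_eq_mul] at he
    have e11 := congrArg (fun M : SL2 F => M.1 1 1) he
    simp only [Cfsg.Lib.LTP.mul_11, LTP.up_01, LTP.up_10, LTP.up_11, mul_one, one_mul, zero_mul, zero_add] at e11
    have : A.1 1 0 * B.1 0 1 = 0 := by linear_combination e11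
    rw [hBup, (mul_eq_zero.1 this).resolve_left h10, LTP.up_zero]
  have hfixd : ∀ a ∈ R₀, a * z = z * a → d * a = a * d := by
    intro a ha haz
    set k := a * d * a⁻¹ * d⁻¹
    have hkK : k ∈ Kr H := mul_mem ((conj_mem_iff (hcz a haz)).2 hd) (inv_mem hd)
    have hkR : k ∈ R₀ := by
      rw [show k = a * (d * a⁻¹ * d⁻¹) by simp only [k]; group]
      exact mul_mem ha ((conj_mem_iff (hXR hdX)).2 (inv_mem ha))
    have hk1 := hΛ1 _ ⟨⟨k, hkK⟩, mem_subgroupOf.2 (mem_inf.2 ⟨hkK, hkR⟩), rfl⟩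
    have := p.core_meet_Q hP hTP hPS hx hxJ h2 hkR (Wr_le_Qr H ((n.m.ker k hkK).1 hk1))
    exact (mul_inv_eq_iff_eq_mul.1 (mul_inv_eq_one.1 this)).symm
  have hdpow : d ^ 3 = 1 := by rw [pow_succ, pow_two, hd3]
  have hodd : Odd (orderOf d) := Odd.of_dvd_nat (by decide : Odd 3) (orderOf_dvd_of_pow_eq_one hdpow)
  have hall := Cfsg.Lib.Known.InvTwo.centralizes_of_AB hz2 hR ((mem_Dr.1 hzD).2 d hd) hodd
    (hXR ((hX z).2 (hzP x hx).symm)) (hXR hdX) fun a ha hac => hfixd a ha hac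
  have hdR := Cfsg.Lib.LTP.loc_core n.v.su.char2 (Cfsg.Lib.LTP.two_of_pow (g := x) (k := 1)
    (by rw [pow_one, pow_two, h2])) (fun e => hx1 (zpowers_eq_bot.1 e)) hdX hall
  obtain ⟨k, hk⟩ := hR ⟨d, hdR⟩
  have hk' : orderOf d ∣ 2 ^ k := orderOf_dvd_of_pow_eq_one (congrArg Subtype.val hk)
  obtain ⟨i, -, hi⟩ := (Nat.dvd_prime_pow Nat.prime_two).1 hk'
  have hi0 : i = 0 := by
    by_contra h
    rw [hi] at hodd
    exact Nat.not_odd_iff_even.2 ((Nat.even_pow' h).2 even_two) hodd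
  rw [hi0, pow_zero, orderOf_eq_one_iff] at hi
  refine h10 ?_
  rw [show (⟨d, hd⟩ : ↥(Kr H)) = 1 from Subtype.ext hi, map_one]
  simp

end Split

namespace Split

variable {n} (p : n.Split)
include p

/-- **a 2-subgroup of the stabiliser above `T` is the join** -/
theorem two_le {P : Subgroup G} (hP : IsPGroup 2 ↥P) (hTP : T ≤ P)
    (hPS : P ≤ twinStab (Qr H) (cjg g (Qr H))) : P ≤ Tk H T := by
  suffices h : ∀ k : ℕ, ∀ x ∈ P, x ^ 2 ^ k = 1 → x ∈ Tk H T by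
    intro x hx
    obtain ⟨k, hk⟩ := hP ⟨x, hx⟩
    exact h k x hx (congrArg Subtype.val hk)
  intro k
  induction k with
  | zero => intro x _ h; rw [pow_zero, pow_one] at h; rw [h]; exact one_mem _
  | succ k ih =>
    intro x hx h
    by_contra hxJ
    have hxx : x * x ∈ Tk H T := ih _ (mul_mem hx hx) (by rw [← pow_two, ← pow_mul, ← pow_succ']; exact h)
    obtain ⟨y, hy, hyJ, hy2⟩ := p.exists_invol hP hTP hPS hx hxJ hxx
    exact p.no_invol hP hTP hPS hy hyJ hy2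

theorem T_eq : Tk H T = T := le_antisymm n.Tk_le_T (p.two_le n.v.su.T_two le_rfl n.T_le_stab)

/-- **the 2-elements of the stabiliser lie in the join** -/
theorem stab_two {x : G} (hx : x ∈ twinStab (Qr H) (cjg g (Qr H))) {k : ℕ} (hk : x ^ 2 ^ k = 1) :
    x ∈ Tk H T := by
  refine p.two_le ((n.v.su.T_two.to_le n.Tk_le_T).to_sup_of_normal_left' (Cfsg.Lib.LTP.two_of_pow hk)
    (zpowers_le.2 (n.stab_Tk hx))) (p.T_eq.ge.trans le_sup_left)
    (sup_le (n.Tk_le_T.trans n.T_le_stab) (zpowers_le.2 hx)) (mem_sup_right (mem_zpowers x))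

end Split

end NatCtx

end Cfsg.Lib.PushPair
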