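import Cfsg.Agent.PushPair.TypeA
import Cfsg.Agent.PushPair.TypeBTwo
import Cfsg.Agent.LThreePlane.Series

/-!
# The natural module with `D` covering the line is impossible
-/

set_option autoImplicit false
set_option linter.style.haveILetI false

namespace Cfsg.Lib.PushPair

open Subgroup
open Cfsg.Lib.LTP (cjg SL2 upGroup up lo dg)

variable {G : Type*} [Group G] [Finite G] {F : Type*} [Field F] [Finite F] [CharP F 2]
  {H T : Subgroup G} {g : G}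

namespace NatCtx

variable {n : NatCtx F H T g}

namespace Split

variable (p : n.Split)
include p

theorem twin : Twin (Qr H) (cjg g (Qr H)) where
  sqA _ ha := n.sq_Q ha
  sqB _ hb := n.sq_Q' hb
  ne := n.cores_ne
  card_eq := (Cfsg.Lib.LTP.card_cjg g _).symm
  elem E hE hsq := n.elem_cases E (hE.trans n.Tk_cores.le) hsq
  big := n.big
  two := by rw [n.Tk_cores]; exact n.v.su.T_two.to_le n.Tk_le_T
  stab2 x hx hx' k hk := by
    rw [n.Tk_cores]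
    exact p.stab_two (mem_inf.2 ⟨hx, hx'⟩) hk

omit p in
/-- an element exchanging the cores exchanges the two parts -/
theorem _root_.Cfsg.Lib.PushPair.swap_parts (n : NatCtx F H T g) {r : G} (h1 : cjg r (Qr H) = cjg g (Qr H))
    (h2 : cjg r (cjg g (Qr H)) = Qr H) :
    (∀ d ∈ Dr H, r * d * r⁻¹ ∈ cjg g (Dr H)) ∧ ∀ d ∈ cjg g (Dr H), r * d * r⁻¹ ∈ Dr H := by
  constructor
  · intro d hd
    have hQ : g⁻¹ * r ∈ normalizer (Qr H : Set G) :=
      Cfsg.Lib.LTP.cjg_eq_iff.1 (by rw [Cfsg.Lib.LTP.cjg_mul, h1, cjg_inv_cjg])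
    have h := conj_mem_Dr (n.v.norm_Q_le hQ) hQ hd
    rw [mem_cjg_iff]
    simpa [mul_assoc] using h
  · rintro _ ⟨e, he, rfl⟩
    have hQ : r * g ∈ normalizer (Qr H : Set G) :=
      Cfsg.Lib.LTP.cjg_eq_iff.1 (by rw [Cfsg.Lib.LTP.cjg_mul, h2])
    have h := conj_mem_Dr (n.v.norm_Q_le hQ) hQ he
    show r * (g * e * g⁻¹) * r⁻¹ ∈ Dr H
    simpa [mul_assoc] using h

theorem D_ne : Dr H ≠ ⊥ := fun e => by
  have h := p.card_D
  rw [e, card_bot] at h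
  have := n.four
  omega

/-- **a 2-group above the join normalises it** -/
theorem le_norm {P : Subgroup G} (hP : IsPGroup 2 ↥P) (hJP : Tk H T ≤ P) :
    P ≤ normalizer ((Tk H T : Subgroup G) : Set G) := by
  set N := normalizer ((Tk H T : Subgroup G) : Set G)
  by_contra hne
  haveI : Fact (Nat.Prime 2) := ⟨Nat.prime_two⟩
  haveI := hP.isNilpotent
  set P₀ := P ⊓ N
  have hsub : P₀.subgroupOf P < ⊤ := lt_top_iff_ne_top.2 fun e => hne ((subgroupOf_eq_top.1 e).trans inf_le_right)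
  obtain ⟨y, hyn, hy0⟩ := SetLike.exists_of_lt (normalizerCondition_of_isNilpotent _ hsub)
  have hconj : ∀ u ∈ P₀, (y : G) * u * (y : G)⁻¹ ∈ P₀ := fun u hu =>
    (mem_normalizer_iff.1 hyn ⟨u, hu.1⟩).1 hu
  have hJ0 : Tk H T ≤ P₀ := le_inf hJP le_normalizer
  have t := p.twin
  have key : ∀ B : Subgroup G, B ≤ Tk H T → (∀ b ∈ B, b * b = 1) → Nat.card ↥(Qr H) ≤ Nat.card ↥B →
      cjg (y : G) B ≤ Qr H ⊔ cjg g (Qr H) := by
    intro B hB hsq hc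
    have hN : cjg (y : G) B ≤ normalizer ((Qr H ⊔ cjg g (Qr H) : Subgroup G) : Set G) := by
      rintro _ ⟨u, hu, rfl⟩
      rw [n.Tk_cores]
      exact (hconj u (hJ0 (hB hu))).2
    have hs : ∀ e ∈ cjg (y : G) B, e * e = 1 := by
      rintro _ ⟨u, hu, rfl⟩
      rw [← map_mul, hsq u hu, map_one]
    have h := t.elem_out hN hs (hc.trans (Cfsg.Lib.LTP.card_cjg _ B).ge)
    exact fun e he => t.stab_inner (h he) (hs e he)
  refine hy0 (mem_subgroupOf.2 (mem_inf.2 ⟨y.2, ?_⟩))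
  have := t.norm_of_cases (t.norm_cases (key _ le_sup_right (fun _ h => n.sq_Q h) le_rfl)
    (key _ n.Q'_le (fun _ h => n.sq_Q' h) (Cfsg.Lib.LTP.card_cjg g _).ge))
  rwa [n.Tk_cores] at this

/-- an element of `N(Q)` fixing a point of the meet outside `D` normalises the join -/
theorem fix_point {c i : G} (hc : c ∈ normalizer (Qr H : Set G)) (hi : i ∈ Qr H ⊓ cjg g (Qr H)) (hiD : i ∉ Dr H)
    (hci : c * i = i * c) : c ∈ normalizer ((Tk H T : Subgroup G) : Set G) := by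
  have hcM := n.v.norm_Q_le hc
  obtain ⟨hiW, hi1⟩ := p.R_eq.le hi
  have hi0 : n.m.c₀ i ≠ 0 := fun h => hiD (n.v.Zr_le_Dr ((n.m.zero_iff i hiW).1 ⟨h, hi1⟩))
  refine mem_norm_of_conj fun u hu => ?_
  have hk : c * u * c⁻¹ ∈ Kr H := (conj_mem_iff hcM).2 (p.Tk_le_K hu)
  have hfix : c * u * c⁻¹ * i * (c * u * c⁻¹)⁻¹ = i := by
    have e1 := n.meet_comm hi hu
    have e2 : c⁻¹ * i * c = i := by rw [mul_assoc, ← hci, inv_mul_cancel_left]
    calc c * u * c⁻¹ * i * (c * u * c⁻¹)⁻¹ = c * (u * (c⁻¹ * i * c) * u⁻¹) * c⁻¹ := by group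
      _ = i := by rw [e2, e1, mul_inv_cancel_right, hci, mul_inv_cancel_right]
  have a0 := n.m.act₀ _ hk i hiW
  have a1 := n.m.act₁ _ hk i hiW
  rw [hfix, hi1, mul_zero, add_zero] at a0 a1
  set A := n.m.π ⟨c * u * c⁻¹, hk⟩ with hA
  have h00 : A.1 0 0 = 1 := (mul_left_eq_self₀.1 a0.symm).resolve_right hi0
  have h10 : A.1 1 0 = 0 := (mul_eq_zero.1 a1.symm).resolve_right hi0
  have hdet := Cfsg.Lib.LTP.det2 A
  rw [h00, h10, one_mul, mul_zero, sub_zero] at hdet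
  exact mem_sup_left (mem_inf.2 ⟨(n.m.frame _ hk).2 (show A ∈ upGroup F from ⟨h00, h10, hdet⟩), hk⟩)

/-- **centralisers of regular points normalise the join** -/
theorem cent_regular {i : G} (hi : i ∈ Qr H ⊓ cjg g (Qr H)) (hiD : i ∉ Dr H) (hiD' : i ∉ cjg g (Dr H))
    {c : G} (hc : c * i = i * c) : c ∈ normalizer ((Tk H T : Subgroup G) : Set G) := by
  have t := p.twin
  have hi1 : i ≠ 1 := fun e => hiD (e ▸ one_mem _)
  have hi2 : i * i = 1 := n.sq_Q (mem_inf.1 hi).1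
  set X := normalizer (zpowers i : Set G)
  have hX : ∀ k, k ∈ X ↔ k * i = i * k := fun k => Cfsg.Lib.LTP.mem_norm_invol hi2 hi1
  have hi2' : IsPGroup 2 ↥(zpowers i) := Cfsg.Lib.LTP.two_of_pow (k := 1) (by rw [pow_one, pow_two, hi2])
  set R₁ := Cfsg.pCoreOf 2 X
  have hR₁ : IsPGroup 2 ↥R₁ := Cfsg.Lib.JComp.isPGroup_pCoreOf _
  have hR₁X : R₁ ≤ X := Cfsg.Lib.JComp.pCoreOf_le X
  have hXR : X ≤ normalizer (R₁ : Set G) := le_normalizer.trans (Cfsg.Lib.JComp.normalizer_le_pCoreOf 2 X)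
  have hC : ∀ a ∈ X, (∀ r ∈ R₁, a * r = r * a) → a ∈ R₁ := fun a ha h =>
    Cfsg.Lib.LTP.loc_core n.v.su.char2 hi2' (fun e => hi1 (zpowers_eq_bot.1 e)) ha h
  set J := Tk H T with hJdef
  have hJX : J ≤ X := fun u hu => (hX u).2 (n.meet_comm hi hu)
  have hJ2 : IsPGroup 2 ↥J := n.v.su.T_two.to_le n.Tk_le_T
  have hRJ : Qr H ⊓ cjg g (Qr H) ≤ J := inf_le_left.trans le_sup_right
  have hR₁N : R₁ ≤ normalizer (J : Set G) :=
    le_sup_left.trans (p.le_norm (hR₁.to_sup_of_normal_left' hJ2 (hJX.trans hXR)) le_sup_right)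
  have hin : ∀ s ∈ R₁, s ∈ twinStab (Qr H) (cjg g (Qr H)) → s ∈ J := fun s hs hss => by
    obtain ⟨k, hk⟩ := hR₁ ⟨s, hs⟩
    exact p.stab_two hss (congrArg Subtype.val hk)
  have hsqR : ∀ z ∈ Qr H ⊓ cjg g (Qr H), z * z = 1 := fun z hz => n.sq_Q (mem_inf.1 hz).1
  -- once the join lies in the core it is done
  have done : J ≤ R₁ → c ∈ normalizer (J : Set G) := by
    intro hle
    have key : ∀ B : Subgroup G, B ≤ J → (∀ b ∈ B, b * b = 1) → Nat.card ↥(Qr H) ≤ Nat.card ↥B →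
        cjg c B ≤ Qr H ⊔ cjg g (Qr H) := by
      intro B hB hsq hcard
      have hN : cjg c B ≤ normalizer ((Qr H ⊔ cjg g (Qr H) : Subgroup G) : Set G) := by
        rintro _ ⟨u, hu, rfl⟩
        rw [n.Tk_cores]
        exact hR₁N ((conj_mem_iff (hXR ((hX c).2 hc))).2 (hle (hB hu)))
      have hs : ∀ e ∈ cjg c B, e * e = 1 := by
        rintro _ ⟨u, hu, rfl⟩
        rw [← map_mul, hsq u hu, map_one]
      have h := t.elem_out hN hs (hcard.trans (Cfsg.Lib.LTP.card_cjg _ B).ge)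
      exact fun e he => t.stab_inner (h he) (hs e he)
    have := t.norm_of_cases (t.norm_cases (key _ le_sup_right (fun _ h => n.sq_Q h) le_rfl)
      (key _ n.Q'_le (fun _ h => n.sq_Q' h) (Cfsg.Lib.LTP.card_cjg g _).ge))
    rwa [n.Tk_cores] at this
  by_cases hin' : R₁ ≤ J
  · have hRR : Qr H ⊓ cjg g (Qr H) ≤ R₁ := fun z hz =>
      hC z (hJX (hRJ hz)) fun r hr => (n.meet_comm hz (hin' hr)).symm
    by_cases hQ : R₁ ≤ Qr H
    · have heq : R₁ = Qr H := le_antisymm hQ fun q hq =>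
        hC q (hJX (mem_sup_right hq)) fun r hr => comm_of_sq (fun _ h => n.sq_Q h) hq (hQ hr)
      exact p.fix_point (heq ▸ hXR ((hX c).2 hc)) hi hiD hc
    by_cases hQ' : R₁ ≤ cjg g (Qr H)
    · have heq : R₁ = cjg g (Qr H) := le_antisymm hQ' fun q hq =>
        hC q (hJX (n.Q'_le hq)) fun r hr => comm_of_sq (fun _ h => n.sq_Q' h) hq (hQ' hr)
      have hcn : g⁻¹ * c * g ∈ normalizer (Qr H : Set G) := mem_norm_cjg.1 (heq ▸ hXR ((hX c).2 hc))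
      have h := p.fix_point hcn (i := g⁻¹ * i * g) ?_ ?_ ?_
      · have h2 := mul_mem (mul_mem n.norm_Tk h) (inv_mem n.norm_Tk)
        rwa [show g * (g⁻¹ * c * g) * g⁻¹ = c by group] at h2
      · refine mem_inf.2 ⟨mem_cjg_iff.1 (mem_inf.1 hi).2, ?_⟩
        rw [← n.cjg_inv_Q]
        exact mem_cjg_iff.2 (by simpa [mul_assoc] using (mem_inf.1 hi).1)
      · exact fun h => hiD' (mem_cjg_iff.2 h)
      · calc g⁻¹ * c * g * (g⁻¹ * i * g) = g⁻¹ * (c * i) * g := by group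
          _ = g⁻¹ * (i * c) * g := by rw [hc]
          _ = _ := by group
    obtain ⟨a, ha, haQ⟩ := SetLike.not_le_iff_exists.1 hQ
    obtain ⟨b, hb, hbQ⟩ := SetLike.not_le_iff_exists.1 hQ'
    have hcentral : ∀ z ∈ R₁, z * z = 1 → (∀ s ∈ R₁, s * z = z * s) → z ∈ Qr H ⊓ cjg g (Qr H) := by
      intro z hz hz2 hzc
      rcases n.invol_cases (hin' hz) hz2 with h | h
      · exact mem_inf.2 ⟨h, n.Lw_le_Q' (n.low_of_comm (hin' ha) haQ (p.QW.le h) (hzc a ha))⟩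
      · refine mem_inf.2 ⟨?_, h⟩
        have hb' : g⁻¹ * b * g ∈ Tk H T := by
          have := (conj_mem_iff (inv_mem n.norm_Tk)).2 (hin' hb)
          rwa [inv_inv] at this
        have h1 := n.Lw_le_Q' (n.low_of_comm hb' (fun e => hbQ (mem_cjg_iff.2 e))
          (p.QW.le (mem_cjg_iff.1 h)) (by
            calc g⁻¹ * b * g * (g⁻¹ * z * g) = g⁻¹ * (b * z) * g := by group
              _ = g⁻¹ * (z * b) * g := by rw [hzc b hb]
              _ = _ := by group))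
        have h2 := Cfsg.Lib.LTP.cjg_mem (g := g) h1
        rw [n.swap_Q, show g * (g⁻¹ * z * g) * g⁻¹ = z by group] at h2
        exact h2
    refine done (Cfsg.Lib.LTP.stab_series_le (Qr H ⊓ cjg g (Qr H)) R₁ le_rfl hC hRR hsqR
      (fun s hs => n.Tk_sq (hin' hs)) (fun x hx z hz => ?_) (fun x hx s hs => (conj_mem_iff (hXR hx)).2 hs)
      hJX (fun u hu z hz => n.meet_comm hz hu) (fun u hu s hs => ?_) fun u hu s hs => ?_)
    · refine hcentral _ ((conj_mem_iff (hXR hx)).2 (hRR hz)) ?_ fun s hs => ?_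
      · rw [show x * z * x⁻¹ * (x * z * x⁻¹) = x * (z * z) * x⁻¹ by group, hsqR z hz, mul_one, mul_inv_cancel]
      · have hs' : x⁻¹ * s * x ∈ R₁ := by
          have := (conj_mem_iff (hXR (inv_mem hx))).2 hs
          rwa [inv_inv] at this
        calc s * (x * z * x⁻¹) = x * (x⁻¹ * s * x * z) * x⁻¹ := by group
          _ = x * (z * (x⁻¹ * s * x)) * x⁻¹ := by rw [n.meet_comm hz (hin' hs')]
          _ = _ := by group
    · have h := n.Tk_comm (inv_mem (hin' hs)) hu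
      rwa [inv_inv, show s⁻¹ * u * s * u⁻¹ = s⁻¹ * (u * s * u⁻¹) by group] at h
    · exact mul_mem (inv_mem hs) ((conj_mem_iff (hXR (hJX hu))).2 hs)
  -- an outer element in the core
  obtain ⟨r, hr, hrJ⟩ := SetLike.not_le_iff_exists.1 hin'
  have hro : Outer (Qr H) (cjg g (Qr H)) r := ⟨by rw [n.Tk_cores]; exact hR₁N hr, fun h => hrJ (hin r hr h)⟩
  obtain ⟨hr1, hr2⟩ := t.outer_swap hro
  obtain ⟨hswD, hswD'⟩ := swap_parts n hr1 hr2
  have hcomm : ∀ b ∈ cjg g (Qr H), ∀ w ∈ Qr H, b * w * b⁻¹ * w⁻¹ ∈ R₁ := by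
    intro b hb w hw
    set a := r⁻¹ * b * r
    have ha : a ∈ Qr H := mem_cjg_iff.1 (hr1.ge hb)
    have he : a * b⁻¹ ∈ R₁ := by
      have h1 := mul_mem ((conj_mem_iff (hXR (hJX (mem_sup_right ha)))).2 hr) (inv_mem hr)
      rwa [show a * r * a⁻¹ * r⁻¹ = a * b⁻¹ by simp only [a]; group] at h1
    have hwX := hJX (mem_sup_right hw)
    have h2 : a * b⁻¹ * w * (a * b⁻¹)⁻¹ * w⁻¹ ∈ R₁ := by
      rw [show a * b⁻¹ * w * (a * b⁻¹)⁻¹ * w⁻¹ = a * b⁻¹ * (w * (a * b⁻¹)⁻¹ * w⁻¹) by group]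
      exact mul_mem he ((conj_mem_iff (hXR hwX)).2 (inv_mem he))
    have hbw : b * w * b⁻¹ ∈ Qr H := by
      rw [p.QW] at hw ⊢
      exact (conj_mem_iff (n.Q'_norm_W hb)).2 hw
    rwa [inv_of_sq (fun _ h => n.sq_Q' h) hb, show a * b * w * (a * b)⁻¹ = a * (b * w * b⁻¹) * a⁻¹ by group,
      comm_of_sq (fun _ h => n.sq_Q h) ha hbw, mul_inv_cancel_right] at h2
  have hD' : cjg g (Dr H) ≤ R₁ := by
    intro d hd
    obtain ⟨u, -, hu⟩ := n.exists_gen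
    obtain ⟨⟨h, hh⟩, hπ⟩ := n.m.surj (dg u)
    obtain ⟨hQ, hQ', -⟩ := n.tor_norm hh hπ
    obtain ⟨b, hb, hbr⟩ := n.exists_W'_par (n.m.c₀ d / ((u : F) + 1))
    obtain ⟨w, hw, -, hw1⟩ := n.m.onto 0 1
    have hbQ : b ∈ cjg g (Qr H) := cjg_mono g (Wr_le_Qr H) hb
    have hbw := (conj_mem_iff (n.Q'_norm_W hbQ)).2 hw
    set e := b * w * b⁻¹ * w⁻¹
    have heR : e ∈ Qr H ⊓ cjg g (Qr H) := n.Tk_comm (n.Q'_le hbQ) (mem_sup_right (Wr_le_Qr H hw))
    have he0 : n.m.c₀ e = n.m.c₀ d / ((u : F) + 1) := by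
      rw [n.m.add₀ _ hbw _ (inv_mem hw), hbr w hw, (n.m.c_inv hw).1, hw1]
      linear_combination n.m.c₀ w * CharTwo.two_eq_zero (R := F)
    have h1 := hcomm b hbQ w (Wr_le_Qr H hw)
    have h2 := hcomm (h * b * h⁻¹) ((conj_mem_iff hQ').2 hbQ) (h * w * h⁻¹) ((conj_mem_iff hQ).2 (Wr_le_Qr H hw))
    rw [show h * b * h⁻¹ * (h * w * h⁻¹) * (h * b * h⁻¹)⁻¹ * (h * w * h⁻¹)⁻¹ = h * e * h⁻¹ by
      simp only [e]; group] at h2
    obtain ⟨δ, hδ, d₁, hd₁, hed⟩ := p.R_dec heR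
    have hd₁0 : n.m.c₀ d₁ = n.m.c₀ d / ((u : F) + 1) := by
      rw [← he0, hed, n.m.add₀ _ (mem_Zr.1 (p.DZ hδ)).1 _ (p.D'W hd₁), (p.D_zero hδ).1, zero_add]
    have hhd := n.conj_D' hQ hQ' hd₁
    have hprod : e * (h * e * h⁻¹) = d₁ * (h * d₁ * h⁻¹) := by
      rw [hed, show h * (δ * d₁) * h⁻¹ = h * δ * h⁻¹ * (h * d₁ * h⁻¹) by group, (mem_Dr.1 hδ).2 h hh,
        mul_inv_cancel_right, comm_of_sq (fun _ h => n.sq_Q h) (mem_Dr.1 hδ).1 (n.D'_le_Q hd₁)]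
      calc d₁ * δ * (δ * (h * d₁ * h⁻¹)) = d₁ * (δ * δ) * (h * d₁ * h⁻¹) := by group
        _ = d₁ * (h * d₁ * h⁻¹) := by rw [n.sq_Q (mem_Dr.1 hδ).1, mul_one]
    have heq : d₁ * (h * d₁ * h⁻¹) = d := p.D'_inj (mul_mem hd₁ hhd) hd (by
      rw [n.m.add₀ _ (p.D'W hd₁) _ (p.D'W hhd), n.m.act₀ h hh _ (p.D'W hd₁), hπ, p.D'_c₁ hd₁, hd₁0]
      simp only [LTP.dg_00, mul_zero, add_zero]
      field_simp
      ring)
    rw [← heq, ← hprod]
    exact mul_mem h1 h2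
  have hD : Dr H ≤ R₁ := fun d hd => by
    have h1 : cjg r⁻¹ (Qr H) = cjg g (Qr H) := by conv_lhs => rw [← hr2]; exact cjg_inv_cjg r _
    have h2 : cjg r⁻¹ (cjg g (Qr H)) = Qr H := by conv_lhs => rw [← hr1]; exact cjg_inv_cjg r _
    have h3 := (conj_mem_iff (hXR (hR₁X hr))).2 (hD' ((swap_parts n h1 h2).1 d hd))
    rwa [show r * (r⁻¹ * d * r⁻¹⁻¹) * r⁻¹ = d by group] at h3
  have hRR : Qr H ⊓ cjg g (Qr H) ≤ R₁ := fun z hz => by
    obtain ⟨δ, hδ, d, hd, rfl⟩ := p.R_dec hz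
    exact mul_mem (hD hδ) (hD' hd)
  -- the large elementary subgroups of the core contain the meet
  set E₁ := R₁ ⊓ Qr H
  set E₂ := R₁ ⊓ cjg g (Qr H)
  have hE₂ : cjg r E₁ = E₂ := by
    rw [cjg_inf, Cfsg.Lib.LTP.cjg_eq_iff.2 (hXR (hR₁X hr)), hr1]
  have hc12 : Nat.card ↥E₂ = Nat.card ↥E₁ := by rw [← hE₂, Cfsg.Lib.LTP.card_cjg]
  have hlarge : ∀ E : Subgroup G, E ≤ R₁ → (∀ e ∈ E, e * e = 1) → Nat.card ↥E₁ ≤ Nat.card ↥E →
      Qr H ⊓ cjg g (Qr H) ≤ E := by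
    intro E hE hsq hcard
    by_cases hst : E ≤ twinStab (Qr H) (cjg g (Qr H))
    · rcases n.elem_cases E (fun e he => hin e (hE he) (hst he)) hsq with h | h
      · rw [eq_of_le_of_card_ge (le_inf hE h) hcard]
        exact le_inf hRR inf_le_left
      · rw [eq_of_le_of_card_ge (le_inf hE h) (hc12.le.trans hcard)]
        exact le_inf hRR inf_le_right
    exfalso
    obtain ⟨a, ha, has⟩ := SetLike.not_le_iff_exists.1 hst
    have hao : ∀ b ∈ E, b ∉ twinStab (Qr H) (cjg g (Qr H)) → Outer (Qr H) (cjg g (Qr H)) b := fun b hb hbs =>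
      ⟨by rw [n.Tk_cores]; exact hR₁N (hE hb), hbs⟩
    have h1 : Nat.card ↥E ≤ 2 * Nat.card ↥(E ⊓ twinStab (Qr H) (cjg g (Qr H)) : Subgroup G) :=
      Cfsg.Lib.LTP.Hyp.card_le_two_mul inf_le_left fun x hx y hy hxB hyB => mem_inf.2 ⟨mul_mem hx hy,
        t.outer_mul (hao x hx fun h => hxB (mem_inf.2 ⟨hx, h⟩)) (hao y hy fun h => hyB (mem_inf.2 ⟨hy, h⟩))⟩
    obtain ⟨ha1, ha2⟩ := t.outer_swap (hao a ha has)
    obtain ⟨haD, haD'⟩ := swap_parts n ha1 ha2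
    have h2 : Nat.card ↥(E ⊓ twinStab (Qr H) (cjg g (Qr H)) : Subgroup G) ≤ Nat.card ↥(Dr H) := by
      have hdec : ∀ x : ↥(E ⊓ twinStab (Qr H) (cjg g (Qr H)) : Subgroup G), ∃ δ : ↥(Dr H),
          (x : G) = δ * (a * δ * a⁻¹) := by
        rintro ⟨x, hx⟩
        obtain ⟨hxE, hxs⟩ := mem_inf.1 hx
        have hac : a * x = x * a := comm_of_sq hsq ha hxE
        have hxR := t.stab_fixed (hao a ha has) hxs (hsq x hxE) hac
        obtain ⟨δ, hδ, d, hd, rfl⟩ := p.R_dec hxR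
        refine ⟨⟨δ, hδ⟩, ?_⟩
        have e1 : a * δ * a⁻¹ * (a * d * a⁻¹) = δ * d := by
          rw [show a * δ * a⁻¹ * (a * d * a⁻¹) = a * (δ * d) * a⁻¹ by group, hac, mul_inv_cancel_right]
        rw [comm_of_sq (fun _ h => n.sq_Q h) (n.D'_le_Q (haD δ hδ)) (mem_Dr.1 (haD' d hd)).1] at e1
        show δ * d = δ * (a * δ * a⁻¹)
        rw [(n.dec_unique (haD' d hd) hδ (haD δ hδ) hd e1).2]
      choose f hf using hdec
      exact Nat.card_le_card_of_injective f fun x y e => Subtype.ext (by rw [hf x, hf y, e])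
    have h3 : Nat.card ↥(Dr H) * Nat.card ↥(Dr H) ≤ Nat.card ↥(Qr H ⊓ cjg g (Qr H) : Subgroup G) := by
      rw [← Nat.card_prod]
      refine Nat.card_le_card_of_injective (fun q => (⟨(q.1 : G) * (g * (q.2 : G) * g⁻¹),
        mul_mem (mem_inf.2 ⟨(mem_Dr.1 q.1.2).1, n.Dr_le_Q' q.1.2⟩)
          (n.D'_le_meet (Cfsg.Lib.LTP.cjg_mem q.2.2))⟩ : ↥(Qr H ⊓ cjg g (Qr H) : Subgroup G))) ?_
      rintro ⟨x, y⟩ ⟨x', y'⟩ e
      obtain ⟨e1, e2⟩ := n.dec_unique x.2 x'.2 (Cfsg.Lib.LTP.cjg_mem y.2) (Cfsg.Lib.LTP.cjg_mem y'.2)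
        (congrArg Subtype.val e)
      exact Prod.ext (Subtype.ext e1) (Subtype.ext (mul_left_cancel (mul_right_cancel e2)))
    have h4 : Nat.card ↥(Qr H ⊓ cjg g (Qr H) : Subgroup G) ≤ Nat.card ↥E₁ :=
      Nat.card_le_card_of_injective _ (Subgroup.inclusion_injective (le_inf hRR inf_le_left))
    have h5 := p.card_D
    have h6 := n.four
    nlinarith
  have hRn : ∀ x ∈ X, ∀ z ∈ Qr H ⊓ cjg g (Qr H), x * z * x⁻¹ ∈ Qr H ⊓ cjg g (Qr H) := by
    intro x hx z hz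
    have key : ∀ E : Subgroup G, E ≤ R₁ → (∀ e ∈ E, e * e = 1) → Nat.card ↥E₁ ≤ Nat.card ↥E →
        x * z * x⁻¹ ∈ E := by
      intro E hE hsq hcard
      have h := hlarge (cjg x⁻¹ E) (by
          rintro _ ⟨e, he, rfl⟩
          exact (conj_mem_iff (hXR (inv_mem hx))).2 (hE he))
        (by rintro _ ⟨e, he, rfl⟩; rw [← map_mul, hsq e he, map_one])
        (hcard.trans (Cfsg.Lib.LTP.card_cjg _ E).ge) hz
      simpa using mem_cjg_iff.1 h
    exact mem_inf.2 ⟨(mem_inf.1 (key E₁ inf_le_left (fun e he => n.sq_Q (mem_inf.1 he).2) le_rfl)).2,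
      (mem_inf.1 (key E₂ inf_le_left (fun e he => n.sq_Q' (mem_inf.1 he).2) hc12.ge)).2⟩
  refine done (Cfsg.Lib.LTP.stab_series_le (Qr H ⊓ cjg g (Qr H)) (R₁ ⊓ J) inf_le_left hC (le_inf hRR hRJ) hsqR
    (fun s hs => n.Tk_sq (mem_inf.1 hs).2) hRn (fun x hx s hs => ?_) hJX (fun u hu z hz => n.meet_comm hz hu)
    (fun u hu s hs => ?_) fun u hu s hs => ?_)
  · have hsR : x * s * x⁻¹ ∈ R₁ := (conj_mem_iff (hXR hx)).2 (mem_inf.1 hs).1
    refine mem_inf.2 ⟨hsR, hin _ hsR ?_⟩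
    by_contra hns
    obtain ⟨h1, h2⟩ := t.outer_swap ⟨by rw [n.Tk_cores]; exact hR₁N hsR, hns⟩
    obtain ⟨δ, hδ, hδ1⟩ := ((Dr H).ne_bot_iff_exists_ne_one).1 p.D_ne |> fun ⟨a, ha⟩ =>
      (⟨a.1, a.2, fun e => ha (Subtype.ext e)⟩ : ∃ d, d ∈ Dr H ∧ d ≠ 1)
    have hm := (swap_parts n h1 h2).1 δ hδ
    have hz := hRn x⁻¹ (inv_mem hx) δ (mem_inf.2 ⟨(mem_Dr.1 hδ).1, n.Dr_le_Q' hδ⟩)
    rw [inv_inv] at hz
    have e1 := n.meet_comm hz (mem_inf.1 hs).2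
    have e2 : x * s * x⁻¹ * δ * (x * s * x⁻¹)⁻¹ = δ := by
      calc x * s * x⁻¹ * δ * (x * s * x⁻¹)⁻¹ = x * (s * (x⁻¹ * δ * x) * s⁻¹) * x⁻¹ := by group
        _ = δ := by rw [e1]; group
    rw [e2] at hm
    have h3 : δ ∈ Dr H ⊓ cjg g (Dr H) := mem_inf.2 ⟨hδ, hm⟩
    rw [n.v.Dr_disjoint, mem_bot] at h3
    exact hδ1 h3
  · have h := n.Tk_comm (inv_mem (mem_inf.1 hs).2) hu
    rwa [inv_inv, show s⁻¹ * u * s * u⁻¹ = s⁻¹ * (u * s * u⁻¹) by group] at h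
  · refine mem_inf.2 ⟨mul_mem (inv_mem hs) ((conj_mem_iff (hXR (hJX hu))).2 hs), ?_⟩
    rw [show s⁻¹ * (u * s * u⁻¹) = s⁻¹ * u * s⁻¹⁻¹ * u⁻¹ by group]
    exact mul_mem ((conj_mem_iff (inv_mem (hR₁N hs))).2 hu) (inv_mem hu)

end Split

variable (n)

/-- **`D` cannot cover the line** -/
theorem case_B (hD : ∀ c : F, ∃ d ∈ cjg g (Dr H), ∃ l ∈ n.Lw, d * l ∈ Dr H ∧ n.m.c₀ l = c) : False := by
  have p := n.exists_split hD
  have t := p.twin
  obtain ⟨k, m, hm, hord⟩ := Nat.exists_eq_two_pow_mul_odd (orderOf_pos g).ne'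
  set q := g ^ m
  have hq1 : cjg q (Qr H) = cjg g (Qr H) := n.pow_odd_swap hm n.swap_Q
  have hqo : Outer (Qr H) (cjg g (Qr H)) q := ⟨by rw [n.Tk_cores]; exact pow_mem n.norm_Tk m, fun h => n.cores_ne
    (by rw [← hq1]; exact (Cfsg.Lib.LTP.cjg_eq_iff.2 (mem_inf.1 h).1).symm)⟩
  obtain ⟨-, hq2⟩ := t.outer_swap hqo
  have hj : q * q ∈ Tk H T := p.stab_two (t.outer_mul hqo hqo) (k := k) (by
    rw [show q * q = (g ^ m) ^ 2 from (pow_two _).symm, ← pow_mul, ← pow_mul,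
      show m * (2 * 2 ^ k) = 2 ^ k * m * 2 by ring, ← hord, pow_mul, pow_orderOf_eq_one, one_pow])
  have hn : cjg g (Qr H) ≤ normalizer (Qr H : Set G) := n.v.Q'_le_T.trans (n.v.su.T_le.trans (H_norm_Qr H))
  have hj' := hj
  rw [← n.Tk_cores, sup_comm, ← SetLike.mem_coe, coe_mul_of_left_le_normalizer_right _ _ hn] at hj'
  obtain ⟨b, hb, a, ha, hab⟩ := hj'
  replace hab : b * a = q * q := hab
  set v := q * a * q⁻¹ * b⁻¹ with hvdef
  have hv : v ∈ Qr H ⊓ cjg g (Qr H) := by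
    refine mem_inf.2 ⟨?_, mul_mem (hq1.le (Cfsg.Lib.LTP.cjg_mem ha)) (inv_mem hb)⟩
    have hqb : q * b * q⁻¹ ∈ Qr H := hq2.le (Cfsg.Lib.LTP.cjg_mem hb)
    have e : q * b * q⁻¹ * (q * a * q⁻¹) = b * a := by
      rw [show q * b * q⁻¹ * (q * a * q⁻¹) = q * (b * a) * q⁻¹ by group, hab]; group
    have : v = (q * b * q⁻¹)⁻¹ * (b * a * b⁻¹) := by
      rw [hvdef, ← e]; group
    rw [this]
    exact mul_mem (inv_mem hqb) ((conj_mem_iff (hn hb)).2 ha)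
  set r := a * q
  have hrr : r * r = v := by
    have hb2 := inv_of_sq (fun _ h => n.sq_Q' h) hb
    have hav := n.meet_comm hv (mem_sup_right ha)
    calc r * r = a * (q * a * q⁻¹) * (q * q) := by simp only [r]; group
      _ = a * (v * b) * (b * a) := by rw [hab, hvdef, inv_mul_cancel_right]
      _ = a * v * (b * b) * a := by group
      _ = v * (a * a) := by rw [n.sq_Q' hb, mul_one, hav, mul_assoc]
      _ = v := by rw [n.sq_Q ha, mul_one]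
  have hast : a ∈ twinStab (Qr H) (cjg g (Qr H)) := n.T_le_stab (n.v.su.Q_le_T ha)
  have hro : Outer (Qr H) (cjg g (Qr H)) r := ⟨mul_mem (le_normalizer (mem_sup_left ha)) hqo.1, fun h =>
    hqo.2 ((Subgroup.mul_mem_cancel_left _ hast).1 h)⟩
  obtain ⟨hr1, hr2⟩ := t.outer_swap hro
  obtain ⟨hrD, hrD'⟩ := swap_parts n hr1 hr2
  obtain ⟨δ, hδ, d, hd, hvd⟩ := p.R_dec hv
  have hfix : r * δ * r⁻¹ = d := by
    have e1 : r * δ * r⁻¹ * (r * d * r⁻¹) = δ * d := by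
      rw [show r * δ * r⁻¹ * (r * d * r⁻¹) = r * (δ * d) * r⁻¹ by group, ← hvd, ← hrr]; group
    rw [comm_of_sq (fun _ h => n.sq_Q h) (n.D'_le_Q (hrD δ hδ)) (mem_Dr.1 (hrD' d hd)).1] at e1
    exact (n.dec_unique (hrD' d hd) hδ (hrD δ hδ) hd e1).2
  set u := δ * r
  have hu2 : u * u = 1 := by
    calc u * u = δ * (r * δ * r⁻¹) * (r * r) := by simp only [u]; group
      _ = δ * d * (δ * d) := by rw [hfix, hrr, hvd]
      _ = 1 := by rw [← hvd]; exact n.sq_Q (mem_inf.1 hv).1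
  have hδst : δ ∈ twinStab (Qr H) (cjg g (Qr H)) := n.T_le_stab (n.v.su.Q_le_T (mem_Dr.1 hδ).1)
  have huo : Outer (Qr H) (cjg g (Qr H)) u := ⟨mul_mem (le_normalizer (mem_sup_left (mem_Dr.1 hδ).1)) hro.1,
    fun h => hro.2 ((Subgroup.mul_mem_cancel_left _ hδst).1 h)⟩
  have tc : TwinCent (Qr H) (cjg g (Qr H)) :=
    { toTwin := t
      char2 := n.v.su.char2
      big8 := by
        have h1 := p.card_R
        have h2 := n.four
        nlinarith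
      cent := fun s hs _ z hz hsz hz1 c hc => by
        obtain ⟨h1, h2⟩ := t.outer_swap hs
        obtain ⟨hsD, hsD'⟩ := swap_parts n h1 h2
        have e : s * z * s⁻¹ = z := by rw [hsz, mul_inv_cancel_right]
        have hreg : ∀ w, w ∈ Dr H ⊓ cjg g (Dr H) → w = 1 := fun w hw => by
          rwa [n.v.Dr_disjoint, mem_bot] at hw
        rw [n.Tk_cores]
        exact p.cent_regular hz (fun h => hz1 (hreg z (mem_inf.2 ⟨h, e ▸ hsD z h⟩)))
          (fun h => hz1 (hreg z (mem_inf.2 ⟨e ▸ hsD' z h, h⟩))) hc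
      noNormal := n.noNormal }
  exact tc.false_of_outer huo hu2

end NatCtx

end Cfsg.Lib.PushPair
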