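import Cfsg.Agent.PushPair.One
import Cfsg.Agent.PushPair.Perm
import Cfsg.Agent.PushPair.Struct
import Cfsg.Agent.PushPair.TypeB

/-!
# Pushing up an odd residual of rank one: putting the cases together
-/

set_option autoImplicit false
set_option linter.style.haveILetI false

namespace Cfsg.Lib.PushPair

open Subgroup
open Cfsg.Lib.LTP (cjg SL2)

variable {G : Type*} [Group G] [Finite G]

/-- the residual is generated by elements of odd order, so it has no quotient symmetric of degree three -/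
theorem Kr_no_sym_three (H : Subgroup G)
    (e : ↥(Kr H) ⧸ Cfsg.pCore 2 ↥(Kr H) ≃* Equiv.Perm (Fin 3)) : False := by
  haveI := (Cfsg.Lib.Components.pCore_normal_and_isPGroup (G := ↥(Kr H)) 2).1
  set ψ : ↥(Kr H) →* ℤˣ :=
    Equiv.Perm.sign.comp (e.toMonoidHom.comp (QuotientGroup.mk' (Cfsg.pCore 2 ↥(Kr H))))
  have hle : Kr H ≤ ψ.ker.map (Kr H).subtype := by
    refine (closure_le _).2 fun x hx => ⟨⟨x, subset_closure hx⟩, ?_, rfl⟩
    show ψ _ = 1
    have h2 : ψ ⟨x, subset_closure hx⟩ ^ 2 = 1 := Int.units_sq _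
    have ho : Odd (orderOf (⟨x, subset_closure hx⟩ : ↥(Kr H))) := by
      rw [← Subgroup.orderOf_coe]
      exact hx.2
    rcases (Nat.dvd_prime Nat.prime_two).1 (orderOf_dvd_of_pow_eq_one h2) with h | h
    · exact orderOf_eq_one_iff.1 h
    · exact absurd (h ▸ orderOf_map_dvd ψ _) ho.not_two_dvd_nat
  obtain ⟨k, hk⟩ := (Equiv.Perm.sign_surjective (Fin 3)).comp
    (e.surjective.comp (QuotientGroup.mk'_surjective (Cfsg.pCore 2 ↥(Kr H)))) (-1)
  obtain ⟨k', hk', hkk⟩ := hle k.2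
  rw [Subtype.ext hkk] at hk'
  exact absurd ((MonoidHom.mem_ker.1 hk').symm.trans hk) (by decide)

/-- **the cases put together** -/
theorem main_case {H T : Subgroup G} (s : Setup H T)
    (hstar : Nonempty (↥(Kr H) ⧸ Cfsg.pCore 2 ↥(Kr H) ≃* Multiplicative (ZMod 3)) ∨
      ∃ n : ℕ, 1 ≤ n ∧ Nonempty (↥(Kr H) ⧸ Cfsg.pCore 2 ↥(Kr H) ≃*
        Matrix.SpecialLinearGroup (Fin 2) (GaloisField 2 n))) :
    normalizer (T : Set G) ≤ Mr H ∨ Cfsg.SectionalPRankLE 2 4 G := by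
  by_cases hle : normalizer (T : Set G) ≤ Mr H
  · exact Or.inl hle
  refine Or.inr ?_
  obtain ⟨g₀, hg₀, hg₀M⟩ := SetLike.not_le_iff_exists.1 hle
  rcases hstar with e | ⟨k, hk, ⟨φ⟩⟩
  · exact one_case s e hg₀ hg₀M
  have hcard : Nat.card (GaloisField 2 k) = 2 ^ k := GaloisField.card 2 k (by omega)
  obtain rfl | hk2 := eq_or_lt_of_le hk
  · exfalso
    letI := Fintype.ofFinite (GaloisField 2 1)
    obtain ⟨e2⟩ := Cfsg.Lib.Classical.SmallPSL.sl_two (F := GaloisField 2 1)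
      (by rw [← Nat.card_eq_fintype_card, hcard]; rfl)
    exact Kr_no_sym_three H (φ.trans e2)
  have h4 : 4 ≤ Nat.card (GaloisField 2 k) := by
    rw [hcard]
    exact le_trans (by norm_num) (Nat.pow_le_pow_right (by norm_num) (show 2 ≤ k by omega))
  rcases s.exists_module h4 φ hg₀ hg₀M with ⟨F, _, _, _, hF, ⟨m⟩⟩ | ⟨⟨m⟩⟩
  · obtain ⟨g, v⟩ := s.exists_moved m.good hg₀ hg₀M
    let n : NatCtx F H T g := ⟨v, m, hF⟩
    rcases n.D_cases with hD | hD
    · exact n.case_A hD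
    · exact (n.case_B hD).elim
  · obtain ⟨g, v⟩ := s.exists_moved m.good hg₀ hg₀M
    exact perm_case v m

end Cfsg.Lib.PushPair
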