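import Cfsg.Agent.LThreePlane.Mat
import Cfsg.Agent.Classical.SL

/-!
# The special linear group of degree two in characteristic two
-/

set_option autoImplicit false
set_option linter.style.haveILetI false

namespace Cfsg.Lib.PushPair

open Matrix
open Cfsg.Lib.LTP (SL2 up lo upGroup)

variable {F : Type*} [Field F] [CharP F 2]

theorem sl2_center {A : SL2 F} (hu : A * up 1 = up 1 * A) (hl : A * lo 1 = lo 1 * A) : A = 1 := by
  have e1 := congrArg (fun M : SL2 F => M.1 0 0) hu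
  have e2 := congrArg (fun M : SL2 F => M.1 0 1) hu
  have e3 := congrArg (fun M : SL2 F => M.1 0 0) hl
  simp only [Cfsg.Lib.LTP.mul_00, Cfsg.Lib.LTP.mul_01, LTP.up_00, LTP.up_01, LTP.up_10, LTP.up_11,
    LTP.lo_00, LTP.lo_01, LTP.lo_10, LTP.lo_11] at e1 e2 e3
  have h10 : A.1 1 0 = 0 := by linear_combination -e1
  have h01 : A.1 0 1 = 0 := by linear_combination e3
  have h11 : A.1 1 1 = A.1 0 0 := by linear_combination -e2
  have hd := Cfsg.Lib.LTP.det2 A
  rw [h10, h11, mul_zero, sub_zero] at hd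
  have h00 : A.1 0 0 = 1 := by
    have h : (A.1 0 0 + 1) * (A.1 0 0 + 1) = 0 := by
      linear_combination hd + (A.1 0 0 + 1) * CharTwo.two_eq_zero (R := F)
    exact CharTwo.add_eq_zero.1 (mul_self_eq_zero.1 h)
  exact Cfsg.Lib.LTP.ext2 (by simp [h00]) (by simp [h01]) (by simp [h10]) (by simp [h11, h00])

theorem sl2_simple [Finite F] (h4 : 4 ≤ Nat.card F) : IsSimpleGroup (SL2 F) := by
  haveI := Cfsg.Lib.Classical.isSimpleGroup_PSL_fin (F := F) (n := 2) (le_refl 2) (fun _ => h4)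
  have hbot : Subgroup.center (SL2 F) = ⊥ := (Subgroup.eq_bot_iff_forall _).2 fun A hA =>
    sl2_center (Subgroup.mem_center_iff.1 hA _).symm (Subgroup.mem_center_iff.1 hA _).symm
  exact (MulEquiv.ofBijective (QuotientGroup.mk' (Subgroup.center (SL2 F)))
    ⟨by rw [← MonoidHom.ker_eq_bot_iff, QuotientGroup.ker_mk', hbot],
      QuotientGroup.mk'_surjective _⟩).isSimpleGroup

/-- a subgroup above the upper root group is triangular or everything -/
theorem above_up {X : Subgroup (SL2 F)} (hX : upGroup F ≤ X) (hne : X ≠ ⊤) {A : SL2 F} (hA : A ∈ X) :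
    A.1 1 0 = 0 := by
  by_contra hc
  refine hne ((Subgroup.eq_top_iff' _).2 fun B => Cfsg.Lib.LTP.gen X (fun x => hX (LTP.up_mem x)) (fun y => ?_) B)
  set c := A.1 1 0
  set s := (1 - A.1 0 0) / c
  set B' := up s * A
  have h00 : B'.1 0 0 = 1 := by
    simp only [B', LTP.mul_00, LTP.up_00, LTP.up_01, one_mul, s]
    field_simp
    ring
  have h10 : B'.1 1 0 = c := by simp [B', LTP.mul_10, c]
  set L := B' * up (-B'.1 0 1)
  have hL : L = lo c := by
    have hd := Cfsg.Lib.LTP.det2 B'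
    rw [h00, h10, one_mul] at hd
    refine Cfsg.Lib.LTP.ext2 ?_ ?_ ?_ ?_
    · simp [L, LTP.mul_00, h00]
    · simp [L, LTP.mul_01, h00]
    · simp [L, LTP.mul_10, h10]
    · simp only [L, LTP.mul_11, LTP.up_01, LTP.up_11, h10, LTP.lo_11, mul_one]
      linear_combination hd
  have hloc : lo c ∈ X := hL ▸ X.mul_mem (X.mul_mem (hX (LTP.up_mem s)) hA) (hX (LTP.up_mem _))
  set w := up c⁻¹ * lo c * up c⁻¹
  have hw : w ∈ X := X.mul_mem (X.mul_mem (hX (LTP.up_mem _)) hloc) (hX (LTP.up_mem _))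
  have h := X.mul_mem (X.mul_mem hw (hX (LTP.up_mem (y / (c * c))))) (X.inv_mem hw)
  convert h using 1
  rw [eq_mul_inv_iff_mul_eq]
  have w00 : w.1 0 0 = 0 := by simp [w, LTP.mul_00, LTP.mul_01, hc, CharTwo.add_self_eq_zero]
  have w01 : w.1 0 1 = c⁻¹ := by simp [w, LTP.mul_00, LTP.mul_01, hc, CharTwo.add_self_eq_zero]
  have w10 : w.1 1 0 = c := by simp [w, LTP.mul_10, LTP.mul_11]
  have w11 : w.1 1 1 = 0 := by simp [w, LTP.mul_10, LTP.mul_11, hc, CharTwo.add_self_eq_zero]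
  refine Cfsg.Lib.LTP.ext2 ?_ ?_ ?_ ?_ <;>
    simp [LTP.mul_00, LTP.mul_01, LTP.mul_10, LTP.mul_11, w00, w01, w10, w11] <;> field_simp

/-- a 2-subgroup is conjugate into the upper root group -/
theorem exists_conj_up [Finite F] (Q : Subgroup (SL2 F)) (hQ : IsPGroup 2 ↥Q) :
    ∃ g : SL2 F, ∀ A ∈ Q, g⁻¹ * A * g ∈ upGroup F := by
  classical
  haveI : Fact (Nat.Prime 2) := ⟨Nat.prime_two⟩
  have hdvd : 2 ∣ Nat.card (Fin 2 → F) := by
    rw [Nat.card_fun, Nat.card_eq_fintype_card (α := Fin 2), Fintype.card_fin]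
    letI := Fintype.ofFinite F
    obtain ⟨n, -, hn⟩ := FiniteField.card F 2
    refine dvd_pow ?_ two_ne_zero
    rw [Nat.card_eq_fintype_card, hn]
    exact dvd_pow_self 2 n.pos.ne'
  obtain ⟨w, hw, hw0⟩ := hQ.exists_fixed_point_of_prime_dvd_card_of_fixed_point (Fin 2 → F) hdvd
    (a := 0) (fun A => smul_zero _)
  obtain ⟨g, hg0, hg1⟩ : ∃ g : SL2 F, g.1 0 0 = w 0 ∧ g.1 1 0 = w 1 := by
    by_cases ha : w 0 = 0
    · have hb : w 1 ≠ 0 := fun hb => hw0.symm (by ext i; fin_cases i <;> simp [ha, hb])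
      exact ⟨⟨!![0, -(w 1)⁻¹; w 1, 0], by simp [Matrix.det_fin_two, hb]⟩, by simp [ha], by simp⟩
    · exact ⟨⟨!![w 0, 0; w 1, (w 0)⁻¹], by simp [Matrix.det_fin_two, ha]⟩, by simp, by simp⟩
  refine ⟨g, fun A hA => ?_⟩
  have hd := Cfsg.Lib.LTP.det2 g
  set C := g⁻¹ * A * g
  have hC : g * C = A * g := by simp [C, ← mul_assoc]
  have hfix : A.1.mulVec w = w := hw ⟨A, hA⟩
  have f0 := congrFun hfix 0
  have f1 := congrFun hfix 1
  simp only [Matrix.mulVec, dotProduct, Fin.sum_univ_two, ← hg0, ← hg1] at f0 f1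
  have e0 := congrArg (fun M : SL2 F => M.1 0 0) hC
  have e1 := congrArg (fun M : SL2 F => M.1 1 0) hC
  simp only [LTP.mul_00, LTP.mul_10] at e0 e1
  have h00 : C.1 0 0 = 1 := by
    linear_combination g.1 1 1 * e0 + g.1 1 1 * f0 - g.1 0 1 * e1 - g.1 0 1 * f1 - (C.1 0 0 - 1) * hd
  have h10 : C.1 1 0 = 0 := by
    linear_combination g.1 0 0 * e1 + g.1 0 0 * f1 - g.1 1 0 * e0 - g.1 1 0 * f0 - C.1 1 0 * hd
  have hdC := Cfsg.Lib.LTP.det2 C
  rw [h00, h10, one_mul, mul_zero, sub_zero] at hdC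
  exact ⟨h00, h10, hdC⟩

end Cfsg.Lib.PushPair
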