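import Cfsg.Agent.PushPair.Common
import Cfsg.Agent.PushPair.Mat

/-!
# The two kinds of module of the odd residual
-/

set_option autoImplicit false
set_option linter.style.haveILetI false

namespace Cfsg.Lib.PushPair

open Subgroup
open Cfsg.Lib.LTP (SL2 upGroup)
open scoped commutatorElement

variable {G : Type*} [Group G]

/-- the module is natural for a linear group of degree two -/
structure NatMod (F : Type*) [Field F] (H T : Subgroup G) where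
  /-- the map onto the linear group -/
  π : ↥(Kr H) →* SL2 F
  /-- the first coordinate -/
  c₀ : G → F
  /-- the second coordinate -/
  c₁ : G → F
  surj : Function.Surjective π
  ker : ∀ x (hx : x ∈ Kr H), π ⟨x, hx⟩ = 1 ↔ x ∈ Wr H
  add₀ : ∀ a ∈ Wr H, ∀ b ∈ Wr H, c₀ (a * b) = c₀ a + c₀ b
  add₁ : ∀ a ∈ Wr H, ∀ b ∈ Wr H, c₁ (a * b) = c₁ a + c₁ b
  zero_iff : ∀ a ∈ Wr H, (c₀ a = 0 ∧ c₁ a = 0 ↔ a ∈ Zr H)
  onto : ∀ z y, ∃ a ∈ Wr H, c₀ a = z ∧ c₁ a = y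
  act₀ : ∀ k (hk : k ∈ Kr H), ∀ a ∈ Wr H,
    c₀ (k * a * k⁻¹) = (π ⟨k, hk⟩).1 0 0 * c₀ a + (π ⟨k, hk⟩).1 0 1 * c₁ a
  act₁ : ∀ k (hk : k ∈ Kr H), ∀ a ∈ Wr H,
    c₁ (k * a * k⁻¹) = (π ⟨k, hk⟩).1 1 0 * c₀ a + (π ⟨k, hk⟩).1 1 1 * c₁ a
  frame : ∀ x (hx : x ∈ Kr H), x ∈ T ↔ π ⟨x, hx⟩ ∈ upGroup F
  sq : ∀ a ∈ Wr H, a * a = 1
  wk : Wr H ≤ ⁅Kr H, Wr H⁆

/-- the even permutations fixing the last point whose square is trivial -/
def IsFour (σ : Equiv.Perm (Fin 5)) : Prop := Equiv.Perm.sign σ = 1 ∧ σ 4 = 4 ∧ σ * σ = 1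

/-- the module is the even permutation module of degree five -/
structure PermMod (H T : Subgroup G) where
  /-- the map onto the alternating group -/
  ρ : ↥(Kr H) →* Equiv.Perm (Fin 5)
  /-- the coordinates -/
  c : G → Fin 5 → ZMod 2
  even : ∀ k, Equiv.Perm.sign (ρ k) = 1
  surj : ∀ σ : Equiv.Perm (Fin 5), Equiv.Perm.sign σ = 1 → ∃ k, ρ k = σ
  ker : ∀ x (hx : x ∈ Kr H), ρ ⟨x, hx⟩ = 1 ↔ x ∈ Wr H
  add : ∀ a ∈ Wr H, ∀ b ∈ Wr H, c (a * b) = c a + c b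
  zero_iff : ∀ a ∈ Wr H, (c a = 0 ↔ a ∈ Zr H)
  sum : ∀ a ∈ Wr H, ∑ i, c a i = 0
  onto : ∀ v : Fin 5 → ZMod 2, ∑ i, v i = 0 → ∃ a ∈ Wr H, c a = v
  act : ∀ k (hk : k ∈ Kr H), ∀ a ∈ Wr H, ∀ i, c (k * a * k⁻¹) i = c a ((ρ ⟨k, hk⟩)⁻¹ i)
  frame : ∀ x (hx : x ∈ Kr H), x ∈ T ↔ IsFour (ρ ⟨x, hx⟩)
  sq : ∀ a ∈ Wr H, a * a = 1
  wk : Wr H ≤ ⁅Kr H, Wr H⁆

theorem comm_of_sq {W : Subgroup G} (h : ∀ a ∈ W, a * a = 1) {a b : G} (ha : a ∈ W) (hb : b ∈ W) :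
    a * b = b * a := by
  rw [← inv_eq_of_mul_eq_one_right (h _ (mul_mem ha hb)), mul_inv_rev, inv_eq_of_mul_eq_one_right (h _ ha),
    inv_eq_of_mul_eq_one_right (h _ hb)]

theorem inv_of_sq {W : Subgroup G} (h : ∀ a ∈ W, a * a = 1) {a : G} (ha : a ∈ W) : a⁻¹ = a :=
  inv_eq_of_mul_eq_one_right (h a ha)

theorem conj_mem_Wr [Finite G] {H : Subgroup G} {k a : G} (hk : k ∈ Kr H) (ha : a ∈ Wr H) :
    k * a * k⁻¹ ∈ Wr H :=
  (conj_mem_iff (Mr_norm_Wr H (le_Mr H (Kr_le H hk)))).2 ha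

namespace NatMod

variable {F : Type*} [Field F] {H T : Subgroup G} (m : NatMod F H T)
include m

theorem comm {a b : G} (ha : a ∈ Wr H) (hb : b ∈ Wr H) : a * b = b * a := comm_of_sq m.sq ha hb

theorem ext_mod {a b : G} (ha : a ∈ Wr H) (hb : b ∈ Wr H) (h0 : m.c₀ a = m.c₀ b) (h1 : m.c₁ a = m.c₁ b)
    [CharP F 2] : a * b ∈ Zr H := by
  refine (m.zero_iff _ (mul_mem ha hb)).1 ⟨?_, ?_⟩
  · rw [m.add₀ a ha b hb, h0, CharTwo.add_self_eq_zero]
  · rw [m.add₁ a ha b hb, h1, CharTwo.add_self_eq_zero]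

theorem cent_mem [Finite G] (k : G) (hk : k ∈ Kr H) (hc : ∀ w ∈ Wr H, k * w = w * k) : k ∈ Wr H := by
  refine (m.ker k hk).1 (Cfsg.Lib.LTP.eq_one_of_fix fun z y => ?_)
  obtain ⟨a, ha, rfl, rfl⟩ := m.onto z y
  have h0 := m.act₀ k hk a ha
  have h1 := m.act₁ k hk a ha
  rw [hc a ha, mul_inv_cancel_right] at h0 h1
  exact ⟨h0.symm, h1.symm⟩

theorem irred [Finite G] [CharP F 2] (U : Subgroup G) (hZ : Zr H ≤ U) (hU : U ≤ Wr H)
    (hn : Kr H ≤ normalizer (U : Set G)) : U = Zr H ∨ U = Wr H := by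
  by_cases hex : ∃ u ∈ U, u ∉ Zr H
  · refine Or.inr (le_antisymm hU fun a ha => ?_)
    obtain ⟨u, hu, huZ⟩ := hex
    have hne : ¬ (m.c₀ u = 0 ∧ m.c₁ u = 0) := fun h => huZ ((m.zero_iff u (hU hu)).1 h)
    by_cases hA : m.c₀ a = 0 ∧ m.c₁ a = 0
    · exact hZ ((m.zero_iff a ha).1 hA)
    · -- a matrix moving one vector to the other
      have hcol : ∀ z y : F, ¬ (z = 0 ∧ y = 0) → ∃ g : SL2 F, g.1 0 0 = z ∧ g.1 1 0 = y := by
        intro z y h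
        by_cases hz : z = 0
        · have hy : y ≠ 0 := fun hy => h ⟨hz, hy⟩
          exact ⟨⟨!![0, -y⁻¹; y, 0], by simp [Matrix.det_fin_two, hy]⟩, by simp [hz], by simp⟩
        · exact ⟨⟨!![z, 0; y, z⁻¹], by simp [Matrix.det_fin_two, hz]⟩, by simp, by simp⟩
      obtain ⟨g, g0, g1⟩ := hcol _ _ hne
      obtain ⟨g', g0', g1'⟩ := hcol _ _ hA
      obtain ⟨⟨k, hk⟩, hπ⟩ := m.surj (g' * g⁻¹)
      have hgg := Cfsg.Lib.LTP.det2 g
      have hm := conj_mem_Wr hk (hU hu)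
      have hz := m.ext_mod hm ha (b := a) (a := k * u * k⁻¹) (by
          rw [m.act₀ k hk u (hU hu), hπ, ← g0', ← g0, ← g1]
          simp only [LTP.mul_00, LTP.mul_01, Matrix.SpecialLinearGroup.coe_inv, Matrix.adjugate_fin_two,
            Matrix.of_apply, Matrix.cons_val', Matrix.cons_val_zero, Matrix.cons_val_one, Matrix.cons_val_fin_one]
          linear_combination g'.1 0 0 * hgg) (by
          rw [m.act₁ k hk u (hU hu), hπ, ← g1', ← g0, ← g1]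
          simp only [LTP.mul_10, LTP.mul_11, Matrix.SpecialLinearGroup.coe_inv, Matrix.adjugate_fin_two,
            Matrix.of_apply, Matrix.cons_val', Matrix.cons_val_zero, Matrix.cons_val_one, Matrix.cons_val_fin_one]
          linear_combination g'.1 1 0 * hgg)
      have := U.mul_mem (inv_mem ((conj_mem_iff (hn hk)).2 hu)) (hZ hz)
      rwa [inv_mul_cancel_left] at this
  · push Not at hex
    exact Or.inl (le_antisymm (fun u hu => hex u hu) hZ)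

end NatMod

theorem pair_or : ∀ v : Fin 5 → ZMod 2, v ≠ 0 → ∑ i, v i = 0 → ∃ σ : Equiv.Perm (Fin 5),
    Equiv.Perm.sign σ = 1 ∧ ∃ i j : Fin 5, i ≠ j ∧
      ((∀ l, v l + v (σ⁻¹ l) = if l = i ∨ l = j then 1 else 0) ∨
        ∀ l, v l = if l = i ∨ l = j then 1 else 0) := by
  decide +kernel

theorem perm_two : ∀ i j k l : Fin 5, i ≠ j → k ≠ l → ∃ σ : Equiv.Perm (Fin 5),
    Equiv.Perm.sign σ = 1 ∧ σ i = k ∧ σ j = l := by
  decide +kernel

/-- the weight two vector -/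
def pairVec (i j : Fin 5) : Fin 5 → ZMod 2 := fun l => if l = i ∨ l = j then 1 else 0

theorem pair_sum : ∀ i j : Fin 5, i ≠ j → ∑ l, pairVec i j l = 0 := by
  decide +kernel

theorem pair_expand : ∀ v : Fin 5 → ZMod 2, ∑ l, v l = 0 →
    v = v 0 • pairVec 0 4 + v 1 • pairVec 1 4 + v 2 • pairVec 2 4 + v 3 • pairVec 3 4 := by
  decide +kernel

namespace PermMod

variable {H T : Subgroup G} (m : PermMod H T)
include m

theorem comm {a b : G} (ha : a ∈ Wr H) (hb : b ∈ Wr H) : a * b = b * a := comm_of_sq m.sq ha hb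

theorem cent_mem [Finite G] (k : G) (hk : k ∈ Kr H) (hc : ∀ w ∈ Wr H, k * w = w * k) : k ∈ Wr H := by
  refine (m.ker k hk).1 (by_contra fun hne => ?_)
  have key : ∀ σ : Equiv.Perm (Fin 5), σ ≠ 1 → ∃ i j : Fin 5, i ≠ j ∧ ∃ l, pairVec i j (σ⁻¹ l) ≠ pairVec i j l := by
    decide +kernel
  obtain ⟨i, j, hij, l, hl⟩ := key _ hne
  obtain ⟨a, ha, hca⟩ := m.onto _ (pair_sum i j hij)
  have h := m.act k hk a ha l
  rw [hc a ha, mul_inv_cancel_right, hca] at h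
  exact hl h.symm

theorem irred [Finite G] (U : Subgroup G) (hZ : Zr H ≤ U) (hU : U ≤ Wr H)
    (hn : Kr H ≤ normalizer (U : Set G)) : U = Zr H ∨ U = Wr H := by
  by_cases hex : ∃ u ∈ U, u ∉ Zr H
  · refine Or.inr (le_antisymm hU fun a ha => ?_)
    obtain ⟨u, hu, huZ⟩ := hex
    let P : (Fin 5 → ZMod 2) → Prop := fun v => ∃ x ∈ U, m.c x = v
    have c1 : m.c 1 = 0 := by
      have h := m.add 1 (one_mem _) 1 (one_mem _)
      rw [mul_one] at h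
      exact left_eq_add.1 h
    have hadd : ∀ v w, P v → P w → P (v + w) := by
      rintro _ _ ⟨x, hx, rfl⟩ ⟨y, hy, rfl⟩
      exact ⟨x * y, U.mul_mem hx hy, m.add x (hU hx) y (hU hy)⟩
    have hact : ∀ σ : Equiv.Perm (Fin 5), Equiv.Perm.sign σ = 1 → ∀ v, P v → P (fun l => v (σ⁻¹ l)) := by
      rintro σ hσ _ ⟨x, hx, rfl⟩
      obtain ⟨⟨k, hk⟩, rfl⟩ := m.surj σ hσ
      exact ⟨k * x * k⁻¹, (conj_mem_iff (hn hk)).2 hx, funext fun l => m.act k hk x (hU hx) l⟩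
    have hsmul : ∀ (r : ZMod 2) v, P v → P (r • v) := by
      intro r v hv
      rcases (show ∀ r : ZMod 2, r = 0 ∨ r = 1 by decide) r with rfl | rfl
      · rw [zero_smul]; exact ⟨1, one_mem _, c1⟩
      · rwa [one_smul]
    obtain ⟨σ, hσ, i, j, hij, h⟩ := pair_or (m.c u) (fun h => huZ ((m.zero_iff u (hU hu)).1 h)) (m.sum u (hU hu))
    have hu' : P (m.c u) := ⟨u, hu, rfl⟩
    have hp : P (pairVec i j) := by
      rcases h with h | h
      · convert hadd _ _ hu' (hact σ hσ _ hu') using 1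
        exact funext fun l => (h l).symm
      · convert hu' using 1
        exact funext fun l => (h l).symm
    have hall : ∀ k : Fin 5, k ≠ 4 → P (pairVec k 4) := by
      intro k hk
      obtain ⟨τ, hτ, rfl, hτ4⟩ := perm_two i j k 4 hij hk
      convert hact τ hτ _ hp using 1
      refine funext fun l => ?_
      simp only [pairVec, ← hτ4, Equiv.Perm.inv_eq_iff_eq]
    obtain ⟨x, hx, hcx⟩ : P (m.c a) := by
      rw [pair_expand _ (m.sum a ha)]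
      exact hadd _ _ (hadd _ _ (hadd _ _ (hsmul _ _ (hall 0 (by decide))) (hsmul _ _ (hall 1 (by decide))))
        (hsmul _ _ (hall 2 (by decide)))) (hsmul _ _ (hall 3 (by decide)))
    have hz : x * a ∈ Zr H := (m.zero_iff _ (mul_mem (hU hx) ha)).1 (by
      rw [m.add x (hU hx) a ha, hcx]
      exact funext fun l => CharTwo.add_self_eq_zero _)
    have := U.mul_mem (inv_mem hx) (hZ hz)
    rwa [inv_mul_cancel_left] at this
  · push Not at hex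
    exact Or.inl (le_antisymm (fun u hu => hex u hu) hZ)

end PermMod

end Cfsg.Lib.PushPair
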