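import Cfsg.Agent.PushPair.Module

/-!
# A conjugate of the module outside the core
-/

set_option autoImplicit false
set_option linter.style.haveILetI false

namespace Cfsg.Lib.PushPair

open Subgroup
open Cfsg.Lib.LTP (cjg SL2 upGroup)
open scoped commutatorElement

variable {G : Type*} [Group G]

/-- what both kinds of module share -/
structure GoodMod (H : Subgroup G) : Prop where
  sq : ∀ a ∈ Wr H, a * a = 1
  ne : Wr H ≠ ⊥
  wk : Wr H ≤ ⁅Kr H, Wr H⁆
  centMem : ∀ k ∈ Kr H, (∀ w ∈ Wr H, k * w = w * k) → k ∈ Wr H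
  irred : ∀ U : Subgroup G, Zr H ≤ U → U ≤ Wr H → Kr H ≤ normalizer (U : Set G) → U = Zr H ∨ U = Wr H

variable [Finite G]

theorem NatMod.good {F : Type*} [Field F] [CharP F 2] {H T : Subgroup G} (m : NatMod F H T) : GoodMod H where
  sq := m.sq
  ne h := by
    obtain ⟨a, ha, h0, -⟩ := m.onto 1 0
    rw [h, mem_bot] at ha
    have h1 := m.add₀ 1 (one_mem _) 1 (one_mem _)
    rw [mul_one, left_eq_add] at h1
    rw [ha, h1] at h0
    exact zero_ne_one h0
  wk := m.wk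
  centMem := m.cent_mem
  irred := m.irred

theorem PermMod.good {H T : Subgroup G} (m : PermMod H T) : GoodMod H where
  sq := m.sq
  ne h := by
    obtain ⟨a, ha, h0⟩ := m.onto (pairVec 0 1) (pair_sum 0 1 (by decide))
    rw [h, mem_bot] at ha
    have h1 := m.add 1 (one_mem _) 1 (one_mem _)
    rw [mul_one, left_eq_add] at h1
    rw [ha, h1] at h0
    exact absurd (congrFun h0 0) (by decide +kernel)
  wk := m.wk
  centMem := m.cent_mem
  irred := m.irred

/-- the standing data: an element of the normaliser of `T` moving the module out of the core -/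
structure Moved (H T : Subgroup G) (g : G) : Prop where
  su : Setup H T
  gm : GoodMod H
  norm : g ∈ normalizer (T : Set G)
  out : g ∉ Mr H
  move : ¬ cjg g (Wr H) ≤ Qr H

theorem mem_cjg_iff {g x : G} {A : Subgroup G} : x ∈ cjg g A ↔ g⁻¹ * x * g ∈ A := Cfsg.Lib.LTP.mem_cjg

theorem cjg_inv_cjg (g : G) (A : Subgroup G) : cjg g⁻¹ (cjg g A) = A := by
  rw [← Cfsg.Lib.LTP.cjg_mul, inv_mul_cancel, Cfsg.Lib.LTP.cjg_one]

theorem cjg_inf (g : G) (A B : Subgroup G) : cjg g (A ⊓ B) = cjg g A ⊓ cjg g B :=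
  Subgroup.map_inf _ _ _ (MulAut.conj g).injective

theorem cjg_mono {A B : Subgroup G} (g : G) (h : A ≤ B) : cjg g A ≤ cjg g B := map_mono h

namespace Moved

variable {H T : Subgroup G} {g : G} (v : Moved H T g)
include v

theorem comm {a b : G} (ha : a ∈ Wr H) (hb : b ∈ Wr H) : a * b = b * a := comm_of_sq v.gm.sq ha hb

theorem Q_comm : ∀ q ∈ Qr H, ∀ w ∈ Wr H, q * w = w * q :=
  v.su.Q_comm_W (fun _ ha _ hb => v.comm ha hb) v.gm.ne v.gm.wk v.gm.irred

theorem T_cent {t : G} (ht : t ∈ T) (hc : ∀ w ∈ Wr H, t * w = w * t) : t ∈ Qr H :=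
  v.su.cent_W_T v.gm.centMem ht hc

theorem conj_T {x : G} : g * x * g⁻¹ ∈ T ↔ x ∈ T := conj_mem_iff v.norm

theorem cjg_T : cjg g T = T := Cfsg.Lib.LTP.cjg_eq_iff.2 v.norm

theorem W'_le_T : cjg g (Wr H) ≤ T := (cjg_mono g v.su.Wr_le_T').trans v.cjg_T.le

theorem Q'_le_T : cjg g (Qr H) ≤ T := (cjg_mono g v.su.Q_le_T).trans v.cjg_T.le

theorem norm_T_cjg {A : Subgroup G} (hA : T ≤ normalizer (A : Set G)) :
    T ≤ normalizer (cjg g A : Set G) := fun t ht => mem_norm_of_conj fun x hx => by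
  rw [mem_cjg_iff] at hx ⊢
  have ht' : g⁻¹ * t * g ∈ T := v.conj_T.1 (by simpa [mul_assoc] using ht)
  have := (conj_mem_iff (hA ht')).2 hx
  simpa [mul_assoc] using this

/-- membership in the moved core -/
theorem mem_Q' {t : G} (ht : t ∈ T) : t ∈ cjg g (Qr H) ↔ ∀ w ∈ cjg g (Wr H), t * w = w * t := by
  constructor
  · rintro ⟨q, hq, rfl⟩ _ ⟨w, hw, rfl⟩
    show g * q * g⁻¹ * (g * w * g⁻¹) = g * w * g⁻¹ * (g * q * g⁻¹)
    rw [show g * q * g⁻¹ * (g * w * g⁻¹) = g * (q * w) * g⁻¹ by group, v.Q_comm q hq w hw]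
    group
  · intro h
    rw [mem_cjg_iff]
    refine v.T_cent (v.conj_T.1 (by simpa [mul_assoc] using ht)) fun w hw => ?_
    have h2 := congrArg (fun y => g⁻¹ * y * g) (h _ (Cfsg.Lib.LTP.cjg_mem (g := g) hw))
    simpa [mul_assoc] using h2

/-- the module is not inside the moved core -/
theorem W_not_le : ¬ Wr H ≤ cjg g (Qr H) := fun h => v.move fun x hx => v.T_cent (v.W'_le_T hx) fun w hw =>
  ((v.mem_Q' (v.su.Wr_le_T' hw)).1 (h hw) x hx).symm

theorem inv : Moved H T g⁻¹ where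
  su := v.su
  gm := v.gm
  norm := inv_mem v.norm
  out h := v.out (by simpa using inv_mem h)
  move h := v.W_not_le (by
    have h' := cjg_mono g h
    rwa [← Cfsg.Lib.LTP.cjg_mul, mul_inv_cancel, Cfsg.Lib.LTP.cjg_one] at h')

theorem W'_norm : T ≤ normalizer (cjg g (Wr H) : Set G) :=
  v.norm_T_cjg (v.su.T_le_M.trans (Mr_norm_Wr H))

theorem W'_sq {a : G} (ha : a ∈ cjg g (Wr H)) : a * a = 1 := by
  obtain ⟨w, hw, rfl⟩ := ha
  show g * w * g⁻¹ * (g * w * g⁻¹) = 1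
  rw [show g * w * g⁻¹ * (g * w * g⁻¹) = g * (w * w) * g⁻¹ by group, v.gm.sq w hw, mul_one, mul_inv_cancel]

theorem W'_comm {a b : G} (ha : a ∈ cjg g (Wr H)) (hb : b ∈ cjg g (Wr H)) : a * b = b * a :=
  comm_of_sq (fun _ h => v.W'_sq h) ha hb

/-- commutators of the module and its conjugate lie in both -/
theorem comm_mem {w x : G} (hw : w ∈ Wr H) (hx : x ∈ cjg g (Wr H)) :
    x * w * x⁻¹ * w⁻¹ ∈ Wr H ⊓ cjg g (Wr H) := by
  refine mem_inf.2 ⟨mul_mem ((conj_mem_iff (Mr_norm_Wr H (v.su.T_le_M (v.W'_le_T hx)))).2 hw) (inv_mem hw), ?_⟩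
  rw [show x * w * x⁻¹ * w⁻¹ = x * (w * x⁻¹ * w⁻¹) by group]
  exact mul_mem hx ((conj_mem_iff (v.W'_norm (v.su.Wr_le_T' hw))).2 (inv_mem hx))

/-- squares of elements of the core centralise the odd residual -/
theorem sq_mem_Dr {r : G} (hr : r ∈ Qr H) : r * r ∈ Dr H := by
  refine mem_Dr.2 ⟨mul_mem hr hr, fun k hk => ?_⟩
  set c := r * k * r⁻¹ * k⁻¹ with hc
  have hcW : c ∈ Wr H := (Qr_le_centPart H hr).2 k hk
  have e : r * k = c * k * r := by rw [hc]; group
  calc k * (r * r) = c * c * k * (r * r) := by rw [v.gm.sq c hcW, one_mul]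
    _ = c * (c * k * r) * r := by group
    _ = c * r * k * r := by rw [← e]; group
    _ = r * c * k * r := by rw [v.Q_comm r hr c hcW]
    _ = r * (c * k * r) := by group
    _ = r * r * k := by rw [← e, mul_assoc]

theorem Dr_norm : H ≤ normalizer (Dr H : Set G) := fun h hh => mem_norm_of_conj fun x hx => by
  refine mem_Dr.2 ⟨(conj_mem_iff (H_norm_Qr H hh)).2 (mem_Dr.1 hx).1, fun k hk => ?_⟩
  have e := (mem_Dr.1 hx).2 _ ((conj_mem_iff (inv_mem (le_Mr H hh))).2 hk)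
  have e2 := congrArg (fun y => h * y * h⁻¹) e
  simpa [mul_assoc] using e2

theorem Dr_disjoint : Dr H ⊓ cjg g (Dr H) = ⊥ := v.su.Dr_inter v.norm v.out

/-- the part of `W` fixed by the odd residual avoids the moved one -/
theorem Zr_le_Dr : Zr H ≤ Dr H := inf_le_inf_right _ (Wr_le_Qr H)

/-- the normaliser of a nontrivial subgroup normal in `H` lies in `M` -/
theorem norm_W_le : normalizer (Wr H : Set G) ≤ Mr H :=
  v.su.local_le (Wr_two H) v.gm.ne ((le_Mr H).trans (Mr_norm_Wr H))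

theorem norm_Q_le : normalizer (Qr H : Set G) ≤ Mr H :=
  v.su.local_le (Qr_two H) v.su.Q_ne (H_norm_Qr H)

/-- conjugation respects the indices of the two intersections -/
theorem card_W'_inf_Q :
    Nat.card ↥(cjg g (Wr H) ⊓ Qr H : Subgroup G) = Nat.card ↥(Wr H ⊓ cjg g⁻¹ (Qr H) : Subgroup G) := by
  rw [← Cfsg.Lib.LTP.card_cjg g (Wr H ⊓ cjg g⁻¹ (Qr H)), cjg_inf, ← Cfsg.Lib.LTP.cjg_mul, mul_inv_cancel,
    Cfsg.Lib.LTP.cjg_one]

end Moved

/-- the choice of the moving element -/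
theorem Setup.exists_moved {H T : Subgroup G} (s : Setup H T) (hm : GoodMod H) {g₀ : G}
    (hg₀ : g₀ ∈ normalizer (T : Set G)) (hg₀M : g₀ ∉ Mr H) : ∃ g, Moved H T g := by
  obtain ⟨g, hg, hgM, hmove⟩ := s.exists_move hm.ne hg₀ hg₀M
  exact ⟨g, s, hm, hg, hgM, hmove⟩

end Cfsg.Lib.PushPair
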