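import Cfsg.Agent.PushPair.Move

/-!
# The natural module: the action of the elements of `T`, and the image of the conjugate module
-/

set_option autoImplicit false
set_option linter.style.haveILetI false

namespace Cfsg.Lib.PushPair

open Subgroup
open Cfsg.Lib.LTP (cjg SL2 upGroup up lo)

variable {G : Type*} [Group G]

/-- the trace of `T` on the odd residual together with the core -/
abbrev Tk (H T : Subgroup G) : Subgroup G := (T ⊓ Kr H) ⊔ Qr H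

variable [Finite G]

theorem conj_mem_Zr {H : Subgroup G} {x a : G} (hx : x ∈ Mr H) (ha : a ∈ Zr H) : x * a * x⁻¹ ∈ Zr H := by
  refine mem_Zr.2 ⟨(conj_mem_iff (Mr_norm_Wr H hx)).2 (mem_Zr.1 ha).1, fun k hk => ?_⟩
  have e := (mem_Zr.1 ha).2 _ ((conj_mem_iff (inv_mem hx)).2 hk)
  have e2 := congrArg (fun y => x * y * x⁻¹) e
  simpa [mul_assoc] using e2

theorem conj_mem_Dr {H : Subgroup G} {x a : G} (hx : x ∈ Mr H) (hQ : x ∈ normalizer (Qr H : Set G))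
    (ha : a ∈ Dr H) : x * a * x⁻¹ ∈ Dr H := by
  refine mem_Dr.2 ⟨(conj_mem_iff hQ).2 (mem_Dr.1 ha).1, fun k hk => ?_⟩
  have e := (mem_Dr.1 ha).2 _ ((conj_mem_iff (inv_mem hx)).2 hk)
  have e2 := congrArg (fun y => x * y * x⁻¹) e
  simpa [mul_assoc] using e2

namespace NatMod

variable {F : Type*} [Field F] [CharP F 2] {H T : Subgroup G} (m : NatMod F H T)
include m

omit [Finite G] in
theorem z₀ {a : G} (ha : a ∈ Zr H) : m.c₀ a = 0 ∧ m.c₁ a = 0 := (m.zero_iff a (mem_Zr.1 ha).1).2 ha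

omit [Finite G] in
theorem c_inv {a : G} (ha : a ∈ Wr H) : m.c₀ a⁻¹ = m.c₀ a ∧ m.c₁ a⁻¹ = m.c₁ a := by
  rw [inv_eq_of_mul_eq_one_right (m.sq a ha)]; exact ⟨rfl, rfl⟩

omit [Finite G] in
theorem c_one : m.c₀ 1 = 0 ∧ m.c₁ 1 = 0 := m.z₀ (one_mem _)

theorem π_mul {a b : G} (ha : a ∈ Kr H) (hb : b ∈ Kr H) :
    m.π ⟨a * b, mul_mem ha hb⟩ = m.π ⟨a, ha⟩ * m.π ⟨b, hb⟩ := m.π.map_mul ⟨a, ha⟩ ⟨b, hb⟩

omit [Finite G] [CharP F 2] in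
theorem π_inv {a : G} (ha : a ∈ Kr H) : m.π ⟨a⁻¹, inv_mem ha⟩ = (m.π ⟨a, ha⟩)⁻¹ := m.π.map_inv ⟨a, ha⟩

omit [Finite G] in
theorem lift_up (s : F) : ∃ u, ∃ hu : u ∈ Kr H, u ∈ T ∧ m.π ⟨u, hu⟩ = up s := by
  obtain ⟨⟨u, hu⟩, h⟩ := m.surj (up s)
  exact ⟨u, hu, (m.frame u hu).2 (by rw [h]; exact LTP.up_mem s), h⟩

theorem act_up {u : G} (hu : u ∈ Kr H) {s : F} (h : m.π ⟨u, hu⟩ = up s) {w : G} (hw : w ∈ Wr H) :
    m.c₀ (u * w * u⁻¹) = m.c₀ w + s * m.c₁ w ∧ m.c₁ (u * w * u⁻¹) = m.c₁ w := by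
  rw [m.act₀ u hu w hw, m.act₁ u hu w hw, h]
  simp

theorem comm_up {u : G} (hu : u ∈ Kr H) {s : F} (h : m.π ⟨u, hu⟩ = up s) {w : G} (hw : w ∈ Wr H) :
    m.c₀ (u * w * u⁻¹ * w⁻¹) = s * m.c₁ w ∧ m.c₁ (u * w * u⁻¹ * w⁻¹) = 0 := by
  have hw' := conj_mem_Wr hu hw
  rw [m.add₀ _ hw' _ (inv_mem hw), m.add₁ _ hw' _ (inv_mem hw), (m.c_inv hw).1, (m.c_inv hw).2,
    (m.act_up hu h hw).1, (m.act_up hu h hw).2, CharTwo.add_self_eq_zero, add_assoc, add_comm (s * _), ← add_assoc,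
    CharTwo.add_self_eq_zero, zero_add]
  exact ⟨rfl, rfl⟩

theorem same_coords {x w w' : G} (hx : x ∈ Mr H) (hw : w ∈ Wr H) (hw' : w' ∈ Wr H)
    (h0 : m.c₀ w = m.c₀ w') (h1 : m.c₁ w = m.c₁ w') :
    m.c₀ (x * w * x⁻¹) = m.c₀ (x * w' * x⁻¹) ∧ m.c₁ (x * w * x⁻¹) = m.c₁ (x * w' * x⁻¹) := by
  have hz := conj_mem_Zr hx (m.ext_mod hw hw' h0 h1)
  have e : x * w * x⁻¹ = x * (w * w') * x⁻¹ * (x * w' * x⁻¹)⁻¹ := by group
  have hc' := (conj_mem_iff (Mr_norm_Wr H hx)).2 hw'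
  rw [e, m.add₀ _ (mem_Zr.1 hz).1 _ (inv_mem hc'), m.add₁ _ (mem_Zr.1 hz).1 _ (inv_mem hc'), (m.z₀ hz).1,
    (m.z₀ hz).2, (m.c_inv hc').1, (m.c_inv hc').2, zero_add, zero_add]
  exact ⟨rfl, rfl⟩

/-- the action of an element of `T` in coordinates -/
structure TriAct (x : G) where
  /-- on the line -/
  a : F → F
  /-- the mixed part -/
  b : F → F
  /-- on the quotient -/
  c : F → F
  /-- on the root group -/
  τ : F → F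
  e₀ : ∀ w ∈ Wr H, m.c₀ (x * w * x⁻¹) = a (m.c₀ w) + b (m.c₁ w)
  e₁ : ∀ w ∈ Wr H, m.c₁ (x * w * x⁻¹) = c (m.c₁ w)
  root : ∀ (u : G) (hu : u ∈ Kr H) (h' : x * u * x⁻¹ ∈ Kr H) (s : F),
    m.π ⟨u, hu⟩ = up s → m.π ⟨x * u * x⁻¹, h'⟩ = up (τ s)
  rel : ∀ s y, a (s * y) = τ s * c y

theorem exists_tri_act' {x : G} (hxM : x ∈ Mr H) (hxU : ∀ u ∈ T ⊓ Kr H, x * u * x⁻¹ ∈ T) :
    Nonempty (m.TriAct x) := by
  classical
  have hτ : ∀ s, ∃ r, ∀ (u : G) (hu : u ∈ Kr H) (h' : x * u * x⁻¹ ∈ Kr H),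
      m.π ⟨u, hu⟩ = up s → m.π ⟨x * u * x⁻¹, h'⟩ = up r := by
    intro s
    obtain ⟨u₀, hu₀, hu₀T, hπ⟩ := m.lift_up s
    have h₀ : x * u₀ * x⁻¹ ∈ Kr H := (conj_mem_iff hxM).2 hu₀
    obtain ⟨r, hr⟩ := LTP.mem_upGroup.1 ((m.frame _ h₀).1 (hxU u₀ (mem_inf.2 ⟨hu₀T, hu₀⟩)))
    refine ⟨r, fun u hu h' hπu => ?_⟩
    rw [← hr]
    have h1 : u₀⁻¹ * u ∈ Wr H := (m.ker _ (mul_mem (inv_mem hu₀) hu)).1 (by
      rw [m.π_mul (inv_mem hu₀) hu, m.π_inv hu₀, hπ, hπu, inv_mul_cancel])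
    have h2 := (conj_mem_iff (Mr_norm_Wr H hxM)).2 h1
    have h3 := (m.ker _ (Wr_le_Kr H h2)).2 h2
    rw [show (⟨x * u * x⁻¹, h'⟩ : ↥(Kr H)) = ⟨x * u₀ * x⁻¹, h₀⟩ * ⟨x * (u₀⁻¹ * u) * x⁻¹, Wr_le_Kr H h2⟩ from
      Subtype.ext (show x * u * x⁻¹ = x * u₀ * x⁻¹ * (x * (u₀⁻¹ * u) * x⁻¹) by group), map_mul, h3, mul_one]
  choose τ hτ using hτ
  have he : ∀ z y, ∃ w ∈ Wr H, m.c₀ w = z ∧ m.c₁ w = y := m.onto
  choose e hew hez hey using he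
  have hconj : ∀ w ∈ Wr H, x * w * x⁻¹ ∈ Wr H := fun w hw => (conj_mem_iff (Mr_norm_Wr H hxM)).2 hw
  have hτ1 : τ 1 ≠ 0 := fun h0 => by
    obtain ⟨u, hu, -, hπ⟩ := m.lift_up 1
    have h' : x * u * x⁻¹ ∈ Kr H := (conj_mem_iff hxM).2 hu
    have h1 := hτ 1 u hu h' hπ
    rw [h0, LTP.up_zero, m.ker _ h'] at h1
    have h2 := (m.ker u hu).2 ((conj_mem_iff (Mr_norm_Wr H hxM)).1 h1)
    rw [hπ, LTP.up_eq_one] at h2
    exact one_ne_zero h2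
  have hlow : ∀ w ∈ Wr H, m.c₁ w = 0 → m.c₁ (x * w * x⁻¹) = 0 := by
    intro w hw h0
    obtain ⟨u, hu, -, hπ⟩ := m.lift_up 1
    have h' : x * u * x⁻¹ ∈ Kr H := (conj_mem_iff hxM).2 hu
    have hz : u * w * u⁻¹ * w⁻¹ ∈ Zr H := (m.zero_iff _ (mul_mem (conj_mem_Wr hu hw) (inv_mem hw))).1
      (by rw [(m.comm_up hu hπ hw).1, (m.comm_up hu hπ hw).2, h0, mul_zero]; exact ⟨rfl, rfl⟩)
    have h1 := (m.comm_up h' (hτ 1 u hu h' hπ) (hconj w hw)).1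
    rw [show x * u * x⁻¹ * (x * w * x⁻¹) * (x * u * x⁻¹)⁻¹ * (x * w * x⁻¹)⁻¹ =
      x * (u * w * u⁻¹ * w⁻¹) * x⁻¹ by group, (m.z₀ (conj_mem_Zr hxM hz)).1] at h1
    exact (mul_eq_zero.1 h1.symm).resolve_left hτ1
  have hsplit : ∀ w ∈ Wr H, m.c₀ (x * w * x⁻¹) =
      m.c₀ (x * e (m.c₀ w) 0 * x⁻¹) + m.c₀ (x * e 0 (m.c₁ w) * x⁻¹) ∧
      m.c₁ (x * w * x⁻¹) = m.c₁ (x * e 0 (m.c₁ w) * x⁻¹) := by
    intro w hw
    have hs := m.same_coords hxM hw (w' := e (m.c₀ w) 0 * e 0 (m.c₁ w))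
      (mul_mem (hew _ _) (hew _ _))
      (by rw [m.add₀ _ (hew _ _) _ (hew _ _), hez, hez, add_zero])
      (by rw [m.add₁ _ (hew _ _) _ (hew _ _), hey, hey, zero_add])
    rw [hs.1, hs.2, show x * (e (m.c₀ w) 0 * e 0 (m.c₁ w)) * x⁻¹ =
      x * e (m.c₀ w) 0 * x⁻¹ * (x * e 0 (m.c₁ w) * x⁻¹) by group, m.add₀ _ (hconj _ (hew _ _)) _ (hconj _ (hew _ _)),
      m.add₁ _ (hconj _ (hew _ _)) _ (hconj _ (hew _ _)), hlow _ (hew _ _) (hey _ _), zero_add]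
    exact ⟨rfl, rfl⟩
  refine ⟨{ a := fun z => m.c₀ (x * e z 0 * x⁻¹), b := fun y => m.c₀ (x * e 0 y * x⁻¹),
            c := fun y => m.c₁ (x * e 0 y * x⁻¹), τ := τ,
            e₀ := fun w hw => (hsplit w hw).1, e₁ := fun w hw => (hsplit w hw).2,
            root := fun u hu h' s hπ => hτ s u hu h' hπ, rel := fun s y => ?_ }⟩
  obtain ⟨u, hu, -, hπ⟩ := m.lift_up s
  have h' : x * u * x⁻¹ ∈ Kr H := (conj_mem_iff hxM).2 hu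
  have hw := hew 0 y
  have h1 := (m.comm_up h' (hτ s u hu h' hπ) (hconj _ hw)).1
  rw [show x * u * x⁻¹ * (x * e 0 y * x⁻¹) * (x * u * x⁻¹)⁻¹ * (x * e 0 y * x⁻¹)⁻¹ =
    x * (u * e 0 y * u⁻¹ * (e 0 y)⁻¹) * x⁻¹ by group] at h1
  show m.c₀ (x * e (s * y) 0 * x⁻¹) = τ s * m.c₁ (x * e 0 y * x⁻¹)
  rw [← h1]
  refine (m.same_coords hxM (hew _ _) (mul_mem (conj_mem_Wr hu hw) (inv_mem hw)) ?_ ?_).1
  · rw [hez, (m.comm_up hu hπ hw).1, hey]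
  · rw [hey, (m.comm_up hu hπ hw).2]

theorem exists_tri_act (su : Setup H T) {x : G} (hx : x ∈ T) : Nonempty (m.TriAct x) :=
  m.exists_tri_act' (su.T_le_M hx) fun _ hu => mul_mem (mul_mem hx (mem_inf.1 hu).1) (inv_mem hx)

/-- an element of a 2-group of `M` centralising the root group modulo the module lies above it -/
theorem mem_Tk' (su : Setup H T) {P : Subgroup G} (hP : IsPGroup 2 ↥P) (hTP : Tk H T ≤ P) (hPM : P ≤ Mr H)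
    {x : G} (hx : x ∈ P) (hxU : ∀ u ∈ T ⊓ Kr H, x * u * x⁻¹ ∈ T)
    (h : ∀ u ∈ T ⊓ Kr H, x * u * x⁻¹ * u⁻¹ ∈ Wr H) : x ∈ Tk H T := by
  have hxM := hPM hx
  obtain ⟨A⟩ := m.exists_tri_act' hxM hxU
  have hτ : ∀ s, A.τ s = s := by
    intro s
    obtain ⟨u, hu, huT, hπ⟩ := m.lift_up s
    have h' : x * u * x⁻¹ ∈ Kr H := (conj_mem_iff hxM).2 hu
    have h1 := (m.ker _ (mul_mem h' (inv_mem hu))).2 (h u (mem_inf.2 ⟨huT, hu⟩))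
    rw [m.π_mul h' (inv_mem hu), m.π_inv hu, A.root u hu h' s hπ, hπ, mul_inv_eq_one] at h1
    exact LTP.up_inj h1
  have hac : ∀ y, A.a y = A.c y := fun y => by
    have := A.rel 1 y
    rwa [hτ, one_mul, one_mul] at this
  set γ := A.a 1 with hγ
  have hlin : ∀ y, A.a y = γ * y := fun y => by
    have h1 := A.rel y 1
    rw [mul_one, hτ, ← hac 1, ← hγ] at h1
    rw [h1, mul_comm]
  have hn : ∀ n : ℕ, ∀ w ∈ Wr H, m.c₁ (x ^ n * w * (x ^ n)⁻¹) = γ ^ n * m.c₁ w := by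
    intro n
    induction n with
    | zero => intro w _; simp
    | succ n ih =>
      intro w hw
      rw [show x ^ (n + 1) * w * (x ^ (n + 1))⁻¹ = x ^ n * (x * w * x⁻¹) * (x ^ n)⁻¹ by
        rw [pow_succ]; group, ih _ ((conj_mem_iff (Mr_norm_Wr H hxM)).2 hw), A.e₁ w hw, ← hac, hlin, pow_succ]
      ring
  obtain ⟨k, hk⟩ := hP ⟨x, hx⟩
  have hγ1 : γ = 1 := by
    obtain ⟨w, hw, -, hw1⟩ := m.onto 0 1
    have h1 := hn (2 ^ k) w hw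
    rw [show x ^ 2 ^ k = 1 from congrArg Subtype.val hk, one_mul, inv_one, mul_one, hw1, mul_one] at h1
    have h2 : (γ - 1) ^ 2 ^ k = 0 := by
      rw [sub_pow_char_pow, one_pow, ← h1, sub_self]
    exact sub_eq_zero.1 (pow_eq_zero_iff (pow_ne_zero _ two_ne_zero) |>.1 h2)
  have ha : ∀ y, A.a y = y := fun y => by rw [hlin, hγ1, one_mul]
  -- the mixed part is linear
  obtain ⟨⟨l, hl⟩, hπl⟩ := m.surj (lo 1)
  have hl' : x * l * x⁻¹ ∈ Kr H := (conj_mem_iff hxM).2 hl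
  set M := m.π ⟨x * l * x⁻¹, hl'⟩
  have hb : ∀ z, A.b z = (M.1 0 0 - 1) * z := by
    intro z
    obtain ⟨w, hw, hwz, hw0⟩ := m.onto z 0
    have hwl := conj_mem_Wr hl hw
    have hxw := (conj_mem_iff (Mr_norm_Wr H hxM)).2 hw
    have h1 := m.act₀ _ hl' _ hxw
    rw [show x * l * x⁻¹ * (x * w * x⁻¹) * (x * l * x⁻¹)⁻¹ = x * (l * w * l⁻¹) * x⁻¹ by group,
      A.e₀ _ hwl, A.e₀ _ hw, A.e₁ _ hw, m.act₀ l hl w hw, m.act₁ l hl w hw, hπl, hwz, hw0,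
      ← hac, ha, ha] at h1
    simp only [LTP.lo_00, LTP.lo_01, LTP.lo_10, LTP.lo_11, one_mul, mul_zero, add_zero, ha] at h1
    have hb0 : A.b 0 = 0 := by
      have := A.e₀ 1 (one_mem _)
      rw [mul_one, mul_inv_cancel, m.c_one.1, m.c_one.2, ha, zero_add] at this
      exact this.symm
    rw [hb0, add_zero] at h1
    linear_combination h1
  obtain ⟨u, hu, huT, hπ⟩ := m.lift_up (M.1 0 0 - 1)
  have hux : u⁻¹ * x ∈ Qr H := by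
    refine su.mem_Q_of hP (le_sup_right.trans hTP) hPM
      (mul_mem (inv_mem (hTP (mem_sup_left (mem_inf.2 ⟨huT, hu⟩)))) hx) fun k' hk' => ?_
    set y := u⁻¹ * x
    have hyM : y ∈ Mr H := mul_mem (inv_mem (le_Mr H (Kr_le H hu))) hxM
    have hy : ∀ w ∈ Wr H, m.c₀ (y * w * y⁻¹) = m.c₀ w ∧ m.c₁ (y * w * y⁻¹) = m.c₁ w := by
      intro w hw
      have hw' := (conj_mem_iff (Mr_norm_Wr H hxM)).2 hw
      have hui : m.π ⟨u⁻¹, inv_mem hu⟩ = up (M.1 0 0 - 1) := by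
        rw [m.π_inv hu, hπ, inv_eq_iff_mul_eq_one, ← LTP.up_add, CharTwo.add_self_eq_zero, LTP.up_zero]
      rw [show y * w * y⁻¹ = u⁻¹ * (x * w * x⁻¹) * u⁻¹⁻¹ by simp only [y]; group,
        (m.act_up _ hui hw').1, (m.act_up _ hui hw').2, A.e₀ w hw, A.e₁ w hw, ← hac, ha, ha, hb]
      exact ⟨by linear_combination (M.1 0 0 - 1) * m.c₁ w * CharTwo.two_eq_zero (R := F), rfl⟩
    have h1 : y * k' * y⁻¹ ∈ Kr H := (conj_mem_iff hyM).2 hk'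
    refine (m.ker _ (mul_mem h1 (inv_mem hk'))).1 (Cfsg.Lib.LTP.eq_one_of_fix fun z y' => ?_)
    obtain ⟨w, hw, rfl, rfl⟩ := m.onto z y'
    have hw1 : k'⁻¹ * w * k'⁻¹⁻¹ ∈ Wr H := conj_mem_Wr (inv_mem hk') hw
    have hw2 : y⁻¹ * (k'⁻¹ * w * k'⁻¹⁻¹) * y⁻¹⁻¹ ∈ Wr H := (conj_mem_iff (Mr_norm_Wr H (inv_mem hyM))).2 hw1
    have hw3 := conj_mem_Wr hk' hw2
    have e1 := hy _ hw2
    rw [show y * (y⁻¹ * (k'⁻¹ * w * k'⁻¹⁻¹) * y⁻¹⁻¹) * y⁻¹ = k'⁻¹ * w * k'⁻¹⁻¹ by group] at e1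
    have e2 := m.same_coords (le_Mr H (Kr_le H hk')) hw2 hw1 e1.1.symm e1.2.symm
    rw [show k' * (k'⁻¹ * w * k'⁻¹⁻¹) * k'⁻¹ = w by group] at e2
    have e3 := hy _ hw3
    rw [← m.act₀ _ _ w hw, ← m.act₁ _ _ w hw, show y * k' * y⁻¹ * k'⁻¹ * w * (y * k' * y⁻¹ * k'⁻¹)⁻¹ =
      y * (k' * (y⁻¹ * (k'⁻¹ * w * k'⁻¹⁻¹) * y⁻¹⁻¹) * k'⁻¹) * y⁻¹ by group, e3.1, e3.2]
    exact e2
  have := mul_mem (mem_sup_left (mem_inf.2 ⟨huT, hu⟩) : u ∈ Tk H T) (mem_sup_right hux)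
  rwa [mul_inv_cancel_left] at this

/-- an element of `T` centralising the root group modulo the module lies above it -/
theorem mem_Tk (su : Setup H T) {x : G} (hx : x ∈ T)
    (h : ∀ u ∈ T ⊓ Kr H, x * u * x⁻¹ * u⁻¹ ∈ Wr H) : x ∈ Tk H T :=
  m.mem_Tk' su su.T_two (sup_le inf_le_left su.Q_le_T) su.T_le_M hx
    (fun _ hu => mul_mem (mul_mem hx (mem_inf.1 hu).1) (inv_mem hx)) h

end NatMod

end Cfsg.Lib.PushPair
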