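import Cfsg.Agent.PushPair.NatAct

/-!
# The natural module: the two cores and their join
-/

set_option autoImplicit false
set_option linter.style.haveILetI false

namespace Cfsg.Lib.PushPair

open Subgroup
open Cfsg.Lib.LTP (cjg SL2 upGroup up lo)

variable {G : Type*} [Group G]

/-- the natural situation -/
structure NatCtx (F : Type*) [Field F] (H T : Subgroup G) (g : G) where
  /-- the moved element -/
  v : Moved H T g
  /-- the module -/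
  m : NatMod F H T
  four : 4 ≤ Nat.card F

variable [Finite G] {F : Type*} [Field F] [Finite F] [CharP F 2] {H T : Subgroup G} {g : G}

namespace NatCtx

variable (n : NatCtx F H T g)
include n

/-- the same situation for the inverse -/
def inv : NatCtx F H T g⁻¹ := ⟨n.v.inv, n.m, n.four⟩

omit [Finite F] in
/-- **the conjugate module lies above the root group** -/
theorem W'_le : cjg g (Wr H) ≤ Tk H T := by
  intro x hx
  have hxT := n.v.W'_le_T hx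
  have hxM := n.v.su.T_le_M hxT
  refine n.m.mem_Tk n.v.su hxT fun u hu => ?_
  obtain ⟨huT, huK⟩ := mem_inf.1 hu
  obtain ⟨A⟩ := n.m.exists_tri_act n.v.su hxT
  have h' : x * u * x⁻¹ ∈ Kr H := (conj_mem_iff hxM).2 huK
  obtain ⟨s, hs⟩ := LTP.mem_upGroup.1 ((n.m.frame u huK).1 huT)
  refine (n.m.ker _ (mul_mem h' (inv_mem huK))).1 ?_
  rw [n.m.π_mul h' (inv_mem huK), n.m.π_inv huK, A.root u huK h' s hs, hs, mul_inv_eq_one]
  congr 1
  by_contra hne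
  -- the action on the quotient is not trivial
  have hc : ∃ y, A.c y ≠ y := by
    by_contra hh
    push Not at hh
    have hτ : ∀ r, A.τ r = A.τ 1 * r := fun r => by
      have h1 := A.rel r 1
      have h2 := A.rel 1 r
      rw [mul_one, hh, mul_one] at h1
      rw [one_mul, hh] at h2
      rw [← h1, h2]
    have h2 : A.τ 1 * (A.τ 1 * s) = s := by
      have h'' : x * (x * u * x⁻¹) * x⁻¹ ∈ Kr H := (conj_mem_iff hxM).2 h'
      have h3 := A.root _ h' h'' _ (A.root u huK h' s hs)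
      have e : x * (x * u * x⁻¹) * x⁻¹ = u := by
        rw [show x * (x * u * x⁻¹) * x⁻¹ = x * x * u * (x * x)⁻¹ by group, n.v.W'_sq hx, one_mul, inv_one, mul_one]
      rw [show (⟨x * (x * u * x⁻¹) * x⁻¹, h''⟩ : ↥(Kr H)) = ⟨u, huK⟩ from Subtype.ext e, hs, hτ (A.τ s), hτ s] at h3
      exact (LTP.up_inj h3).symm
    by_cases hs0 : s = 0
    · exact hne (by rw [hs0, hτ, mul_zero])
    · have h4 : A.τ 1 * A.τ 1 = 1 := by
        have : (A.τ 1 * A.τ 1 - 1) * s = 0 := by linear_combination h2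
        exact sub_eq_zero.1 ((mul_eq_zero.1 this).resolve_right hs0)
      have h5 : A.τ 1 = 1 := by
        rcases mul_self_eq_one_iff.1 h4 with h | h
        · exact h
        · rw [h, CharTwo.neg_eq]
      exact hne (by rw [hτ, h5, one_mul])
  obtain ⟨y₀, hy₀⟩ := hc
  obtain ⟨w, hw, -, hwy⟩ := n.m.onto 0 y₀
  have hy' : x * u * x⁻¹ * u⁻¹ ∈ cjg g (Wr H) := by
    rw [show x * u * x⁻¹ * u⁻¹ = x * (u * x⁻¹ * u⁻¹) by group]
    exact mul_mem hx ((conj_mem_iff (n.v.W'_norm huT)).2 (inv_mem hx))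
  have hπy : n.m.π ⟨x * u * x⁻¹ * u⁻¹, mul_mem h' (inv_mem huK)⟩ = up (A.τ s + s) := by
    rw [n.m.π_mul h' (inv_mem huK), n.m.π_inv huK, A.root u huK h' s hs, hs, LTP.up_add]
    congr 1
    rw [inv_eq_iff_mul_eq_one, ← LTP.up_add, CharTwo.add_self_eq_zero, LTP.up_zero]
  obtain ⟨hcW, hcW'⟩ := mem_inf.1 (n.v.comm_mem hw hx)
  have hx' := (conj_mem_iff (Mr_norm_Wr H hxM)).2 hw
  have hc1 : n.m.c₁ (x * w * x⁻¹ * w⁻¹) = A.c y₀ + y₀ := by
    rw [n.m.add₁ _ hx' _ (inv_mem hw), (n.m.c_inv hw).2, A.e₁ w hw, hwy]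
  have h0 := (n.m.comm_up (mul_mem h' (inv_mem huK)) hπy hcW).1
  rw [show x * u * x⁻¹ * u⁻¹ * (x * w * x⁻¹ * w⁻¹) * (x * u * x⁻¹ * u⁻¹)⁻¹ * (x * w * x⁻¹ * w⁻¹)⁻¹ = 1 by
    rw [n.v.W'_comm hy' hcW', mul_inv_cancel_right, mul_inv_cancel], n.m.c_one.1, hc1] at h0
  rcases mul_eq_zero.1 h0.symm with h | h
  · exact hne (CharTwo.add_eq_zero.1 h)
  · exact hy₀ (CharTwo.add_eq_zero.1 h)

omit [Finite F] [Finite G] in
/-- the line of the module fixed by the root group -/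
def Lw : Subgroup G where
  carrier := {w | w ∈ Wr H ∧ n.m.c₁ w = 0}
  one_mem' := ⟨one_mem _, n.m.c_one.2⟩
  mul_mem' := fun {a b} ha hb => ⟨mul_mem ha.1 hb.1, by rw [n.m.add₁ a ha.1 b hb.1, ha.2, hb.2, add_zero]⟩
  inv_mem' := fun {a} ha => ⟨inv_mem ha.1, by rw [(n.m.c_inv ha.1).2]; exact ha.2⟩

omit [Finite F] in
theorem Tk_dec {x : G} (hx : x ∈ Tk H T) : ∃ u ∈ T ⊓ Kr H, ∃ q ∈ Qr H, x = u * q := by
  have hn : T ⊓ Kr H ≤ normalizer (Qr H : Set G) := fun u hu => H_norm_Qr H (n.v.su.T_le (mem_inf.1 hu).1)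
  rw [← SetLike.mem_coe, coe_mul_of_left_le_normalizer_right (T ⊓ Kr H) (Qr H) hn] at hx
  obtain ⟨u, hu, q, hq, rfl⟩ := hx
  exact ⟨u, hu, q, hq, rfl⟩

omit [Finite F] in
theorem Tk_le_T : Tk H T ≤ T := sup_le inf_le_left n.v.su.Q_le_T

omit [Finite F] in
theorem exists_par {x : G} (hx : x ∈ Tk H T) : ∃ r : F, ∀ w ∈ Wr H,
    n.m.c₀ (x * w * x⁻¹) = n.m.c₀ w + r * n.m.c₁ w ∧ n.m.c₁ (x * w * x⁻¹) = n.m.c₁ w := by
  obtain ⟨u, hu, q, hq, rfl⟩ := n.Tk_dec hx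
  obtain ⟨huT, huK⟩ := mem_inf.1 hu
  obtain ⟨s, hs⟩ := LTP.mem_upGroup.1 ((n.m.frame u huK).1 huT)
  refine ⟨s, fun w hw => ?_⟩
  rw [show u * q * w * (u * q)⁻¹ = u * (q * w * q⁻¹) * u⁻¹ by group, n.v.Q_comm q hq w hw, mul_inv_cancel_right]
  exact n.m.act_up huK hs hw

omit [Finite G] [Finite F] in
theorem par_unique {x : G} {r r' : F}
    (h : ∀ w ∈ Wr H, n.m.c₀ (x * w * x⁻¹) = n.m.c₀ w + r * n.m.c₁ w)
    (h' : ∀ w ∈ Wr H, n.m.c₀ (x * w * x⁻¹) = n.m.c₀ w + r' * n.m.c₁ w) : r = r' := by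
  obtain ⟨w, hw, -, hw1⟩ := n.m.onto 0 1
  have := (h w hw).symm.trans (h' w hw)
  rw [hw1, mul_one, mul_one] at this
  exact add_left_cancel this

omit [Finite F] in
theorem par_zero {x : G} (hx : x ∈ Tk H T)
    (h : ∀ w ∈ Wr H, n.m.c₀ (x * w * x⁻¹) = n.m.c₀ w + 0 * n.m.c₁ w) : x ∈ Qr H := by
  obtain ⟨u, hu, q, hq, rfl⟩ := n.Tk_dec hx
  obtain ⟨huT, huK⟩ := mem_inf.1 hu
  obtain ⟨s, hs⟩ := LTP.mem_upGroup.1 ((n.m.frame u huK).1 huT)
  have h0 : s = 0 := n.par_unique (x := u * q) (fun w hw => by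
    rw [show u * q * w * (u * q)⁻¹ = u * (q * w * q⁻¹) * u⁻¹ by group, n.v.Q_comm q hq w hw, mul_inv_cancel_right]
    exact (n.m.act_up huK hs hw).1) h
  rw [h0, LTP.up_zero, n.m.ker u huK] at hs
  exact mul_mem (Wr_le_Qr H hs) hq

omit [Finite F] in
/-- a point of the module commuting with an element outside the core lies on the line -/
theorem low_of_comm {x w : G} (hx : x ∈ Tk H T) (hxQ : x ∉ Qr H) (hw : w ∈ Wr H) (hc : x * w = w * x) :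
    w ∈ n.Lw := by
  obtain ⟨r, hr⟩ := n.exists_par hx
  refine ⟨hw, ?_⟩
  have h := (hr w hw).1
  rw [hc, mul_inv_cancel_right, left_eq_add] at h
  refine (mul_eq_zero.1 h).resolve_left fun h0 => hxQ (n.par_zero hx fun w' hw' => ?_)
  rw [(hr w' hw').1, h0]

omit [Finite F] in
theorem inf_Q'_le : Wr H ⊓ cjg g (Qr H) ≤ n.Lw := by
  intro w hw
  obtain ⟨hwW, hwQ⟩ := mem_inf.1 hw
  obtain ⟨x, hx, hxQ⟩ := SetLike.not_le_iff_exists.1 n.v.move
  exact n.low_of_comm (n.W'_le hx) hxQ hwW ((n.v.mem_Q' (n.v.su.Wr_le_T' hwW)).1 hwQ x hx).symm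

theorem card_Wr_Lw : Nat.card ↥(Wr H) = Nat.card ↥n.Lw * Nat.card F := by
  let φ : ↥(Wr H) →* Multiplicative F :=
    { toFun := fun w => Multiplicative.ofAdd (n.m.c₁ w)
      map_one' := by rw [OneMemClass.coe_one, n.m.c_one.2]; rfl
      map_mul' := fun a b => by rw [Subgroup.coe_mul, n.m.add₁ _ a.2 _ b.2]; rfl }
  have hs : Function.Surjective φ := fun y => by
    obtain ⟨w, hw, -, h⟩ := n.m.onto 0 (Multiplicative.toAdd y)
    exact ⟨⟨w, hw⟩, by show Multiplicative.ofAdd (n.m.c₁ w) = y; rw [h]; rfl⟩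
  have h1 : φ.ker.map (Wr H).subtype = n.Lw := by
    ext x
    constructor
    · rintro ⟨w, hw, rfl⟩
      exact ⟨w.2, Multiplicative.ofAdd.injective hw⟩
    · rintro ⟨hx, h⟩
      exact ⟨⟨x, hx⟩, congrArg Multiplicative.ofAdd h, rfl⟩
  rw [← φ.ker.card_mul_index, index_ker, MonoidHom.range_eq_top.2 hs, card_top, ← h1,
    card_map_of_injective (Wr H).subtype_injective]
  rfl

/-- the parameter, as a homomorphism on the conjugate module -/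
theorem exists_parHom : ∃ φ : ↥(cjg g (Wr H)) →* Multiplicative F,
    φ.ker.map (cjg g (Wr H)).subtype ≤ cjg g (Wr H) ⊓ Qr H ∧
    ∀ x : ↥(cjg g (Wr H)), ∀ w ∈ Wr H,
      n.m.c₀ ((x : G) * w * (x : G)⁻¹) = n.m.c₀ w + Multiplicative.toAdd (φ x) * n.m.c₁ w := by
  choose r hr using fun x : ↥(cjg g (Wr H)) => n.exists_par (n.W'_le x.2)
  refine ⟨{ toFun := fun x => Multiplicative.ofAdd (r x), map_one' := ?_, map_mul' := fun a b => ?_ }, ?_,
    fun x w hw => (hr x w hw).1⟩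
  · rw [show r 1 = 0 from n.par_unique (fun w hw => (hr 1 w hw).1) fun w hw => by simp]
    rfl
  · rw [← ofAdd_add]
    congr 1
    refine n.par_unique (fun w hw => (hr (a * b) w hw).1) fun w hw => ?_
    have hb := (conj_mem_iff (Mr_norm_Wr H (n.v.su.T_le_M (n.v.W'_le_T b.2)))).2 hw
    rw [Subgroup.coe_mul, show (a : G) * b * w * ((a : G) * b)⁻¹ = a * (b * w * (b : G)⁻¹) * (a : G)⁻¹ by group,
      (hr a _ hb).1, (hr b w hw).1, (hr b w hw).2]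
    ring
  · rintro _ ⟨x, hx, rfl⟩
    refine mem_inf.2 ⟨x.2, n.par_zero (n.W'_le x.2) fun w hw => ?_⟩
    show n.m.c₀ ((x : G) * w * (x : G)⁻¹) = _
    rw [(hr x w hw).1, show r x = 0 from Multiplicative.ofAdd.injective hx]

theorem bound : Nat.card ↥n.Lw ≤ Nat.card ↥(cjg g (Wr H) ⊓ Qr H : Subgroup G) := by
  obtain ⟨φ, hker, -⟩ := n.exists_parHom
  have h1 := φ.ker.card_mul_index
  rw [index_ker, Cfsg.Lib.LTP.card_cjg, n.card_Wr_Lw] at h1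
  have h2 : Nat.card φ.ker ≤ Nat.card ↥(cjg g (Wr H) ⊓ Qr H : Subgroup G) := by
    rw [← card_map_of_injective (f := (cjg g (Wr H)).subtype) Subtype.val_injective]
    exact Nat.card_le_card_of_injective _ (Subgroup.inclusion_injective hker)
  have h3 : Nat.card φ.range ≤ Nat.card F := (card_le_card_group _).trans_eq rfl
  have h4 : 0 < Nat.card F := Nat.card_pos
  nlinarith

/-- the conjugate core meets the module in the line -/
theorem low_eq : Wr H ⊓ cjg g (Qr H) = n.Lw := by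
  refine eq_of_le_of_card_ge n.inf_Q'_le ?_
  have h := n.inv.bound
  rw [n.v.inv.card_W'_inf_Q, inv_inv] at h
  exact h

theorem card_W'Q : Nat.card ↥(cjg g (Wr H) ⊓ Qr H : Subgroup G) = Nat.card ↥n.Lw := by
  rw [n.v.card_W'_inf_Q, n.inv.low_eq]
  rfl

theorem Lw_le_Q' : n.Lw ≤ cjg g (Qr H) := n.low_eq.ge.trans inf_le_right

/-- every parameter occurs on the conjugate module -/
theorem exists_W'_par (r : F) : ∃ x ∈ cjg g (Wr H), ∀ w ∈ Wr H,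
    n.m.c₀ (x * w * x⁻¹) = n.m.c₀ w + r * n.m.c₁ w := by
  obtain ⟨φ, hker, hφ⟩ := n.exists_parHom
  have h2 : Nat.card φ.ker ≤ Nat.card ↥n.Lw := by
    rw [← n.card_W'Q, ← card_map_of_injective (f := (cjg g (Wr H)).subtype) Subtype.val_injective]
    exact Nat.card_le_card_of_injective _ (Subgroup.inclusion_injective hker)
  have h1 := φ.ker.card_mul_index
  rw [index_ker, Cfsg.Lib.LTP.card_cjg, n.card_Wr_Lw] at h1
  have h4 : 0 < Nat.card φ.ker := Nat.card_pos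
  have h3 : φ.range = ⊤ := by
    refine eq_top_of_le_card _ ?_
    show Nat.card F ≤ _
    nlinarith
  obtain ⟨x, hx⟩ := MonoidHom.range_eq_top.1 h3 (Multiplicative.ofAdd r)
  exact ⟨x, x.2, fun w hw => by rw [hφ x w hw, hx]; rfl⟩

/-- **the join is generated by the conjugate module and the core** -/
theorem Tk_eq : cjg g (Wr H) ⊔ Qr H = Tk H T := by
  refine le_antisymm (sup_le n.W'_le le_sup_right) fun x hx => ?_
  obtain ⟨r, hr⟩ := n.exists_par hx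
  obtain ⟨y, hy, hyr⟩ := n.exists_W'_par r
  have hyTk := n.W'_le hy
  have hyM := n.v.su.T_le_M (n.v.W'_le_T hy)
  have h : y * x ∈ Qr H := n.par_zero (mul_mem hyTk hx) fun w hw => by
    have hx' := (conj_mem_iff (Mr_norm_Wr H (n.v.su.T_le_M (n.Tk_le_T hx)))).2 hw
    rw [show y * x * w * (y * x)⁻¹ = y * (x * w * x⁻¹) * y⁻¹ by group, hyr _ hx', (hr w hw).1, (hr w hw).2]
    linear_combination r * n.m.c₁ w * CharTwo.two_eq_zero (R := F)
  have h2 := mul_mem (mem_sup_left (inv_mem hy)) (mem_sup_right h : y * x ∈ cjg g (Wr H) ⊔ Qr H)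
  rwa [inv_mul_cancel_left] at h2

theorem Q'_le : cjg g (Qr H) ≤ Tk H T := by
  intro x hx
  have hxT := n.v.Q'_le_T hx
  refine n.m.mem_Tk n.v.su hxT fun u hu => ?_
  have hu2 : u ∈ cjg g (Wr H) ⊔ Qr H := n.Tk_eq.ge (mem_sup_left hu)
  rw [← SetLike.mem_coe, coe_mul_of_left_le_normalizer_right _ _
    (n.v.W'_le_T.trans (n.v.su.T_le.trans (H_norm_Qr H)))] at hu2
  obtain ⟨w', hw', q, hq, rfl⟩ := hu2
  have hxQ := H_norm_Qr H (n.v.su.T_le hxT)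
  have hw'Q := H_norm_Qr H (n.v.su.T_le (n.v.W'_le_T hw'))
  have e : x * (w' * q) * x⁻¹ * (w' * q)⁻¹ = w' * (x * q * x⁻¹ * q⁻¹) * w'⁻¹ := by
    rw [show x * (w' * q) * x⁻¹ * (w' * q)⁻¹ = x * w' * q * x⁻¹ * q⁻¹ * w'⁻¹ by group,
      (n.v.mem_Q' hxT).1 hx w' hw']
    group
  rw [← Kr_inf_Qr]
  refine mem_inf.2 ⟨mul_mem ((conj_mem_iff (n.v.su.T_le_M hxT)).2 (mem_inf.1 hu).2) (inv_mem (mem_inf.1 hu).2), ?_⟩
  change x * (w' * q) * x⁻¹ * (w' * q)⁻¹ ∈ Qr H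
  rw [e]
  exact (conj_mem_iff hw'Q).2 (mul_mem ((conj_mem_iff hxQ).2 hq) (inv_mem hq))

/-- the join of the two cores -/
theorem Tk_cores : Qr H ⊔ cjg g (Qr H) = Tk H T :=
  le_antisymm (sup_le le_sup_right n.Q'_le) (n.Tk_eq.ge.trans
    (sup_le ((cjg_mono g (Wr_le_Qr H)).trans le_sup_right) le_sup_left))

theorem norm_Tk : g ∈ normalizer ((Tk H T : Subgroup G) : Set G) := by
  refine Cfsg.Lib.LTP.cjg_eq_iff.1 ?_
  conv_rhs => rw [← n.Tk_cores]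
  rw [← n.inv.Tk_cores]
  show (Qr H ⊔ cjg g⁻¹ (Qr H)).map (MulAut.conj g).toMonoidHom = _
  rw [Subgroup.map_sup, sup_comm]
  congr 1
  exact (Cfsg.Lib.LTP.cjg_mul g g⁻¹ (Qr H)).symm.trans (by rw [mul_inv_cancel, Cfsg.Lib.LTP.cjg_one])

/-- the part centralising the residual lies in the other core -/
theorem Dr_le_Q' : Dr H ≤ cjg g (Qr H) := by
  intro d hd
  have hdQ := (mem_Dr.1 hd).1
  have hd2 : d ∈ Tk H T := mem_sup_right hdQ
  have hWn : Wr H ≤ normalizer (cjg g (Qr H) : Set G) :=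
    n.v.su.Wr_le_T'.trans (n.v.norm_T_cjg (n.v.su.T_le.trans (H_norm_Qr H)))
  have hJ : Wr H ⊔ cjg g (Qr H) = Tk H T := by
    have h := congrArg (cjg g) n.inv.Tk_eq
    rw [Cfsg.Lib.LTP.cjg_eq_iff.2 n.norm_Tk] at h
    refine Eq.trans ?_ h
    show _ = (cjg g⁻¹ (Wr H) ⊔ Qr H).map (MulAut.conj g).toMonoidHom
    rw [Subgroup.map_sup]
    congr 1
    exact (by rw [← Cfsg.Lib.LTP.cjg_mul, mul_inv_cancel, Cfsg.Lib.LTP.cjg_one] : Wr H = cjg g (cjg g⁻¹ (Wr H)))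
  rw [← hJ, ← SetLike.mem_coe, coe_mul_of_left_le_normalizer_right _ _ hWn] at hd2
  obtain ⟨w, hw, q', hq', rfl⟩ := hd2
  refine mul_mem (n.Lw_le_Q' ?_) hq'
  obtain ⟨x, hx, hxQ⟩ := SetLike.not_le_iff_exists.1 n.v.move
  have hxT := n.v.W'_le_T hx
  obtain ⟨r, hr⟩ := n.exists_par (n.W'_le hx)
  refine ⟨hw, ?_⟩
  have hz : x * w * x⁻¹ * w⁻¹ ∈ Zr H := by
    refine mem_inf.2 ⟨(mem_inf.1 (n.v.comm_mem hw hx)).1, ?_⟩
    have e : x * (w * q') * x⁻¹ * (w * q')⁻¹ = x * w * x⁻¹ * w⁻¹ := by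
      rw [show x * (w * q') * x⁻¹ * (w * q')⁻¹ = x * w * (q' * x⁻¹) * q'⁻¹ * w⁻¹ by group,
        (n.v.mem_Q' (n.v.Q'_le_T hq')).1 hq' x⁻¹ (inv_mem hx)]
      group
    have h2 := mul_mem ((conj_mem_iff (n.v.Dr_norm (n.v.su.T_le hxT))).2 hd) (inv_mem hd)
    change x * (w * q') * x⁻¹ * (w * q')⁻¹ ∈ Dr H at h2
    rw [e] at h2
    exact (mem_inf.1 h2).2
  have hw' := (conj_mem_iff (Mr_norm_Wr H (n.v.su.T_le_M hxT))).2 hw
  have h0 := (n.m.z₀ hz).1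
  rw [n.m.add₀ _ hw' _ (inv_mem hw), (n.m.c_inv hw).1, (hr w hw).1, add_comm, ← add_assoc, CharTwo.add_self_eq_zero,
    zero_add] at h0
  refine (mul_eq_zero.1 h0).resolve_left fun e => hxQ (n.par_zero (n.W'_le hx) fun w' hw'' => ?_)
  rw [(hr w' hw'').1, e]

theorem D'_le_Q : cjg g (Dr H) ≤ Qr H := by
  have h := cjg_mono g n.inv.Dr_le_Q'
  rwa [← Cfsg.Lib.LTP.cjg_mul, mul_inv_cancel, Cfsg.Lib.LTP.cjg_one] at h

theorem Q'_norm_W : cjg g (Qr H) ≤ normalizer (Wr H : Set G) :=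
  n.v.Q'_le_T.trans (n.v.su.T_le_M.trans (Mr_norm_Wr H))

/-- the core is the module times the meet -/
theorem Q_dec {q : G} (hq : q ∈ Qr H) : ∃ w ∈ Wr H, ∃ r ∈ Qr H ⊓ cjg g (Qr H), q = w * r := by
  have h := congrArg (cjg g) n.inv.Tk_eq
  rw [Cfsg.Lib.LTP.cjg_eq_iff.2 n.norm_Tk] at h
  have hq2 : q ∈ Wr H ⊔ cjg g (Qr H) := by
    have h2 : q ∈ cjg g (cjg g⁻¹ (Wr H) ⊔ Qr H) := h.ge (mem_sup_right hq)
    rw [show cjg g (cjg g⁻¹ (Wr H) ⊔ Qr H) = cjg g (cjg g⁻¹ (Wr H)) ⊔ cjg g (Qr H) from Subgroup.map_sup _ _ _,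
      ← Cfsg.Lib.LTP.cjg_mul, mul_inv_cancel, Cfsg.Lib.LTP.cjg_one] at h2
    exact h2
  rw [← SetLike.mem_coe, coe_mul_of_left_le_normalizer_right _ _
    (n.v.su.Wr_le_T'.trans (n.v.norm_T_cjg (n.v.su.T_le.trans (H_norm_Qr H))))] at hq2
  obtain ⟨w, hw, r, hr, rfl⟩ := hq2
  exact ⟨w, hw, r, mem_inf.2 ⟨(Subgroup.mul_mem_cancel_left _ (Wr_le_Qr H hw)).1 hq, hr⟩, rfl⟩

/-- **the cores are elementary** -/
theorem sq_Q {q : G} (hq : q ∈ Qr H) : q * q = 1 := by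
  obtain ⟨w, hw, r, hr, rfl⟩ := n.Q_dec hq
  obtain ⟨hrQ, hrQ'⟩ := mem_inf.1 hr
  have h1 : r * r ∈ Dr H ⊓ cjg g (Dr H) := by
    refine mem_inf.2 ⟨n.v.sq_mem_Dr hrQ, ?_⟩
    obtain ⟨p, hp, rfl⟩ := hrQ'
    show g * p * g⁻¹ * (g * p * g⁻¹) ∈ _
    rw [show g * p * g⁻¹ * (g * p * g⁻¹) = g * (p * p) * g⁻¹ by group]
    exact Cfsg.Lib.LTP.cjg_mem (n.v.sq_mem_Dr hp)
  rw [n.v.Dr_disjoint, mem_bot] at h1
  rw [show w * r * (w * r) = w * (r * w) * r by group, n.v.Q_comm r hrQ w hw,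
    show w * (w * r) * r = w * w * (r * r) by group, n.v.gm.sq w hw, h1, one_mul]

theorem sq_Q' {q : G} (hq : q ∈ cjg g (Qr H)) : q * q = 1 := by
  obtain ⟨p, hp, rfl⟩ := hq
  show g * p * g⁻¹ * (g * p * g⁻¹) = 1
  rw [show g * p * g⁻¹ * (g * p * g⁻¹) = g * (p * p) * g⁻¹ by group, n.sq_Q hp, mul_one, mul_inv_cancel]

/-- the involutions of the join lie in one of the cores -/
theorem invol_cases {a : G} (ha : a ∈ Tk H T) (h2 : a * a = 1) : a ∈ Qr H ∨ a ∈ cjg g (Qr H) := by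
  rw [← n.Tk_eq, ← SetLike.mem_coe, coe_mul_of_left_le_normalizer_right _ _
    (n.v.W'_le_T.trans (n.v.su.T_le.trans (H_norm_Qr H)))] at ha
  obtain ⟨x, hx, q, hq, rfl⟩ := ha
  by_cases hxQ : x ∈ Qr H
  · exact Or.inl (mul_mem hxQ hq)
  right
  have hxQ' : x ∈ cjg g (Qr H) := cjg_mono g (Wr_le_Qr H) hx
  refine mul_mem hxQ' ?_
  obtain ⟨w, hw, r, hr, rfl⟩ := n.Q_dec hq
  obtain ⟨hrQ, hrQ'⟩ := mem_inf.1 hr
  refine mul_mem (n.Lw_le_Q' (n.low_of_comm (n.W'_le hx) hxQ hw ?_)) hrQ'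
  have hxr : r * x = x * r := (n.v.mem_Q' (n.v.su.Q_le_T hrQ)).1 hrQ' x hx
  have hxc : x * (w * r) = w * r * x := by
    have h3 : x * (w * r) = (x * (w * r))⁻¹ := (inv_eq_of_mul_eq_one_right h2).symm
    rw [h3, mul_inv_rev, inv_eq_of_mul_eq_one_right (n.v.W'_sq hx), inv_eq_of_mul_eq_one_right (n.sq_Q hq)]
  calc x * w = x * (w * r) * r⁻¹ := by group
    _ = w * (r * x) * r⁻¹ := by rw [hxc]; group
    _ = w * x := by rw [hxr]; group

theorem cores_ne : Qr H ≠ cjg g (Qr H) := fun e => n.v.W_not_le ((Wr_le_Qr H).trans e.le)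

theorem elem_cases (E : Subgroup G) (hE : E ≤ Tk H T) (hsq : ∀ e ∈ E, e * e = 1) :
    E ≤ Qr H ∨ E ≤ cjg g (Qr H) := by
  by_contra h
  push Not at h
  obtain ⟨a, ha, ha1⟩ := SetLike.not_le_iff_exists.1 h.1
  obtain ⟨b, hb, hb2⟩ := SetLike.not_le_iff_exists.1 h.2
  have ha2 := (n.invol_cases (hE ha) (hsq a ha)).resolve_left ha1
  have hb1 := (n.invol_cases (hE hb) (hsq b hb)).resolve_right hb2
  rcases n.invol_cases (hE (mul_mem ha hb)) (hsq _ (mul_mem ha hb)) with h1 | h1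
  · exact ha1 ((Subgroup.mul_mem_cancel_right _ hb1).1 h1)
  · exact hb2 ((Subgroup.mul_mem_cancel_left _ ha2).1 h1)

/-- **the element exchanges the cores** -/
theorem swap_Q : cjg g (cjg g (Qr H)) = Qr H := by
  set P := cjg g (cjg g (Qr H))
  have hP : P ≤ Tk H T := (cjg_mono g n.Q'_le).trans (Cfsg.Lib.LTP.cjg_eq_iff.2 n.norm_Tk).le
  have hsq : ∀ e ∈ P, e * e = 1 := by
    rintro _ ⟨p, hp, rfl⟩
    show g * p * g⁻¹ * (g * p * g⁻¹) = 1
    rw [show g * p * g⁻¹ * (g * p * g⁻¹) = g * (p * p) * g⁻¹ by group, n.sq_Q' hp, mul_one, mul_inv_cancel]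
  have hc : Nat.card ↥P = Nat.card ↥(Qr H) := by rw [Cfsg.Lib.LTP.card_cjg, Cfsg.Lib.LTP.card_cjg]
  rcases n.elem_cases P hP hsq with h | h
  · exact eq_of_le_of_card_ge h hc.ge
  · exact absurd (map_injective (MulAut.conj g).injective
      (eq_of_le_of_card_ge h ((Cfsg.Lib.LTP.card_cjg g (Qr H)).trans hc.symm).le)) n.cores_ne.symm

theorem sq_mem_M : g * g ∈ Mr H :=
  n.v.norm_Q_le (Cfsg.Lib.LTP.cjg_eq_iff.1 (by rw [Cfsg.Lib.LTP.cjg_mul]; exact n.swap_Q))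

theorem big : 4 * Nat.card ↥(Qr H ⊓ cjg g (Qr H) : Subgroup G) ≤ Nat.card ↥(Qr H) := by
  refine (Nat.mul_le_mul_right _ n.four).trans ?_
  rw [← Nat.card_prod]
  choose e he he0 he1 using fun y : F => n.m.onto 0 y
  refine Nat.card_le_card_of_injective (fun p => (⟨e p.1 * p.2, mul_mem (Wr_le_Qr H (he p.1))
    (mem_inf.1 p.2.2).1⟩ : ↥(Qr H))) ?_
  rintro ⟨y, r⟩ ⟨y', r'⟩ h
  have h' : e y * (r : G) = e y' * r' := congrArg Subtype.val h
  have hw : (e y')⁻¹ * e y = (r' : G) * (r : G)⁻¹ := by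
    rw [eq_mul_inv_iff_mul_eq, mul_assoc, h', inv_mul_cancel_left]
  have hL : (e y')⁻¹ * e y ∈ n.Lw := n.low_eq.le (mem_inf.2 ⟨mul_mem (inv_mem (he y')) (he y),
    hw ▸ mul_mem (mem_inf.1 r'.2).2 (inv_mem (mem_inf.1 r.2).2)⟩)
  have hy : y' + y = 0 := by
    have := hL.2
    rwa [n.m.add₁ _ (inv_mem (he y')) _ (he y), (n.m.c_inv (he y')).2, he1, he1] at this
  have hyy : y = y' := (CharTwo.add_eq_zero.1 hy).symm
  subst hyy
  exact Prod.ext rfl (Subtype.ext (mul_left_cancel h'))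

end NatCtx

end Cfsg.Lib.PushPair
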