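import Cfsg.Agent.PushPair.NatPair

/-!
# The natural module: the torus and the meet of the cores
-/

set_option autoImplicit false
set_option linter.style.haveILetI false

namespace Cfsg.Lib.PushPair

open Subgroup
open Cfsg.Lib.LTP (cjg SL2 upGroup up lo dg wl)

variable {G : Type*} [Group G] [Finite G] {F : Type*} [Field F] [Finite F] [CharP F 2]
  {H T : Subgroup G} {g : G}

namespace NatCtx

variable (n : NatCtx F H T g)
include n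

/-- elements of the meet are central in the join -/
theorem meet_comm {r x : G} (hr : r ∈ Qr H ⊓ cjg g (Qr H)) (hx : x ∈ Tk H T) : x * r = r * x := by
  have h : Tk H T ≤ centralizer ({r} : Set G) := by
    rw [← n.Tk_cores]
    refine sup_le (fun q hq => ?_) (fun q hq => ?_) <;> rw [mem_centralizer_iff]
    · rintro _ rfl; exact comm_of_sq (fun _ h => n.sq_Q h) (mem_inf.1 hr).1 hq
    · rintro _ rfl; exact comm_of_sq (fun _ h => n.sq_Q' h) (mem_inf.1 hr).2 hq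
  exact (mem_centralizer_iff.1 (h hx) r rfl).symm

omit [Finite F] in
/-- an element normalising both cores lies in `M` and in the moved `M` -/
theorem stab_M {x : G} (hx : x ∈ normalizer (Qr H : Set G)) (hx' : x ∈ normalizer (cjg g (Qr H) : Set G)) :
    x ∈ Mr H ∧ g⁻¹ * x * g ∈ Mr H ∧ g⁻¹ * x * g ∈ normalizer (Qr H : Set G) := by
  have h : g⁻¹ * x * g ∈ normalizer (Qr H : Set G) := mem_norm_of_conj fun a ha => by
    have h1 := (conj_mem_iff hx').2 (Cfsg.Lib.LTP.cjg_mem (g := g) ha)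
    rw [mem_cjg_iff] at h1
    simpa [mul_assoc] using h1
  exact ⟨n.v.norm_Q_le hx, n.v.norm_Q_le h, h⟩

theorem conj_D' {x d : G} (hx : x ∈ normalizer (Qr H : Set G)) (hx' : x ∈ normalizer (cjg g (Qr H) : Set G))
    (hd : d ∈ cjg g (Dr H)) : x * d * x⁻¹ ∈ cjg g (Dr H) := by
  obtain ⟨-, h1, h2⟩ := n.stab_M hx hx'
  obtain ⟨e, he, rfl⟩ := hd
  refine ⟨_, conj_mem_Dr h1 h2 he, ?_⟩
  show g * (g⁻¹ * x * g * e * (g⁻¹ * x * g)⁻¹) * g⁻¹ = x * (g * e * g⁻¹) * x⁻¹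
  group

theorem norm_Q'_of {x : G} (hx : x ∈ normalizer (Qr H : Set G))
    (hT : ∀ a ∈ Tk H T, x * a * x⁻¹ ∈ Tk H T) : x ∈ normalizer (cjg g (Qr H) : Set G) := by
  refine Cfsg.Lib.LTP.cjg_eq_iff.1 ?_
  have hle : cjg x (cjg g (Qr H)) ≤ Tk H T := by
    rintro _ ⟨a, ha, rfl⟩; exact hT a (n.Q'_le ha)
  have hsq : ∀ e ∈ cjg x (cjg g (Qr H)), e * e = 1 := by
    rintro _ ⟨p, hp, rfl⟩
    show x * p * x⁻¹ * (x * p * x⁻¹) = 1
    rw [show x * p * x⁻¹ * (x * p * x⁻¹) = x * (p * p) * x⁻¹ by group, n.sq_Q' hp, mul_one, mul_inv_cancel]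
  have hc : Nat.card ↥(cjg x (cjg g (Qr H))) = Nat.card ↥(Qr H) := by
    rw [Cfsg.Lib.LTP.card_cjg, Cfsg.Lib.LTP.card_cjg]
  rcases n.elem_cases _ hle hsq with h | h
  · exfalso
    refine n.cores_ne (map_injective (f := (MulAut.conj x).toMonoidHom) (MulAut.conj x).injective ?_)
    exact (Cfsg.Lib.LTP.cjg_eq_iff.2 hx).trans (eq_of_le_of_card_ge h hc.ge).symm
  · exact eq_of_le_of_card_ge h (le_of_eq (by rw [hc, Cfsg.Lib.LTP.card_cjg]))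

omit [Finite F] in
theorem conj_up {h a : G} (hh : h ∈ Kr H) {t : Fˣ} (hπ : n.m.π ⟨h, hh⟩ = dg t) (ha : a ∈ T ⊓ Kr H) :
    h * a * h⁻¹ ∈ T ⊓ Kr H := by
  obtain ⟨haT, haK⟩ := mem_inf.1 ha
  obtain ⟨s, hs⟩ := LTP.mem_upGroup.1 ((n.m.frame a haK).1 haT)
  have hk : h * a * h⁻¹ ∈ Kr H := mul_mem (mul_mem hh haK) (inv_mem hh)
  refine mem_inf.2 ⟨(n.m.frame _ hk).2 (LTP.mem_upGroup.2 ⟨(t : F) * t * s, ?_⟩), hk⟩
  rw [show (⟨h * a * h⁻¹, hk⟩ : ↥(Kr H)) = ⟨h, hh⟩ * ⟨a, haK⟩ * ⟨h, hh⟩⁻¹ from rfl, map_mul, map_mul, map_inv, hπ,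
    hs, LTP.dg_up, mul_inv_cancel_right]

/-- a torus element normalises both cores and the join -/
theorem tor_norm {h : G} (hh : h ∈ Kr H) {t : Fˣ} (hπ : n.m.π ⟨h, hh⟩ = dg t) :
    h ∈ normalizer (Qr H : Set G) ∧ h ∈ normalizer (cjg g (Qr H) : Set G) ∧
      ∀ a ∈ Tk H T, h * a * h⁻¹ ∈ Tk H T := by
  have hQ := H_norm_Qr H (Kr_le H hh)
  have hT : ∀ a ∈ Tk H T, h * a * h⁻¹ ∈ Tk H T := by
    intro a ha
    obtain ⟨u, hu, q, hq, rfl⟩ := n.Tk_dec ha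
    rw [show h * (u * q) * h⁻¹ = h * u * h⁻¹ * (h * q * h⁻¹) by group]
    exact mul_mem (mem_sup_left (n.conj_up hh hπ hu)) (mem_sup_right ((conj_mem_iff hQ).2 hq))
  exact ⟨hQ, n.norm_Q'_of hQ hT, hT⟩

/-- a generator of the multiplicative group -/
theorem exists_gen : ∃ t : Fˣ, (∀ x : Fˣ, x ∈ Subgroup.zpowers t) ∧ (t : F) + 1 ≠ 0 := by
  obtain ⟨t, ht⟩ := IsCyclic.exists_generator (α := Fˣ)
  refine ⟨t, ht, fun h => ?_⟩
  have h1 : t = 1 := Units.ext (CharTwo.add_eq_zero.1 h)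
  have hle : Nat.card Fˣ ≤ 1 := by
    have : Subsingleton Fˣ := ⟨fun a b => by
      have ha := ht a
      have hb := ht b
      rw [h1, Subgroup.zpowers_one_eq_bot, mem_bot] at ha hb
      rw [ha, hb]⟩
    exact (Finite.card_le_one_iff_subsingleton).2 this
  rw [Nat.card_units] at hle
  have := n.four
  omega

/-- **the meet of the cores is `D` times the line** -/
theorem meet_dec {x : G} (hx : x ∈ Qr H ⊓ cjg g (Qr H)) : ∃ l ∈ n.Lw, x * l ∈ Dr H := by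
  obtain ⟨hxQ, hxQ'⟩ := mem_inf.1 hx
  obtain ⟨t, -, ht⟩ := n.exists_gen
  obtain ⟨⟨h, hh⟩, hπ⟩ := n.m.surj (dg t)
  obtain ⟨hQ, hQ', -⟩ := n.tor_norm hh hπ
  have hphi : ∀ k ∈ Kr H, ∀ y ∈ Qr H, k * y * k⁻¹ * y⁻¹ ∈ Wr H := fun k hk y hy => by
    have h1 := inv_mem ((Qr_le_centPart H hy).2 k hk)
    rwa [show (y * k * y⁻¹ * k⁻¹)⁻¹ = k * y * k⁻¹ * y⁻¹ by group] at h1
  set v := h * x * h⁻¹ * x⁻¹ with hv
  have hvW : v ∈ Wr H := hphi h hh x hxQ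
  have hvL : v ∈ n.Lw := n.low_eq.le (mem_inf.2 ⟨hvW, mul_mem ((conj_mem_iff hQ').2 hxQ') (inv_mem hxQ')⟩)
  obtain ⟨l, hl, hl0, hl1⟩ := n.m.onto (n.m.c₀ v / ((t : F) + 1)) 0
  refine ⟨l, ⟨hl, hl1⟩, ?_⟩
  set x' := x * l
  have hx'Q : x' ∈ Qr H := mul_mem hxQ (Wr_le_Qr H hl)
  let S : Subgroup G :=
    { carrier := {k | k ∈ Kr H ∧ k * x' * k⁻¹ * x'⁻¹ ∈ Zr H}
      one_mem' := ⟨one_mem _, by simp⟩
      mul_mem' := fun {a b} ha hb => ⟨mul_mem ha.1 hb.1, by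
        have e : a * (b * x' * b⁻¹ * x'⁻¹) = b * x' * b⁻¹ * x'⁻¹ * a := (mem_Zr.1 hb.2).2 a ha.1
        rw [show a * b * x' * (a * b)⁻¹ * x'⁻¹ = a * (b * x' * b⁻¹ * x'⁻¹) * x' * a⁻¹ * x'⁻¹ by group, e,
          show b * x' * b⁻¹ * x'⁻¹ * a * x' * a⁻¹ * x'⁻¹ = b * x' * b⁻¹ * x'⁻¹ * (a * x' * a⁻¹ * x'⁻¹) by group]
        exact mul_mem hb.2 ha.2⟩
      inv_mem' := fun {a} ha => ⟨inv_mem ha.1, by
        have e := (mem_Zr.1 ha.2).2 a⁻¹ (inv_mem ha.1)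
        rw [show a⁻¹ * x' * a⁻¹⁻¹ * x'⁻¹ = ((a⁻¹ * (a * x' * a⁻¹ * x'⁻¹)) * a)⁻¹ by group, e, inv_mul_cancel_right]
        exact inv_mem ha.2⟩ }
  have hWS : ∀ w ∈ Wr H, w ∈ S := fun w hw => ⟨Wr_le_Kr H hw, by
    rw [← n.v.Q_comm x' hx'Q w hw, mul_inv_cancel_right, mul_inv_cancel]; exact one_mem _⟩
  have hTS : ∀ u ∈ T ⊓ Kr H, u ∈ S := fun u hu => ⟨(mem_inf.1 hu).2, by
    rw [n.meet_comm (mem_inf.2 ⟨hx'Q, mul_mem hxQ' (n.Lw_le_Q' ⟨hl, hl1⟩)⟩) (mem_sup_left hu),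
      mul_inv_cancel_right, mul_inv_cancel]
    exact one_mem _⟩
  have hhS : h ∈ S := by
    refine ⟨hh, ?_⟩
    have hhl := conj_mem_Wr hh hl
    have e : h * x' * h⁻¹ * x'⁻¹ = v * (h * l * h⁻¹ * l⁻¹) := by
      have hc : x * (h * l * h⁻¹ * l⁻¹) = h * l * h⁻¹ * l⁻¹ * x :=
        n.v.Q_comm x hxQ _ (mul_mem hhl (inv_mem hl))
      calc h * x' * h⁻¹ * x'⁻¹ = v * (x * (h * l * h⁻¹ * l⁻¹)) * x⁻¹ := by simp only [v, x']; group
        _ = v * (h * l * h⁻¹ * l⁻¹) := by rw [hc]; group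
    rw [e]
    refine (n.m.zero_iff _ (mul_mem hvW (mul_mem hhl (inv_mem hl)))).1 ?_
    rw [n.m.add₀ _ hvW _ (mul_mem hhl (inv_mem hl)), n.m.add₁ _ hvW _ (mul_mem hhl (inv_mem hl)),
      n.m.add₀ _ hhl _ (inv_mem hl), n.m.add₁ _ hhl _ (inv_mem hl), n.m.act₀ h hh l hl, n.m.act₁ h hh l hl,
      (n.m.c_inv hl).1, (n.m.c_inv hl).2, hπ, hl0, hl1, hvL.2]
    refine ⟨?_, by simp⟩
    simp only [LTP.dg_00, LTP.dg_01, zero_mul, add_zero]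
    field_simp
    linear_combination n.m.c₀ v * CharTwo.two_eq_zero (R := F)
  obtain ⟨⟨w₀, hw₀⟩, hπw⟩ := n.m.surj wl
  have hlift : ∀ k (hk : k ∈ Kr H) (k' : G) (hk' : k' ∈ Kr H), k' ∈ S →
      n.m.π ⟨k, hk⟩ = n.m.π ⟨k', hk'⟩ → k ∈ S := by
    intro k hk k' hk' hS he
    have h1 := hWS _ ((n.m.ker _ (mul_mem (inv_mem hk') hk)).1 (by
      rw [n.m.π_mul (inv_mem hk') hk, n.m.π_inv hk', he, inv_mul_cancel]))
    simpa using mul_mem hS h1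
  have hw₀S : w₀ ∈ S := by
    refine ⟨hw₀, ?_⟩
    set h' := w₀ * h * w₀⁻¹ with hh'
    have hh'K : h' ∈ Kr H := mul_mem (mul_mem hw₀ hh) (inv_mem hw₀)
    have hπ' : n.m.π ⟨h', hh'K⟩ = dg t⁻¹ := by
      rw [show (⟨h', hh'K⟩ : ↥(Kr H)) = ⟨w₀, hw₀⟩ * ⟨h, hh⟩ * ⟨w₀, hw₀⟩⁻¹ from rfl, map_mul, map_mul, map_inv,
        hπw, hπ]
      have e := LTP.dg_wl (F := F) t⁻¹
      rw [inv_inv] at e
      rw [← e, mul_inv_cancel_right]
    have hh'S : h' ∈ S := hlift h' hh'K h⁻¹ (inv_mem hh) (inv_mem hhS) (by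
      rw [hπ', n.m.π_inv hh, hπ, LTP.dg_inv])
    set v1 := w₀ * x' * w₀⁻¹ * x'⁻¹ with hv1
    have hv1W : v1 ∈ Wr H := hphi w₀ hw₀ x' hx'Q
    obtain ⟨-, hz1⟩ := hhS
    obtain ⟨-, hz2⟩ := hh'S
    set z := h * x' * h⁻¹ * x'⁻¹ with hz
    set z' := h' * x' * h'⁻¹ * x'⁻¹ with hz'
    have key : h' * v1 * h'⁻¹ * z' = z * v1 := by
      have e1 : w₀ * h * x' * (w₀ * h)⁻¹ * x'⁻¹ = h' * v1 * h'⁻¹ * z' := by simp only [h', v1, z']; group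
      have e2 : w₀ * h * x' * (w₀ * h)⁻¹ * x'⁻¹ = w₀ * z * w₀⁻¹ * v1 := by simp only [v1, z]; group
      rw [← e1, e2, (mem_Zr.1 hz1).2 w₀ hw₀, mul_inv_cancel_right]
    have hc' := conj_mem_Wr hh'K hv1W
    have e0 := congrArg n.m.c₀ key
    have e1 := congrArg n.m.c₁ key
    rw [n.m.add₀ _ hc' _ (mem_Zr.1 hz2).1, n.m.add₀ _ (mem_Zr.1 hz1).1 _ hv1W, (n.m.z₀ hz1).1, (n.m.z₀ hz2).1,
      add_zero, zero_add, n.m.act₀ h' hh'K v1 hv1W, hπ'] at e0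
    rw [n.m.add₁ _ hc' _ (mem_Zr.1 hz2).1, n.m.add₁ _ (mem_Zr.1 hz1).1 _ hv1W, (n.m.z₀ hz1).2, (n.m.z₀ hz2).2,
      add_zero, zero_add, n.m.act₁ h' hh'K v1 hv1W, hπ'] at e1
    simp only [LTP.dg_00, LTP.dg_01, LTP.dg_10, LTP.dg_11, zero_mul, add_zero, zero_add, inv_inv] at e0 e1
    refine (n.m.zero_iff _ hv1W).1 ⟨?_, ?_⟩
    · have h3 : ((t : F) + 1) * n.m.c₀ v1 = 0 := by
        have h4 : (t : F) * ((t⁻¹ : Fˣ) : F) = 1 := by simp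
        linear_combination (-(t : F)) * e0 + n.m.c₀ v1 * h4 + n.m.c₀ v1 * CharTwo.two_eq_zero (R := F)
      exact (mul_eq_zero.1 h3).resolve_left ht
    · have h3 : ((t : F) + 1) * n.m.c₁ v1 = 0 := by
        linear_combination e1 + n.m.c₁ v1 * CharTwo.two_eq_zero (R := F)
      exact (mul_eq_zero.1 h3).resolve_left ht
  have hall : Kr H ≤ S := by
    intro k hk
    have : n.m.π ⟨k, hk⟩ ∈ (S.subgroupOf (Kr H)).map n.m.π := by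
      refine Cfsg.Lib.LTP.gen _ (fun r => ?_) (fun r => ?_) _
      · obtain ⟨u, hu, huT, hπu⟩ := n.m.lift_up r
        exact ⟨⟨u, hu⟩, hTS u (mem_inf.2 ⟨huT, hu⟩), hπu⟩
      · obtain ⟨u, hu, huT, hπu⟩ := n.m.lift_up (-r)
        refine ⟨⟨w₀, hw₀⟩ * ⟨u, hu⟩ * ⟨w₀, hw₀⟩⁻¹,
          mem_subgroupOf.2 (mul_mem (mul_mem hw₀S (hTS u (mem_inf.2 ⟨huT, hu⟩))) (inv_mem hw₀S)), ?_⟩
        rw [map_mul, map_mul, map_inv, hπw, hπu, LTP.wl_up, neg_neg, mul_inv_cancel_right]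
    obtain ⟨⟨k', hk'⟩, hkS, hkπ⟩ := this
    exact hlift k hk k' hk' hkS hkπ.symm
  -- elements of odd order centralise
  refine mem_Dr.2 ⟨hx'Q, fun k hk => ?_⟩
  suffices hle : Kr H ≤ centralizer ({x'} : Set G) from (mem_centralizer_iff.1 (hle hk) x' rfl).symm
  refine (closure_le _).2 fun y ⟨hy, ho⟩ => ?_
  have hyK : y ∈ Kr H := odd_mem_Kr hy ho
  obtain ⟨-, hz⟩ := hall hyK
  set z := y * x' * y⁻¹ * x'⁻¹ with hzdef
  have hpow : ∀ i : ℕ, y ^ i * x' * (y ^ i)⁻¹ = z ^ i * x' := by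
    intro i
    induction i with
    | zero => simp
    | succ i ih =>
      rw [pow_succ', show y * y ^ i * x' * (y * y ^ i)⁻¹ = y * (y ^ i * x' * (y ^ i)⁻¹) * y⁻¹ by group, ih]
      have hc : Commute y z := (mem_Zr.1 hz).2 y hyK
      calc y * (z ^ i * x') * y⁻¹ = (y * z ^ i) * x' * y⁻¹ := by group
        _ = z ^ i * (y * x' * y⁻¹) := by rw [(hc.pow_right i).eq]; group
        _ = z ^ i * (z * x') := by rw [hzdef]; group
        _ = z ^ (i + 1) * x' := by rw [← mul_assoc, ← pow_succ]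
  have h1 := hpow (orderOf y)
  rw [pow_orderOf_eq_one, one_mul, inv_one, mul_one, right_eq_mul] at h1
  obtain ⟨j, hj⟩ := ho
  have hz2 : z * z = 1 := n.m.sq z (mem_Zr.1 hz).1
  rw [hj, pow_succ, pow_mul, pow_two, hz2, one_pow, one_mul] at h1
  refine mem_centralizer_iff.2 ?_
  rintro _ rfl
  rw [hzdef, mul_inv_eq_one, mul_inv_eq_iff_eq_mul] at h1
  exact h1.symm

omit [Finite F] in
theorem Lw_conj {h l : G} (hh : h ∈ Kr H) {t : Fˣ} (hπ : n.m.π ⟨h, hh⟩ = dg t) (hl : l ∈ n.Lw) :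
    h * l * h⁻¹ ∈ n.Lw ∧ n.m.c₀ (h * l * h⁻¹) = (t : F) * n.m.c₀ l := by
  refine ⟨⟨conj_mem_Wr hh hl.1, ?_⟩, ?_⟩
  · rw [n.m.act₁ h hh l hl.1, hπ, hl.2]; simp
  · rw [n.m.act₀ h hh l hl.1, hπ, hl.2]; simp

/-- **the moved `D` is trivial or covers the line** -/
theorem D_cases : Dr H = ⊥ ∨ ∀ c : F, ∃ d ∈ cjg g (Dr H), ∃ l ∈ n.Lw, d * l ∈ Dr H ∧ n.m.c₀ l = c := by
  have hD' : cjg g (Dr H) ≤ Qr H ⊓ cjg g (Qr H) := le_inf n.D'_le_Q (cjg_mono g inf_le_left)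
  let P : F → Prop := fun c => ∃ d ∈ cjg g (Dr H), ∃ l ∈ n.Lw, d * l ∈ Dr H ∧ n.m.c₀ l = c
  by_cases hex : ∃ c, c ≠ 0 ∧ P c
  · right
    obtain ⟨c, hc, hPc⟩ := hex
    obtain ⟨t, ht, -⟩ := n.exists_gen
    obtain ⟨⟨h, hh⟩, hπ⟩ := n.m.surj (dg t)
    obtain ⟨hQ, hQ', -⟩ := n.tor_norm hh hπ
    have hstep : ∀ c, P c → P ((t : F) * c) := by
      rintro _ ⟨d, hd, l, hl, hdl, rfl⟩
      obtain ⟨hl', hc'⟩ := n.Lw_conj hh hπ hl
      refine ⟨h * d * h⁻¹, n.conj_D' hQ hQ' hd, h * l * h⁻¹, hl', ?_, hc'⟩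
      have := conj_mem_Dr (le_Mr H (Kr_le H hh)) hQ hdl
      rwa [show h * (d * l) * h⁻¹ = h * d * h⁻¹ * (h * l * h⁻¹) by group] at this
    intro e
    by_cases he : e = 0
    · subst he
      exact ⟨1, one_mem _, 1, one_mem _, by simp, n.m.c_one.1⟩
    · obtain ⟨i, hi⟩ : ∃ i : ℕ, t ^ i = Units.mk0 (e / c) (div_ne_zero he hc) := by
        obtain ⟨i, hi⟩ := ((isOfFinOrder_of_finite t).mem_powers_iff_mem_zpowers).2 (ht (Units.mk0 (e / c) (div_ne_zero he hc)))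
        exact ⟨i, hi⟩
      have hpow : ∀ i : ℕ, P ((t : F) ^ i * c) := by
        intro i
        induction i with
        | zero => simpa using hPc
        | succ i ih => simpa [pow_succ', mul_assoc] using hstep _ ih
      have h2 := congrArg Units.val hi
      rw [Units.val_pow_eq_pow_val, Units.val_mk0] at h2
      have := hpow i
      rwa [h2, div_mul_cancel₀ e hc] at this
  · left
    push Not at hex
    refine (Subgroup.map_eq_bot_iff_of_injective (f := (MulAut.conj g).toMonoidHom) _ (MulAut.conj g).injective).1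
      ((Subgroup.eq_bot_iff_forall _).2 fun d hd => ?_)
    obtain ⟨l, hl, hdl⟩ := n.meet_dec (hD' hd)
    have h0 : n.m.c₀ l = 0 := by
      by_contra h0
      exact hex _ h0 ⟨d, hd, l, hl, hdl, rfl⟩
    have hlZ : l ∈ Zr H := (n.m.zero_iff l hl.1).1 ⟨h0, hl.2⟩
    have h1 : d ∈ Dr H ⊓ cjg g (Dr H) :=
      mem_inf.2 ⟨(Subgroup.mul_mem_cancel_right _ (n.v.Zr_le_Dr hlZ)).1 hdl, hd⟩
    rwa [n.v.Dr_disjoint, mem_bot] at h1

end NatCtx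

end Cfsg.Lib.PushPair
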