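import Cfsg.Agent.PushPair.OneBase
import Cfsg.Agent.FixityFour.Groups
import Cfsg.Agent.S1232

/-!
# The residual of order three: the group has sectional rank at most four
-/

set_option autoImplicit false
set_option linter.style.haveILetI false

namespace Cfsg.Lib.PushPair

open Subgroup
open Cfsg.Lib.LTP (cjg)
open scoped commutatorElement

universe u

variable {G : Type u} [Group G]

theorem cjg_mem_iff {g x : G} {A : Subgroup G} : x ∈ cjg g A ↔ g⁻¹ * x * g ∈ A := Cfsg.Lib.LTP.mem_cjg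

variable [Finite G]

/-- a group of order four meets a distinct one in at most two elements -/
theorem card_inf_four {A B : Subgroup G} (h4 : Nat.card ↥A = 4) (hne : ¬ A ≤ B) :
    Nat.card ↥(A ⊓ B) ≤ 2 := by
  have hd := card_dvd_of_le (inf_le_left : A ⊓ B ≤ A)
  rw [h4] at hd
  have hle := Nat.le_of_dvd (by norm_num) hd
  by_contra hc
  have h4' : 4 ≤ Nat.card ↥(A ⊓ B) := by
    interval_cases h : Nat.card ↥(A ⊓ B) <;> omega
  exact hne (inf_eq_left.1 (eq_of_le_of_card_ge inf_le_left (by omega)))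

/-- a two-element subgroup -/
theorem two_cases {A : Subgroup G} (h : Nat.card ↥A ≤ 2) {c x : G} (hc : c ∈ A) (hc1 : c ≠ 1) (hx : x ∈ A) :
    x = 1 ∨ x = c := by
  by_contra hn
  push Not at hn
  haveI : Fintype ↥A := Fintype.ofFinite _
  rw [Nat.card_eq_fintype_card] at h
  have h3 := Fintype.two_lt_card_iff.2 ⟨(1 : ↥A), ⟨c, hc⟩, ⟨x, hx⟩,
    fun e => hc1 (congrArg Subtype.val e).symm, fun e => hn.1 (congrArg Subtype.val e).symm,
    fun e => hn.2 (congrArg Subtype.val e).symm⟩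
  omega

namespace Setup

variable {H T : Subgroup G} (s : Setup H T)
include s

omit s in
/-- the norm of the generator kills the module -/
theorem norm_one {d : G} (c : Cyc H d) (hab : ∀ a ∈ Wr H, ∀ b ∈ Wr H, a * b = b * a)
    (hWK : Wr H ≤ ⁅Kr H, Wr H⁆) {w : G} (hw : w ∈ Wr H) :
    w * (d * w * d⁻¹) * (d * d * w * (d * d)⁻¹) = 1 := by
  have hd : ∀ v ∈ Wr H, d * v * d⁻¹ ∈ Wr H := fun v hv => (conj_mem_iff (Kr_norm_Wr H c.mem)).2 hv
  let N : G → G := fun v => v * (d * v * d⁻¹) * (d * d * v * (d * d)⁻¹)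
  have hd2 : ∀ v ∈ Wr H, d * d * v * (d * d)⁻¹ ∈ Wr H := fun v hv => by
    rw [show d * d * v * (d * d)⁻¹ = d * (d * v * d⁻¹) * d⁻¹ by group]; exact hd _ (hd v hv)
  have hN : ∀ v ∈ Wr H, N v ∈ Wr H := fun v hv => mul_mem (mul_mem hv (hd v hv)) (hd2 v hv)
  have hNm : ∀ a ∈ Wr H, ∀ b ∈ Wr H, N (a * b) = N a * N b := fun a ha b hb => by
    have e1 : b * (d * a * d⁻¹) = d * a * d⁻¹ * b := hab b hb _ (hd a ha)
    have e2 : b * (d * b * d⁻¹) * (d * d * a * (d * d)⁻¹) = d * d * a * (d * d)⁻¹ * (b * (d * b * d⁻¹)) :=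
      hab _ (mul_mem hb (hd b hb)) _ (hd2 a ha)
    calc N (a * b) = a * (b * (d * a * d⁻¹)) * (d * b * d⁻¹) * (d * d * a * (d * d)⁻¹) *
          (d * d * b * (d * d)⁻¹) := by simp only [N]; group
      _ = a * (d * a * d⁻¹) * (b * (d * b * d⁻¹) * (d * d * a * (d * d)⁻¹)) * (d * d * b * (d * d)⁻¹) := by
          rw [e1]; group
      _ = N a * N b := by rw [e2]; simp only [N]; group
  have hNd : ∀ v ∈ Wr H, N (d * v * d⁻¹) = N v := fun v hv => by
    have e3 : d * d * d * v * (d * d * d)⁻¹ = v := by rw [hab _ c.cube v hv, mul_inv_cancel_right]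
    calc N (d * v * d⁻¹) = d * v * d⁻¹ * (d * d * v * (d * d)⁻¹) * (d * d * d * v * (d * d * d)⁻¹) := by
          simp only [N]; group
      _ = d * v * d⁻¹ * (d * d * v * (d * d)⁻¹) * v := by rw [e3]
      _ = N v := by
          rw [hab _ (mul_mem (hd v hv) (hd2 v hv)) v hv]
          simp only [N]; group
  -- the elements fixing the norm form a subgroup containing the residual
  let S : Subgroup G :=
    { carrier := {k | k ∈ normalizer (Wr H : Set G) ∧ ∀ v ∈ Wr H, N (k * v * k⁻¹) = N v}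
      one_mem' := ⟨one_mem _, fun v _ => by simp⟩
      mul_mem' := fun {a b} ha hb => ⟨mul_mem ha.1 hb.1, fun v hv => by
        rw [show a * b * v * (a * b)⁻¹ = a * (b * v * b⁻¹) * a⁻¹ by group,
          ha.2 _ ((conj_mem_iff hb.1).2 hv), hb.2 v hv]⟩
      inv_mem' := fun {a} ha => ⟨inv_mem ha.1, fun v hv => by
        have h := ha.2 _ ((conj_mem_iff (inv_mem ha.1)).2 hv)
        rw [show a * (a⁻¹ * v * a⁻¹⁻¹) * a⁻¹ = v by group] at h
        exact h.symm⟩ }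
  have hKS : Kr H ≤ S := c.ext
    (fun u hu => ⟨le_normalizer hu, fun v hv => by rw [hab u hu v hv, mul_inv_cancel_right]⟩)
    ⟨Kr_norm_Wr H c.mem, hNd⟩
  let Z : Subgroup G :=
    { carrier := {v | v ∈ Wr H ∧ N v = 1}
      one_mem' := ⟨one_mem _, by simp [N]⟩
      mul_mem' := fun {a b} ha hb => ⟨mul_mem ha.1 hb.1, by rw [hNm a ha.1 b hb.1, ha.2, hb.2, one_mul]⟩
      inv_mem' := fun {a} ha => ⟨inv_mem ha.1, by
        have h := hNm a ha.1 a⁻¹ (inv_mem ha.1)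
        rw [mul_inv_cancel, ha.2, one_mul] at h
        rw [← h]; simp [N]⟩ }
  have hZ : Wr H ≤ Z := hWK.trans (commutator_le.2 fun k hk v hv => by
    have hkv := (conj_mem_iff (Kr_norm_Wr H hk)).2 hv
    rw [commutatorElement_def]
    refine ⟨mul_mem hkv (inv_mem hv), ?_⟩
    rw [hNm _ hkv _ (inv_mem hv), (hKS hk).2 v hv, ← hNm v hv _ (inv_mem hv), mul_inv_cancel]
    simp [N])
  exact (hZ hw).2

omit s in
/-- the generator fixes nothing -/
theorem fix_one {d : G} (c : Cyc H d) (hab : ∀ a ∈ Wr H, ∀ b ∈ Wr H, a * b = b * a)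
    (hsq : ∀ a ∈ Wr H, a * a = 1) (hWK : Wr H ≤ ⁅Kr H, Wr H⁆) {w : G} (hw : w ∈ Wr H)
    (hc : d * w = w * d) : w = 1 := by
  have h := norm_one c hab hWK hw
  have e : d * w * d⁻¹ = w := by rw [hc, mul_inv_cancel_right]
  rw [show d * d * w * (d * d)⁻¹ = d * (d * w * d⁻¹) * d⁻¹ by group, e, e, hsq w hw, one_mul] at h
  exact h

/-- the module is a four-group -/
theorem W_four {d : G} (c : Cyc H d) (hab : ∀ a ∈ Wr H, ∀ b ∈ Wr H, a * b = b * a)
    (hsq : ∀ a ∈ Wr H, a * a = 1) (hWK : Wr H ≤ ⁅Kr H, Wr H⁆)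
    (hirr : ∀ U : Subgroup G, Zr H ≤ U → U ≤ Wr H → Kr H ≤ normalizer (U : Set G) → U = Zr H ∨ U = Wr H) :
    Nat.card ↥(Wr H) = 4 ∧ Zr H = ⊥ := by
  haveI : Fact (Nat.Prime 2) := ⟨Nat.prime_two⟩
  have hZ : Zr H = ⊥ := eq_bot_iff.2 fun z hz => by
    rw [mem_bot]
    exact fix_one c hab hsq hWK (mem_Zr.1 hz).1 ((mem_Zr.1 hz).2 d c.mem)
  obtain ⟨w, hw, hw1⟩ := (Subgroup.ne_bot_iff_exists_ne_one.1 (s.W_ne c)).elim
    fun x hx => (⟨x, x.2, fun e => hx (Subtype.ext e)⟩ : ∃ w, w ∈ Wr H ∧ w ≠ 1)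
  set w1 := d * w * d⁻¹ with hw1def
  have hw1W : w1 ∈ Wr H := (conj_mem_iff (Kr_norm_Wr H c.mem)).2 hw
  have hne : w1 ≠ w := fun e => hw1 (fix_one c hab hsq hWK hw (mul_inv_eq_iff_eq_mul.1 e))
  have hw11 : w1 ≠ 1 := fun e => hw1 (by
    rw [hw1def, mul_inv_eq_one, mul_eq_left] at e; exact e)
  have e2 : d * w1 * d⁻¹ = w * w1 := by
    have h := norm_one c hab hWK hw
    rw [show d * d * w * (d * d)⁻¹ = d * w1 * d⁻¹ by rw [hw1def]; group, mul_eq_one_iff_inv_eq] at h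
    rw [← h]
    exact inv_eq_of_mul_eq_one_right (hsq _ (mul_mem hw hw1W))
  let U : Subgroup G :=
    { carrier := {x | x = 1 ∨ x = w ∨ x = w1 ∨ x = w * w1}
      one_mem' := Or.inl rfl
      mul_mem' := by
        have f1 := hsq w hw
        have f2 := hsq w1 hw1W
        have f3 := hab w1 hw1W w hw
        have f4 : ∀ u : G, w * (w * u) = u := fun u => by rw [← mul_assoc, f1, one_mul]
        have f5 : w1 * (w * w1) = w := by rw [← mul_assoc, f3, mul_assoc, f2, mul_one]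
        rintro x y (rfl | rfl | rfl | rfl) (rfl | rfl | rfl | rfl) <;>
          simp [f1, f2, f3, f4, f5, mul_assoc]
      inv_mem' := by
        rintro x hx
        have hxW : x ∈ Wr H := by
          rcases hx with rfl | rfl | rfl | rfl
          exacts [one_mem _, hw, hw1W, mul_mem hw hw1W]
        rwa [inv_eq_of_mul_eq_one_right (hsq x hxW)] }
  have hUW : U ≤ Wr H := by
    rintro x (rfl | rfl | rfl | rfl)
    exacts [one_mem _, hw, hw1W, mul_mem hw hw1W]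
  have hKU : Kr H ≤ normalizer (U : Set G) := c.ext
    (fun u hu => mem_norm_of_conj fun a ha => by rw [hab u hu a (hUW ha), mul_inv_cancel_right]; exact ha)
    (mem_norm_of_conj fun a ha => by
      have hw' : w ∈ U := Or.inr (Or.inl rfl)
      have hw1' : w1 ∈ U := Or.inr (Or.inr (Or.inl rfl))
      rcases ha with rfl | rfl | rfl | rfl
      · simp
      · rwa [← hw1def]
      · rw [e2]; exact mul_mem hw' hw1'
      · rw [show d * (w * w1) * d⁻¹ = d * w * d⁻¹ * (d * w1 * d⁻¹) by group, e2, ← hw1def]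
        exact mul_mem hw1' (mul_mem hw' hw1'))
  refine ⟨?_, hZ⟩
  rcases hirr U (hZ.le.trans bot_le) hUW hKU with h | h
  · have hwU : w ∈ U := Or.inr (Or.inl rfl)
    rw [h, hZ, mem_bot] at hwU
    exact absurd hwU hw1
  · rw [← h]
    let f : Bool × Bool → ↥U := fun p =>
      ⟨(if p.1 then w else 1) * (if p.2 then w1 else 1), by
        refine mul_mem ?_ ?_ <;> split
        exacts [Or.inr (Or.inl rfl), Or.inl rfl, Or.inr (Or.inr (Or.inl rfl)), Or.inl rfl]⟩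
    have hbij : Function.Bijective f := by
      refine ⟨?_, ?_⟩
      · rintro ⟨a, b⟩ ⟨a', b'⟩ e
        have e' := congrArg Subtype.val e
        cases a <;> cases b <;> cases a' <;> cases b' <;>
          simp [f, hw1, Ne.symm hw1, hw11, Ne.symm hw11, hne, Ne.symm hne] at e' ⊢
        all_goals
          first
          | exact hne ((mul_eq_one_iff_eq_inv.1 e').trans (inv_eq_of_mul_eq_one_right (hsq w1 hw1W))).symm
          | exact hne ((mul_eq_one_iff_eq_inv.1 e'.symm).trans (inv_eq_of_mul_eq_one_right (hsq w1 hw1W))).symm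
      · rintro ⟨x, rfl | rfl | rfl | rfl⟩
        exacts [⟨(false, false), by simp [f]⟩, ⟨(true, false), by simp [f]⟩, ⟨(false, true), by simp [f]⟩,
          ⟨(true, true), by simp [f]⟩]
    rw [← Nat.card_congr (Equiv.ofBijective f hbij)]
    simp

/-- a moving element carries the centralising part of the core into the core -/
theorem move_D {d : G} (c : Cyc H d) (h4 : Nat.card ↥(Wr H) = 4) (hZ : Zr H = ⊥)
    (hQW : ∀ q ∈ Qr H, ∀ w ∈ Wr H, q * w = w * q)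
    (hCK : ∀ k ∈ Kr H, (∀ w ∈ Wr H, k * w = w * k) → k ∈ Wr H) {g : G}
    (hg : g ∈ normalizer (T : Set G)) (hW' : ¬ cjg g (Wr H) ≤ Qr H) :
    ¬ cjg g⁻¹ (Wr H) ≤ Qr H ∧ cjg g⁻¹ (Dr H) ≤ Qr H ∧
      ∃ z ∈ Wr H ⊓ cjg g (Wr H), z ≠ 1 := by
  have hWT : Wr H ≤ T := (Wr_le_Qr H).trans s.Q_le_T
  have hgT : ∀ x ∈ T, g⁻¹ * x * g ∈ T := fun x hx => by
    simpa using (conj_mem_iff (inv_mem hg)).2 hx
  have hW'T : cjg g (Wr H) ≤ T := by
    rintro _ ⟨w, hw, rfl⟩
    exact (conj_mem_iff hg).2 (hWT hw)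
  have hTW' : ∀ t ∈ T, ∀ x ∈ cjg g (Wr H), t * x * t⁻¹ ∈ cjg g (Wr H) := fun t ht x hx => by
    rw [cjg_mem_iff] at hx ⊢
    rw [show g⁻¹ * (t * x * t⁻¹) * g = g⁻¹ * t * g * (g⁻¹ * x * g) * (g⁻¹ * t * g)⁻¹ by group]
    exact (conj_mem_iff (Mr_norm_Wr H (s.T_le_M (hgT t ht)))).2 hx
  obtain ⟨a, ha, haQ⟩ := SetLike.not_le_iff_exists.1 hW'
  have hnc : ∃ w ∈ Wr H, a * w ≠ w * a := by
    by_contra hn
    push Not at hn
    exact haQ (s.cent_W_T hCK (hW'T ha) hn)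
  obtain ⟨w, hw, hne⟩ := hnc
  set z := a * w * a⁻¹ * w⁻¹ with hzdef
  have hz1 : z ≠ 1 := fun e => hne (mul_inv_eq_iff_eq_mul.1 (mul_inv_eq_one.1 e))
  have hz : z ∈ Wr H ⊓ cjg g (Wr H) := by
    refine mem_inf.2 ⟨mul_mem ((conj_mem_iff (Mr_norm_Wr H (s.T_le_M (hW'T ha)))).2 hw) (inv_mem hw), ?_⟩
    rw [hzdef, show a * w * a⁻¹ * w⁻¹ = a * (w * a⁻¹ * w⁻¹) by group]
    exact mul_mem ha (hTW' w (hWT hw) _ (inv_mem ha))
  have hback : ¬ cjg g⁻¹ (Wr H) ≤ Qr H := fun hle => hne (by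
    have h1 : g⁻¹ * w * g ∈ Qr H := hle (by rw [cjg_mem_iff]; simpa [mul_assoc] using hw)
    have h2 := hQW _ h1 _ (cjg_mem_iff.1 ha)
    have h3 := congrArg (fun y => g * y * g⁻¹) h2
    simpa [mul_assoc] using h3.symm)
  refine ⟨hback, ?_, z, hz, hz1⟩
  rintro _ ⟨x, hx, rfl⟩
  show g⁻¹ * x * g⁻¹⁻¹ ∈ Qr H
  rw [inv_inv]
  have hxT := s.Q_le_T (mem_Dr.1 hx).1
  refine s.cent_W_T hCK (hgT x hxT) fun v hv => ?_
  -- the commutator of `x` with the conjugate module lies in both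
  set y := g * v * g⁻¹ with hy
  have hyW' : y ∈ cjg g (Wr H) := Cfsg.Lib.LTP.cjg_mem hv
  have hyT := hW'T hyW'
  set e := x * y * x⁻¹ * y⁻¹ with hedef
  have he1 : e ∈ cjg g (Wr H) := mul_mem (hTW' x hxT y hyW') (inv_mem hyW')
  have he2 : e ∈ Dr H := by
    rw [hedef, show x * y * x⁻¹ * y⁻¹ = x * (y * x⁻¹ * y⁻¹) by group]
    refine mul_mem hx (mem_Dr.2 ⟨(conj_mem_iff (H_norm_Qr H (s.T_le hyT))).2 (inv_mem (mem_Dr.1 hx).1), fun k hk => ?_⟩)
    have h := (mem_Dr.1 (inv_mem hx)).2 _ ((conj_mem_iff (inv_mem (s.T_le_M hyT))).2 hk)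
    have h2 := congrArg (fun u => y * u * y⁻¹) h
    simpa [mul_assoc] using h2
  have hW4' : Nat.card ↥(cjg g (Wr H)) = 4 := by rw [Cfsg.Lib.LTP.card_cjg, h4]
  have he : e ∈ Wr H := by
    rcases two_cases (card_inf_four hW4' hW') (mem_inf.2 ⟨(mem_inf.1 hz).2, Wr_le_Qr H (mem_inf.1 hz).1⟩) hz1
        (mem_inf.2 ⟨he1, (mem_Dr.1 he2).1⟩) with h | h
    · rw [h]; exact one_mem _
    · rw [h]; exact (mem_inf.1 hz).1
  have he0 : e = 1 := by
    have h : e ∈ Zr H := mem_Zr.2 ⟨he, (mem_Dr.1 he2).2⟩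
    rwa [hZ, mem_bot] at h
  have h3 : x * y = y * x := mul_inv_eq_iff_eq_mul.1 (mul_inv_eq_one.1 he0)
  have h4' := congrArg (fun u => g⁻¹ * u * g) h3
  simpa [hy, mul_assoc] using h4'

/-- the core is elementary abelian of order four or eight -/
theorem core_small (e : Nonempty (↥(Kr H) ⧸ Cfsg.pCore 2 ↥(Kr H) ≃* Multiplicative (ZMod 3))) {g₀ : G}
    (hg₀ : g₀ ∈ normalizer (T : Set G)) (hg₀M : g₀ ∉ Mr H) :
    Cfsg.IsElementaryAbelian 2 (Qr H) ∧ (Nat.card ↥(Qr H) = 4 ∨ Nat.card ↥(Qr H) = 8) := by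
  haveI : Fact (Nat.Prime 2) := ⟨Nat.prime_two⟩
  obtain ⟨d, c⟩ := exists_cyc H e
  obtain ⟨hab, hsq, hirr⟩ := s.near_data e hg₀ hg₀M
  have hWK := Wr_le_comm H e
  obtain ⟨h4, hZ⟩ := s.W_four c hab hsq hWK hirr
  have hQW := s.Q_comm_W hab (s.W_ne c) hWK hirr
  have hWd : ∀ w ∈ Wr H, d * w * d⁻¹ ∈ Wr H := fun w hw => (conj_mem_iff (Kr_norm_Wr H c.mem)).2 hw
  have hfix : ∀ w ∈ Wr H, d * w = w * d → w = 1 := fun w hw h => fix_one c hab hsq hWK hw h
  have hCK : ∀ k ∈ Kr H, (∀ w ∈ Wr H, k * w = w * k) → k ∈ Wr H := fun k hk hc => by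
    by_contra hn
    obtain ⟨w, hw, hw1⟩ := (Subgroup.ne_bot_iff_exists_ne_one.1 (s.W_ne c)).elim
      fun x hx => (⟨x, x.2, fun e => hx (Subtype.ext e)⟩ : ∃ w, w ∈ Wr H ∧ w ≠ 1)
    rcases c.cases k hk with h | h | h
    · exact hn h
    · refine hw1 (hfix w hw ?_)
      have h1 : k * d⁻¹ * (d * w * d⁻¹) = d * w * d⁻¹ * (k * d⁻¹) := hab _ h _ (hWd w hw)
      calc d * w = d * w * d⁻¹ * (k * d⁻¹) * (k * d⁻¹)⁻¹ * d := by group
        _ = k * w * k⁻¹ * d := by rw [← h1]; group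
        _ = w * d := by rw [hc w hw, mul_inv_cancel_right]
    · refine hw1 (hfix w hw ?_)
      have h1 : k * d * w = w * (k * d) := hab _ h w hw
      calc d * w = k⁻¹ * (k * d * w) := by group
        _ = k⁻¹ * (w * k) * d := by rw [h1]; group
        _ = w * d := by rw [← hc w hw, inv_mul_cancel_left]
  obtain ⟨g, hg, hgM, hW'⟩ := s.exists_move (s.W_ne c) hg₀ hg₀M
  obtain ⟨hback, hD0, z, hz, hz1⟩ := s.move_D c h4 hZ hQW hCK hg hW'
  obtain ⟨-, hD, -⟩ := s.move_D c h4 hZ hQW hCK (inv_mem hg) hback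
  rw [inv_inv] at hD
  -- the core is the product of the module and the centralising part
  have hsplit : ∀ q ∈ Qr H, ∃ w ∈ Wr H, q * w ∈ Dr H := fun q hq => by
    have hφ : ∀ v : ↥(Wr H), (v : G) * d * (v : G)⁻¹ * d⁻¹ ∈ Wr H := fun v => by
      rw [show (v : G) * d * (v : G)⁻¹ * d⁻¹ = v * (d * (v : G)⁻¹ * d⁻¹) by group]
      exact mul_mem v.2 (hWd _ (inv_mem v.2))
    let φ : ↥(Wr H) → ↥(Wr H) := fun v => ⟨_, hφ v⟩
    have hinj : Function.Injective φ := fun a b e => by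
      have e' : (a : G) * d * (a : G)⁻¹ * d⁻¹ = b * d * (b : G)⁻¹ * d⁻¹ := congrArg Subtype.val e
      refine Subtype.ext (inv_mul_eq_one.1 (hfix _ (mul_mem (inv_mem b.2) a.2) ?_)).symm
      calc d * ((b : G)⁻¹ * a) = (b : G)⁻¹ * (b * d * (b : G)⁻¹ * d⁻¹) * (d * a) := by group
        _ = (b : G)⁻¹ * (a * d * (a : G)⁻¹ * d⁻¹) * (d * a) := by rw [e']
        _ = (b : G)⁻¹ * a * d := by group
    obtain ⟨v, hv⟩ := Finite.surjective_of_injective hinj ⟨q * d * q⁻¹ * d⁻¹, (Qr_le_centPart H hq).2 d c.mem⟩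
    have hv' : (v : G) * d * (v : G)⁻¹ * d⁻¹ = q * d * q⁻¹ * d⁻¹ := congrArg Subtype.val hv
    refine ⟨v, v.2, mem_Dr.2 ⟨mul_mem hq (Wr_le_Qr H v.2), ?_⟩⟩
    have hK : Kr H ≤ centralizer ({q * (v : G)} : Set G) := c.ext
      (fun u hu => mem_centralizer_singleton_iff.2 (by
        rw [← mul_assoc, ← hQW q hq u hu, mul_assoc, hab u hu v v.2, mul_assoc]))
      (mem_centralizer_singleton_iff.2 ?_)
    · exact fun k hk => mem_centralizer_singleton_iff.1 (hK hk)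
    · have hvi : (v : G)⁻¹ = v := inv_eq_of_mul_eq_one_right (hsq _ v.2)
      have h2 : (v : G)⁻¹ * q * d = d * ((v : G)⁻¹ * q) := by
        calc (v : G)⁻¹ * q * d = (v : G)⁻¹ * (q * d * q⁻¹ * d⁻¹) * d * q := by group
          _ = (v : G)⁻¹ * (v * d * (v : G)⁻¹ * d⁻¹) * d * q := by rw [hv']
          _ = d * ((v : G)⁻¹ * q) := by group
      rw [hvi, ← hQW q hq v v.2] at h2
      exact h2.symm
  have hDW : ∀ x ∈ Dr H, ∀ w ∈ Wr H, x * w ∈ Wr H → x = 1 := fun x hx w hw h => by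
    have h2 : x ∈ Zr H := mem_Zr.2 ⟨by simpa using mul_mem h (inv_mem hw), (mem_Dr.1 hx).2⟩
    rwa [hZ, mem_bot] at h2
  -- the centralising part has at most two elements
  have hdis := s.Dr_inter hg hgM
  have hzW : z ∈ Wr H := (mem_inf.1 hz).1
  have hQW' : ∀ x ∈ cjg g (Qr H), ∀ y ∈ cjg g (Wr H), x * y = y * x := by
    rintro _ ⟨x, hx, rfl⟩ _ ⟨y, hy, rfl⟩
    rw [← map_mul, ← map_mul, hQW x hx y hy]
  obtain ⟨a, ha, haQ⟩ := SetLike.not_le_iff_exists.1 hW'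
  have haT : a ∈ T := by
    obtain ⟨v, hv, rfl⟩ := ha
    exact (conj_mem_iff hg).2 (s.Q_le_T (Wr_le_Qr H hv))
  have hWnQ : ¬ Wr H ≤ cjg g (Qr H) := fun hle =>
    haQ (s.cent_W_T hCK haT fun w hw => (hQW' w (hle hw) a ha).symm)
  have hzQ' : z ∈ cjg g (Qr H) := by
    obtain ⟨v, hv, hvz⟩ := (mem_inf.1 hz).2
    exact ⟨v, Wr_le_Qr H hv, hvz⟩
  have hDcard : Nat.card ↥(Dr H) ≤ 2 := by
    rw [← Cfsg.Lib.LTP.card_cjg g (Dr H)]
    have hw : ∀ y : ↥(cjg g (Dr H)), ∃ w : ↥(Wr H ⊓ cjg g (Qr H)), (y : G) * w ∈ Dr H := by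
      rintro ⟨y, hy⟩
      obtain ⟨w, hw, hyw⟩ := hsplit y (hD hy)
      refine ⟨⟨w, mem_inf.2 ⟨hw, ?_⟩⟩, hyw⟩
      -- the product lies in both cores
      have hyQ' : y ∈ cjg g (Qr H) := by
        obtain ⟨v, hv, rfl⟩ := hy
        exact ⟨v, (mem_Dr.1 hv).1, rfl⟩
      have hx : y * w ∈ cjg g (Qr H) := by
        rw [cjg_mem_iff]
        have h := hD0 (Cfsg.Lib.LTP.cjg_mem (g := g⁻¹) hyw)
        rwa [inv_inv] at h
      simpa using mul_mem (inv_mem hyQ') hx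
    choose f hf using hw
    refine le_trans (Nat.card_le_card_of_injective f fun y y' he => Subtype.ext ?_) (card_inf_four h4 hWnQ)
    have h1 := mul_mem (hf y) (inv_mem (hf y'))
    rw [he, show (y : G) * (f y' : G) * ((y' : G) * (f y' : G))⁻¹ = y * (y' : G)⁻¹ by group] at h1
    exact mul_inv_eq_one.1 (mem_bot.1 (hdis ▸ mem_inf.2 ⟨h1, mul_mem y.2 (inv_mem y'.2)⟩))
  have hDsq : ∀ x ∈ Dr H, x * x = 1 := fun x hx => by
    rcases eq_or_ne x 1 with rfl | h1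
    · exact one_mul 1
    · rcases two_cases hDcard hx h1 (mul_mem hx hx) with h | h
      · exact h
      · exact absurd (mul_eq_left.1 h) h1
  have hDab : ∀ x ∈ Dr H, ∀ y ∈ Dr H, x * y = y * x := fun x hx y hy => by
    rcases eq_or_ne x 1 with rfl | h1
    · simp
    · rcases two_cases hDcard hx h1 hy with rfl | rfl <;> simp
  -- assemble
  have hsq' : ∀ q ∈ Qr H, q * q = 1 := fun q hq => by
    obtain ⟨w, hw, hx⟩ := hsplit q hq
    have h1 := hDsq _ hx
    rwa [show q * w * (q * w) = q * (w * q) * w by group, ← hQW q hq w hw, ← mul_assoc, mul_assoc (q * q),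
      hsq w hw, mul_one] at h1
  refine ⟨⟨⟨⟨fun p q => Subtype.ext ?_⟩⟩, fun q hq => by rw [pow_two]; exact hsq' q hq⟩, ?_⟩
  · have h1 := hsq' _ p.2
    have h2 := hsq' _ q.2
    have h3 := hsq' _ (mul_mem p.2 q.2)
    show (p : G) * q = q * p
    calc (p : G) * q = ((p : G) * q)⁻¹ := (inv_eq_of_mul_eq_one_right h3).symm
      _ = q * p := by rw [mul_inv_rev, inv_eq_of_mul_eq_one_right h1, inv_eq_of_mul_eq_one_right h2]
  · have hcard : Nat.card ↥(Qr H) = Nat.card ↥(Dr H) * Nat.card ↥(Wr H) := by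
      rw [← Nat.card_prod]
      refine (Nat.card_eq_of_bijective (fun p : ↥(Dr H) × ↥(Wr H) => (⟨p.1 * p.2, mul_mem (mem_Dr.1 p.1.2).1
        (Wr_le_Qr H p.2.2)⟩ : ↥(Qr H))) ⟨?_, ?_⟩).symm
      · rintro ⟨x, w⟩ ⟨x', w'⟩ he
        have he' : (x : G) * w = x' * w' := congrArg Subtype.val he
        have hxw : (x : G) = x' * (w' * (w : G)⁻¹) := by rw [← mul_assoc, ← he', mul_inv_cancel_right]
        have h1 : (x' : G)⁻¹ * x = 1 := by
          refine hDW _ (mul_mem (inv_mem x'.2) x.2) 1 (one_mem _) ?_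
          rw [mul_one, hxw, inv_mul_cancel_left]
          exact mul_mem w'.2 (inv_mem w.2)
        have h2 : (x : G) = x' := (inv_mul_eq_one.1 h1).symm
        exact Prod.ext (Subtype.ext h2) (Subtype.ext (mul_left_cancel (h2 ▸ he')))
      · rintro ⟨q, hq⟩
        obtain ⟨w, hw, hx⟩ := hsplit q hq
        exact ⟨(⟨_, hx⟩, ⟨w, hw⟩), Subtype.ext (by
          show q * w * w = q
          rw [mul_assoc, hsq w hw, mul_one])⟩
    have hpos : 0 < Nat.card ↥(Dr H) := Nat.card_pos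
    rw [hcard, h4]
    omega

end Setup

/-- **the residual of order three forces sectional rank at most four** -/
theorem one_case {H T : Subgroup G} (s : Setup H T)
    (e : Nonempty (↥(Kr H) ⧸ Cfsg.pCore 2 ↥(Kr H) ≃* Multiplicative (ZMod 3))) {g₀ : G}
    (hg₀ : g₀ ∈ normalizer (T : Set G)) (hg₀M : g₀ ∉ Mr H) : Cfsg.SectionalPRankLE 2 4 G := by
  haveI : Fact (Nat.Prime 2) := ⟨Nat.prime_two⟩
  obtain ⟨⟨hQc, hQ2⟩, hQ⟩ := s.core_small e hg₀ hg₀M
  obtain ⟨S, hS⟩ := (Qr_two H).exists_le_sylow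
  refine Cfsg.Lib.FixityFour.sectional_of_sylow S ?_
  set A := (Qr H).subgroupOf (S : Subgroup G) with hA
  have hAcard : Nat.card ↥A = Nat.card ↥(Qr H) := Nat.card_congr (subgroupOfEquivOfLe hS).toEquiv
  have hAc : ∀ a ∈ A, ∀ b ∈ A, a * b = b * a := fun a ha b hb => Subtype.ext
    (congrArg (Subtype.val (p := fun x => x ∈ Qr H)) (mul_comm' (⟨_, mem_subgroupOf.1 ha⟩ : ↥(Qr H)) ⟨_, mem_subgroupOf.1 hb⟩))
  have hA2 : ∀ a ∈ A, a * a = 1 := fun a ha => Subtype.ext (by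
    simpa [pow_two] using hQ2 _ (mem_subgroupOf.1 ha))
  have hcent : ∀ x : ↥(S : Subgroup G), (∀ a ∈ A, x * a = a * x) → x ∈ A := fun x hx =>
    mem_subgroupOf.2 (s.cent_Q fun q hq => congrArg Subtype.val (hx ⟨q, hS hq⟩ (mem_subgroupOf.2 hq)))
  rcases hQ with h4 | h8
  · rw [h4] at hAcard
    haveI := S.isPGroup'
    haveI : Nontrivial ↥(S : Subgroup G) := by
      haveI : Nontrivial ↥A := Finite.one_lt_card_iff_nontrivial.1 (by omega)
      exact A.subtype_injective.nontrivial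
    haveI := S.isPGroup'.center_nontrivial
    obtain ⟨⟨z, hzc⟩, hz1⟩ := exists_ne (1 : ↥(center ↥(S : Subgroup G)))
    have hzA : z ∈ A := hcent z fun a _ => (mem_center_iff.1 hzc a).symm
    obtain ⟨u, huA, hu1, huz⟩ : ∃ u ∈ A, u ≠ 1 ∧ u ≠ z := by
      by_contra hn
      push Not at hn
      have : Nat.card ↥A ≤ Nat.card ↥(zpowers z) := card_le_of_le (fun a ha => by
        by_cases h : a = 1
        · rw [h]; exact one_mem _
        · rw [hn a ha h]; exact mem_zpowers z)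
      rw [hAcard, Nat.card_zpowers, orderOf_eq_prime (p := 2) (by rw [pow_two]; exact hA2 z hzA)
        (fun e => hz1 (Subtype.ext e))] at this
      omega
    refine Cfsg.Lib.FixityFour.sectional_of_selfCentralizing S.isPGroup' (hA2 u huA)
      fun E hE hE8 huE r _ _ => absurd ?_ (show ¬ Nat.card ↥E ≤ Nat.card ↥A by omega)
    refine card_le_of_le fun x hx => hcent x fun a ha => ?_
    haveI := hE.1
    have hxu : x * u = u * x := congrArg Subtype.val (mul_comm' (⟨x, hx⟩ : ↥E) ⟨u, huE⟩)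
    have hxz : x * z = z * x := mem_center_iff.1 hzc x
    have hle : A ≤ centralizer ({x} : Set ↥(S : Subgroup G)) := by
      have hd := card_dvd_of_le (inf_le_left : A ⊓ centralizer {x} ≤ A)
      rw [hAcard] at hd
      have h3 : 2 < Nat.card ↥(A ⊓ centralizer ({x} : Set ↥(S : Subgroup G))) := by
        haveI : Fintype ↥(A ⊓ centralizer ({x} : Set ↥(S : Subgroup G))) := Fintype.ofFinite _
        rw [Nat.card_eq_fintype_card]
        exact Fintype.two_lt_card_iff.2 ⟨(1 : ↥(A ⊓ centralizer ({x} : Set ↥(S : Subgroup G)))),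
          ⟨z, hzA, mem_centralizer_singleton_iff.2 hxz.symm⟩, ⟨u, huA, mem_centralizer_singleton_iff.2 hxu.symm⟩,
          fun e => hz1 (Subtype.ext (congrArg Subtype.val e).symm), fun e => hu1 (congrArg Subtype.val e).symm,
          fun e => huz (congrArg Subtype.val e).symm⟩
      have hle4 := Nat.le_of_dvd (by norm_num) hd
      refine inf_eq_left.1 (eq_of_le_of_card_ge inf_le_left ?_)
      interval_cases h : Nat.card ↥(A ⊓ centralizer ({x} : Set ↥(S : Subgroup G))) <;> omega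
    exact (mem_centralizer_singleton_iff.1 (hle ha)).symm
  · refine Cfsg.Agent.S1232.result S.isPGroup' A ⟨⟨⟨fun a b => Subtype.ext (hAc a a.2 b b.2)⟩⟩,
      fun a ha => by rw [pow_two]; exact hA2 a ha⟩ (hAcard.trans h8) ?_
    refine le_antisymm (fun x hx => hcent x fun a ha => (mem_centralizer_iff.1 hx a ha).symm) ?_
    exact fun a ha => mem_centralizer_iff.2 fun b hb => hAc b hb a ha

end Cfsg.Lib.PushPair
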