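import Cfsg.Agent.PushPair.Common
import Cfsg.Agent.S1871
import Cfsg.Agent.Classical.Misc.SmallPSL
import Cfsg.Agent.Components.PComponents

/-!
# The residual of order three: the quotient is symmetric of degree three and the residual is a near component
-/

set_option autoImplicit false
set_option linter.style.haveILetI false

namespace Cfsg.Lib.PushPair

open Subgroup
open Cfsg.Lib.LTP (cjg)
open scoped commutatorElement

universe u

variable {G : Type u} [Group G]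

/-- a generator of the odd residual modulo its core -/
structure Cyc (H : Subgroup G) (d : G) : Prop where
  mem : d ∈ Kr H
  not_mem : d ∉ Wr H
  cube : d * d * d ∈ Wr H
  cases : ∀ k ∈ Kr H, k ∈ Wr H ∨ k * d⁻¹ ∈ Wr H ∨ k * d ∈ Wr H

theorem exists_cyc (H : Subgroup G) [Finite G]
    (e : Nonempty (↥(Kr H) ⧸ Cfsg.pCore 2 ↥(Kr H) ≃* Multiplicative (ZMod 3))) : ∃ d, Cyc H d := by
  obtain ⟨e⟩ := e
  haveI := (Cfsg.Lib.Components.pCore_normal_and_isPGroup (G := ↥(Kr H)) 2).1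
  set π : ↥(Kr H) →* Multiplicative (ZMod 3) :=
    e.toMonoidHom.comp (QuotientGroup.mk' (Cfsg.pCore 2 ↥(Kr H))) with hπ
  have hmem : ∀ k : ↥(Kr H), (k : G) ∈ Wr H ↔ π k = 1 := fun k => by
    rw [hπ, MonoidHom.comp_apply]
    refine ⟨?_, fun h => ?_⟩
    · rintro ⟨y, hy, hyk⟩
      rw [Subtype.ext hyk] at hy
      rw [show (QuotientGroup.mk' (Cfsg.pCore 2 ↥(Kr H))) k = 1 from (QuotientGroup.eq_one_iff k).2 hy, map_one]
    · exact ⟨k, (QuotientGroup.eq_one_iff k).1 (e.injective (h.trans e.map_one.symm)), rfl⟩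
  obtain ⟨d, hd⟩ := (e.surjective.comp (QuotientGroup.mk'_surjective _)) (Multiplicative.ofAdd 1)
  have hd' : π d = Multiplicative.ofAdd 1 := hd
  refine ⟨d, d.2, fun h => ?_, ?_, fun k hk => ?_⟩
  · exact absurd (hd'.symm.trans ((hmem d).1 h)) (by decide)
  · have h3 : π (d * d * d) = 1 := by rw [map_mul, map_mul, hd']; decide
    exact (hmem (d * d * d)).2 h3
  · have key : ∀ a : Multiplicative (ZMod 3), a = 1 ∨ a * (Multiplicative.ofAdd 1)⁻¹ = 1 ∨
        a * Multiplicative.ofAdd 1 = 1 := by decide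
    rcases key (π ⟨k, hk⟩) with h | h | h
    · exact Or.inl ((hmem ⟨k, hk⟩).2 h)
    · exact Or.inr (Or.inl ((hmem (⟨k, hk⟩ * d⁻¹)).2 (by rw [map_mul, map_inv, hd']; exact h)))
    · exact Or.inr (Or.inr ((hmem (⟨k, hk⟩ * d)).2 (by rw [map_mul, hd']; exact h)))

theorem Cyc.ext {H : Subgroup G} {d : G} (c : Cyc H d) {U : Subgroup G} (hW : Wr H ≤ U) (hd : d ∈ U) :
    Kr H ≤ U := fun k hk => by
  rcases c.cases k hk with h | h | h
  · exact hW h
  · simpa using mul_mem (hW h) hd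
  · simpa using mul_mem (hW h) (inv_mem hd)

/-- a group of order six with a subgroup of order two which is not normal -/
theorem six_equiv {Y : Type u} [Group Y] [Finite Y] (h6 : Nat.card Y = 6) {U : Subgroup Y}
    (h2 : Nat.card ↥U = 2) (hn : ¬ U.Normal) : Nonempty (Y ≃* Equiv.Perm (Fin 3)) := by
  haveI : Fact (Nat.Prime 2) := ⟨Nat.prime_two⟩
  refine Cfsg.Lib.Classical.SmallPSL.perm_iso (Ω := Y ⧸ U) ?_ (MulAction.toPermHom Y (Y ⧸ U)) ?_ (by rw [h6]; rfl)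
  · have h := U.card_mul_index
    rw [h2, h6, index_eq_card] at h
    omega
  · rw [← MonoidHom.ker_eq_bot_iff, ← normalCore_eq_ker]
    have hd := card_dvd_of_le U.normalCore_le
    rw [h2] at hd
    rcases (Nat.dvd_prime Nat.prime_two).1 hd with h | h
    · exact card_eq_one.1 h
    · exact absurd (eq_of_le_of_card_ge U.normalCore_le (by rw [h, h2]) ▸ U.normalCore_normal) hn

theorem psl_two_two : Nonempty (Matrix.ProjectiveSpecialLinearGroup (Fin 2) (ZMod 2) ≃* Equiv.Perm (Fin 3)) := by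
  have h := Cfsg.Lib.Classical.SmallPSL.card_psl (F := ZMod 2) (q := 2) (ZMod.card 2)
  norm_num at h
  exact Cfsg.Lib.Classical.SmallPSL.perm_iso (Cfsg.Lib.Classical.SmallPSL.card_line (ZMod.card 2)) _
    Cfsg.Lib.Classical.SmallPSL.psl_injective (by rw [Nat.card_eq_fintype_card, h]; rfl)

variable [Finite G]

theorem Kr_norm_Wr (H : Subgroup G) : Kr H ≤ normalizer (Wr H : Set G) :=
  ((Kr_le H).trans (le_Mr H)).trans (Mr_norm_Wr H)

/-- **the core of the residual is its commutator with the residual** -/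
theorem Wr_le_comm (H : Subgroup G)
    (e : Nonempty (↥(Kr H) ⧸ Cfsg.pCore 2 ↥(Kr H) ≃* Multiplicative (ZMod 3))) : Wr H ≤ ⁅Kr H, Wr H⁆ := by
  haveI : Fact (Nat.Prime 2) := ⟨Nat.prime_two⟩
  obtain ⟨e⟩ := e
  obtain ⟨hPn, hP2⟩ := Cfsg.Lib.Components.pCore_normal_and_isPGroup (G := ↥(Kr H)) 2
  haveI := hPn
  set P := Cfsg.pCore 2 ↥(Kr H) with hP
  set N : Subgroup ↥(Kr H) := ⁅(⊤ : Subgroup ↥(Kr H)), P⁆ with hN
  haveI : N.Normal := commutator_normal ⊤ P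
  have hNP : N ≤ P := commutator_le_right ⊤ P
  haveI : IsCyclic (↥(Kr H) ⧸ P) := isCyclic_of_surjective e.symm e.symm.surjective
  set f := QuotientGroup.map N P (MonoidHom.id _) (fun x hx => hNP hx)
  have hf : f.ker ≤ center _ := fun x hx => by
    obtain ⟨x, rfl⟩ := QuotientGroup.mk'_surjective N x
    have hxP : x ∈ P := (QuotientGroup.eq_one_iff x).1 hx
    refine mem_center_iff.2 fun y => ?_
    obtain ⟨y, rfl⟩ := QuotientGroup.mk'_surjective N y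
    rw [← commutatorElement_eq_one_iff_mul_comm, ← map_commutatorElement]
    exact (QuotientGroup.eq_one_iff _).2 (commutator_mem_commutator (mem_top y) hxP)
  have hcom : ∀ a b : ↥(Kr H) ⧸ N, Commute a b := fun a b => commutative_of_cyclic_center_quotient f hf a b
  let S : Subgroup (↥(Kr H) ⧸ N) :=
    { carrier := {a | Odd (orderOf a)}
      one_mem' := by simp
      mul_mem' := fun {a b} ha hb => (Nat.odd_mul.2 ⟨ha, hb⟩).of_dvd_nat (hcom a b).orderOf_mul_dvd_mul_orderOf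
      inv_mem' := fun {a} ha => by simpa using ha }
  have htop : Kr H ≤ (S.comap (QuotientGroup.mk' N)).map (Kr H).subtype := by
    refine (closure_le _).2 fun x hx => ⟨⟨x, subset_closure hx⟩, ?_, rfl⟩
    show Odd _
    refine Odd.of_dvd_nat ?_ (orderOf_map_dvd (QuotientGroup.mk' N) _)
    rw [← Subgroup.orderOf_coe]
    exact hx.2
  have key : P ≤ N := fun w hw => by
    obtain ⟨w', hw', he⟩ := htop w.2
    rw [Subtype.ext he] at hw'
    refine (QuotientGroup.eq_one_iff w).1 (orderOf_eq_one_iff.1 ?_)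
    obtain ⟨k, hk⟩ := hP2 ⟨w, hw⟩
    obtain ⟨j, -, hj⟩ := (Nat.dvd_prime_pow Nat.prime_two).1
      (orderOf_dvd_of_pow_eq_one (x := QuotientGroup.mk' N w) (n := 2 ^ k)
        (by rw [← map_pow, show w ^ 2 ^ k = 1 from congrArg Subtype.val hk, map_one]))
    have hodd : Odd (orderOf (QuotientGroup.mk' N w)) := hw'
    rw [hj] at hodd
    rcases j.eq_zero_or_pos with rfl | hj0
    · simpa using hj
    · exact absurd hodd (Nat.not_odd_iff_even.2 (Nat.even_pow.2 ⟨even_two, hj0.ne'⟩))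
  refine (map_mono (f := (Kr H).subtype) key).trans ?_
  rw [hN, map_commutator, ← MonoidHom.range_eq_map, range_subtype]
  exact le_rfl

namespace Setup

variable {H T : Subgroup G} (s : Setup H T)
include s

theorem not_K_le_Q {d : G} (c : Cyc H d) : d ∉ Qr H := fun h => c.not_mem (by
  rw [← Kr_inf_Qr]; exact ⟨c.mem, h⟩)

theorem W_ne {d : G} (c : Cyc H d) : Wr H ≠ ⊥ := s.Wr_ne fun h => s.not_K_le_Q c (h c.mem)

/-- an element of `T` outside the core inverts the residual modulo its core -/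
theorem invert {d : G} (c : Cyc H d) {t : G} (ht : t ∈ T) (htQ : t ∉ Qr H) : t * d * t⁻¹ * d ∈ Wr H := by
  have hM := s.T_le_M ht
  have hW := Mr_norm_Wr H hM
  rcases c.cases _ ((conj_mem_iff hM).2 c.mem) with h | h | h
  · exact absurd ((conj_mem_iff hW).1 h) c.not_mem
  · refine absurd (s.mem_Q ht fun k hk => ?_) htQ
    rcases c.cases k hk with h' | h' | h'
    · exact mul_mem ((conj_mem_iff hW).2 h') (inv_mem h')
    · rw [show t * k * t⁻¹ * k⁻¹ = t * (k * d⁻¹) * t⁻¹ * (t * d * t⁻¹ * d⁻¹) * (k * d⁻¹)⁻¹ by group]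
      exact mul_mem (mul_mem ((conj_mem_iff hW).2 h') h) (inv_mem h')
    · rw [show t * k * t⁻¹ * k⁻¹ = t * (k * d) * t⁻¹ * (d⁻¹ * (t * d * t⁻¹ * d⁻¹)⁻¹ * d⁻¹⁻¹) * (k * d)⁻¹ by group]
      exact mul_mem (mul_mem ((conj_mem_iff hW).2 h')
        ((conj_mem_iff (inv_mem (Kr_norm_Wr H c.mem))).2 (inv_mem h))) (inv_mem h')
  · exact h

theorem mul_mem_Q {d : G} (c : Cyc H d) {t u : G} (ht : t ∈ T) (htQ : t ∉ Qr H) (hu : u ∈ T)
    (huQ : u ∉ Qr H) : t * u ∈ Qr H := by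
  by_contra hn
  have h1 := s.invert c ht htQ
  have h2 := s.invert c hu huQ
  have h3 := s.invert c (mul_mem ht hu) hn
  have hW := Mr_norm_Wr H (s.T_le_M ht)
  have h4 : t * u * d * (t * u)⁻¹ * d⁻¹ ∈ Wr H := by
    rw [show t * u * d * (t * u)⁻¹ * d⁻¹ = t * (u * d * u⁻¹ * d) * t⁻¹ * (d * (t * d * t⁻¹ * d) * d⁻¹)⁻¹ by group]
    exact mul_mem ((conj_mem_iff hW).2 h2) (inv_mem ((conj_mem_iff (Kr_norm_Wr H c.mem)).2 h1))
  have h5 : d * d ∈ Wr H := by
    have h := mul_mem (inv_mem h4) h3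
    rwa [show (t * u * d * (t * u)⁻¹ * d⁻¹)⁻¹ * (t * u * d * (t * u)⁻¹ * d) = d * d by group] at h
  have h6 := mul_mem (inv_mem h5) c.cube
  rw [show (d * d)⁻¹ * (d * d * d) = d by group] at h6
  exact c.not_mem h6

/-- **the quotient by the core is symmetric of degree three** -/
theorem quot_equiv {d : G} (c : Cyc H d) {g₀ : G} (hg₀ : g₀ ∈ normalizer (T : Set G)) (hg₀M : g₀ ∉ Mr H) :
    Nonempty (↥H ⧸ Cfsg.pCore 2 ↥H ≃* Equiv.Perm (Fin 3)) := by
  haveI := (Cfsg.Lib.Components.pCore_normal_and_isPGroup (G := ↥H) 2).1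
  set P := Cfsg.pCore 2 ↥H
  have hP : ∀ h : ↥H, (h : G) ∈ Qr H ↔ h ∈ P := fun h =>
    ⟨fun ⟨y, hy, e⟩ => Subtype.ext e ▸ hy, fun hh => ⟨h, hh, rfl⟩⟩
  have hq : ∀ h : ↥H, (h : G) ∈ Qr H → QuotientGroup.mk' P h = 1 :=
    fun h hh => (QuotientGroup.eq_one_iff h).2 ((hP h).1 hh)
  obtain ⟨t₀, ht₀, ht₀Q⟩ := SetLike.not_le_iff_exists.1
    (fun h : T ≤ Qr H => s.Qr_ne_T hg₀ hg₀M (le_antisymm s.Q_le_T h))
  have hdH := Kr_le H c.mem
  set π := QuotientGroup.mk' P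
  set a : ↥H ⧸ P := π ⟨d, hdH⟩
  set b : ↥H ⧸ P := π ⟨t₀, s.T_le ht₀⟩
  have ha1 : a ≠ 1 := fun h => s.not_K_le_Q c ((hP _).2 ((QuotientGroup.eq_one_iff _).1 h))
  have ha3 : a ^ 3 = 1 := by
    rw [← map_pow]
    exact hq _ (by rw [pow_three']; exact Wr_le_Qr H c.cube)
  have hb1 : b ≠ 1 := fun h => ht₀Q ((hP _).2 ((QuotientGroup.eq_one_iff _).1 h))
  have hb2 : b * b = 1 := by
    rw [← map_mul]; exact hq _ (s.mul_mem_Q c ht₀ ht₀Q ht₀ ht₀Q)
  have hT : ∀ t (h : t ∈ H), t ∈ T → π ⟨t, h⟩ = 1 ∨ π ⟨t, h⟩ = b := fun t h ht => by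
    by_cases htQ : t ∈ Qr H
    · exact Or.inl (hq _ htQ)
    · refine Or.inr ?_
      have := hq (⟨t, h⟩ * ⟨t₀, s.T_le ht₀⟩) (s.mul_mem_Q c ht htQ ht₀ ht₀Q)
      rw [map_mul] at this
      exact (mul_eq_one_iff_eq_inv.1 this).trans (inv_eq_of_mul_eq_one_left hb2)
  have hoa : orderOf a = 3 := by
    haveI : Fact (Nat.Prime 3) := ⟨Nat.prime_three⟩
    exact orderOf_eq_prime ha3 ha1
  have hob : orderOf b = 2 := by
    haveI : Fact (Nat.Prime 2) := ⟨Nat.prime_two⟩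
    exact orderOf_eq_prime (by rw [pow_two]; exact hb2) hb1
  -- every class is a product
  have hsurj : ∀ y : ↥H ⧸ P, ∃ i : Fin 3, ∃ j : Fin 2, a ^ (i : ℕ) * b ^ (j : ℕ) = y := by
    intro y
    obtain ⟨⟨h, hh⟩, rfl⟩ := QuotientGroup.mk'_surjective P y
    have hm : h ∈ Kr H ⊔ T := by rw [s.sup_eq]; exact hh
    rw [← SetLike.mem_coe, coe_mul_of_right_le_normalizer_left _ _ (s.T_le_M)] at hm
    obtain ⟨k, hk, t, ht, rfl⟩ := hm
    have hkH := Kr_le H hk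
    have hsplit : π ⟨k * t, hh⟩ = π ⟨k, hkH⟩ * π ⟨t, s.T_le ht⟩ := map_mul π ⟨k, hkH⟩ ⟨t, s.T_le ht⟩
    obtain ⟨i, hi⟩ : ∃ i : Fin 3, a ^ (i : ℕ) = π ⟨k, hkH⟩ := by
      rcases c.cases k hk with h | h | h
      · exact ⟨0, by rw [hq _ (Wr_le_Qr H h)]; exact pow_zero a⟩
      · refine ⟨1, ?_⟩
        have e1 := hq (⟨k, hkH⟩ * ⟨d, hdH⟩⁻¹) (Wr_le_Qr H h)
        rw [map_mul, map_inv, mul_inv_eq_one] at e1
        simpa using e1.symm
      · refine ⟨2, ?_⟩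
        have e1 := hq (⟨k, hkH⟩ * ⟨d, hdH⟩) (Wr_le_Qr H h)
        rw [map_mul, mul_eq_one_iff_eq_inv] at e1
        rw [e1]
        exact (inv_eq_of_mul_eq_one_right (show a * a ^ 2 = 1 by rw [← pow_succ', ha3])).symm
    rcases hT t (s.T_le ht) ht with h | h
    · exact ⟨i, 0, by rw [hsplit, h, hi]; simp⟩
    · exact ⟨i, 1, by rw [hsplit, h, hi]; simp⟩
  have h6 : Nat.card (↥H ⧸ P) = 6 := by
    refine le_antisymm ?_ (Nat.le_of_dvd Nat.card_pos ?_)
    · refine (Nat.card_le_card_of_surjective (fun p : Fin 3 × Fin 2 => a ^ (p.1 : ℕ) * b ^ (p.2 : ℕ))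
        fun y => ?_).trans (by simp)
      obtain ⟨i, j, h⟩ := hsurj y
      exact ⟨(i, j), h⟩
    · exact Nat.Coprime.mul_dvd_of_dvd_of_dvd (by norm_num : Nat.Coprime 3 2) (hoa ▸ orderOf_dvd_natCard a)
        (hob ▸ orderOf_dvd_natCard b)
  refine six_equiv h6 (U := zpowers b) (by rw [Nat.card_zpowers, hob]) fun hn => ?_
  refine s.T_not_normal hg₀ hg₀M fun h hh => mem_norm_of_conj fun t ht => ?_
  have hc := hn.conj_mem (π ⟨t, s.T_le ht⟩) (by
    rcases hT t (s.T_le ht) ht with h | h <;> rw [h]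
    exacts [one_mem _, mem_zpowers b]) (π ⟨h, hh⟩)
  obtain ⟨i, hi⟩ := mem_zpowers_iff.1 hc
  have hz : b ^ i = 1 ∨ b ^ i = b := by
    rcases Int.even_or_odd i with ⟨m, rfl⟩ | ⟨m, rfl⟩
    · left; rw [← two_mul, zpow_mul, zpow_two, hb2, one_zpow]
    · right; rw [zpow_add, zpow_mul, zpow_two, hb2, one_zpow, one_mul, zpow_one]
  rw [hi, ← map_inv, ← map_mul, ← map_mul] at hz
  set x : ↥H := ⟨h, hh⟩ * ⟨t, s.T_le ht⟩ * ⟨h, hh⟩⁻¹
  show (x : G) ∈ T
  rcases hz with e1 | e1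
  · exact s.Q_le_T ((hP x).2 ((QuotientGroup.eq_one_iff x).1 e1))
  · have e2 : (x * (⟨t₀, s.T_le ht₀⟩ : ↥H)⁻¹) ∈ P :=
      (QuotientGroup.eq_one_iff _).1 (show π (x * _⁻¹) = 1 by rw [map_mul, map_inv, e1]; exact mul_inv_cancel b)
    simpa using mul_mem (s.Q_le_T ((hP _).2 e2)) ht₀

/-- **the module is elementary and irreducible modulo its fixed points** -/
theorem near_data (e : Nonempty (↥(Kr H) ⧸ Cfsg.pCore 2 ↥(Kr H) ≃* Multiplicative (ZMod 3))) {g₀ : G}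
    (hg₀ : g₀ ∈ normalizer (T : Set G)) (hg₀M : g₀ ∉ Mr H) :
    (∀ a ∈ Wr H, ∀ b ∈ Wr H, a * b = b * a) ∧ (∀ a ∈ Wr H, a * a = 1) ∧
    ∀ U : Subgroup G, Zr H ≤ U → U ≤ Wr H → Kr H ≤ normalizer (U : Set G) → U = Zr H ∨ U = Wr H := by
  obtain ⟨d, c⟩ := exists_cyc H e
  haveI : Fact (Nat.Prime 2) := ⟨Nat.prime_two⟩
  obtain ⟨eq3⟩ := s.quot_equiv c hg₀ hg₀M
  obtain ⟨e2⟩ := psl_two_two
  have hchar : Cfsg.IsOfCharacteristicTwo ↥H := fun x hx => by
    obtain ⟨y, hy, e1⟩ := s.cent_Q (x := (x : G)) (by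
      rintro _ ⟨q, hq, rfl⟩
      exact (congrArg Subtype.val (mem_centralizer_iff.1 hx q hq)).symm)
    exact Subtype.ext e1 ▸ hy
  obtain ⟨ST, hST⟩ := id s.syl
  have hC : ∀ C : Subgroup ↥(ST : Subgroup ↥H), C.Characteristic → C ≠ ⊥ →
      ¬ ((C.map (ST : Subgroup ↥H).subtype).Normal) := by
    intro C hCc hC1 hCn
    let E : ↥(ST : Subgroup ↥H) ≃* ↥T :=
      ((ST : Subgroup ↥H).equivMapOfInjective H.subtype H.subtype_injective).trans (MulEquiv.subgroupCongr hST)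
    have hE : ∀ x, ((E x : ↥T) : G) = ((x : ↥H) : G) := fun x => rfl
    set P := (C.map (ST : Subgroup ↥H).subtype).map H.subtype with hPdef
    have hP2 : IsPGroup 2 ↥P := ((ST.2.to_subgroup C).map _).map _
    have hP1 : P ≠ ⊥ := by
      rwa [hPdef, Ne, map_eq_bot_iff_of_injective _ H.subtype_injective,
        map_eq_bot_iff_of_injective _ (Subgroup.subtype_injective _)]
    refine hP1 (s.no_invariant hP2 ?_ hg₀M (mem_norm_of_conj ?_))
    · intro h hh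
      refine mem_norm_of_conj ?_
      rintro _ ⟨y, hy, rfl⟩
      exact ⟨_, hCn.conj_mem y hy ⟨h, hh⟩, rfl⟩
    · rintro _ ⟨_, ⟨x, hx, rfl⟩, rfl⟩
      let ψ : ↥(ST : Subgroup ↥H) ≃* ↥(ST : Subgroup ↥H) :=
        E.trans ((Subgroup.normalizerMonoidHom T ⟨g₀, hg₀⟩).trans E.symm)
      have hψ : ψ x ∈ C := by
        exact (SetLike.ext_iff.1 (hCc.fixed ψ) x).2 hx
      refine ⟨(ψ x : ↥H), ⟨ψ x, hψ, rfl⟩, ?_⟩
      show ((ψ x : ↥H) : G) = g₀ * ((x : ↥H) : G) * g₀⁻¹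
      rw [← hE]
      simp only [ψ, MulEquiv.trans_apply, MulEquiv.apply_symm_apply]
      rfl
  have hnear := Cfsg.Agent.S1871.result hchar (ZMod 2) 1 le_rfl (by simp) (eq3.trans e2.symm) ST hC
  set Y := Cfsg.pResidual 2 ↥H with hY
  have hYmap : Y.map H.subtype = Kr H := by
    rw [hY, Cfsg.pResidual, MonoidHom.map_closure, Kr, Cfsg.oddGenerated]
    congr 1
    ext x
    constructor
    · rintro ⟨y, hy, rfl⟩
      exact ⟨y.2, by rw [Subgroup.coe_subtype, Subgroup.orderOf_coe]; exact Nat.coprime_two_right.1 hy⟩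
    · rintro ⟨hx, ho⟩
      exact ⟨⟨x, hx⟩, Nat.coprime_two_right.2 (by rwa [Subgroup.orderOf_mk]), rfl⟩
  let f : ↥Y ≃* ↥(Kr H) :=
    (Y.equivMapOfInjective H.subtype H.subtype_injective).trans (MulEquiv.subgroupCongr hYmap)
  set ι : ↥Y →* G := (Kr H).subtype.comp f.toMonoidHom with hι
  have hinj : Function.Injective ι := (Subgroup.subtype_injective _).comp f.injective
  have hrange : ι.range = Kr H := by
    rw [hι, MonoidHom.range_comp, MonoidHom.range_eq_top.2 f.surjective, ← MonoidHom.range_eq_map, range_subtype]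
  set A : Subgroup ↥Y := ⁅Cfsg.pCore 2 ↥Y, (⊤ : Subgroup ↥Y)⁆
  have hPmap : (Cfsg.pCore 2 ↥Y).map ι = Wr H := by
    rw [hι, ← map_map, Cfsg.Lib.Components.pCore_map_equiv f]; rfl
  have hAmap : A.map ι = Wr H := by
    rw [map_commutator, hPmap, ← MonoidHom.range_eq_map, hrange, commutator_comm]
    refine le_antisymm ?_ (Wr_le_comm H e)
    exact commutator_le.2 fun k hk w hw => by
      rw [commutatorElement_def]
      exact mul_mem ((conj_mem_iff (Kr_norm_Wr H hk)).2 hw) (inv_mem hw)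
  obtain ⟨-, -, -, h4, -, h6⟩ := hnear
  have hA : ∀ a ∈ A, a ∈ Cfsg.pCore 2 ↥Y ∧ (∀ p ∈ Cfsg.pCore 2 ↥Y, p * a = a * p) ∧ a * a = 1 := by
    intro a ha
    refine closure_induction (p := fun a _ => a ∈ Cfsg.pCore 2 ↥Y ∧
      (∀ p ∈ Cfsg.pCore 2 ↥Y, p * a = a * p) ∧ a * a = 1) ?_ ?_ ?_ ?_ (h4 ha)
    · rintro x ⟨hx, hx2⟩
      exact ⟨hx.1, mem_centralizer_iff.1 hx.2, by rwa [← pow_two]⟩
    · exact ⟨one_mem _, by simp, one_mul 1⟩
    · rintro x y - - ⟨hx, hxc, hx2⟩ ⟨hy, hyc, hy2⟩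
      refine ⟨mul_mem hx hy, fun p hp => ?_, ?_⟩
      · rw [← mul_assoc, hxc p hp, mul_assoc, hyc p hp, mul_assoc]
      · rw [show x * y * (x * y) = x * (y * x) * y by group, hxc y hy, ← mul_assoc, hx2, one_mul, hy2]
    · rintro x - ⟨hx, hxc, hx2⟩
      rw [inv_eq_of_mul_eq_one_right hx2]
      exact ⟨hx, hxc, hx2⟩
  refine ⟨fun a ha b hb => ?_, fun a ha => ?_, fun U hZU hUW hKU => ?_⟩
  · rw [← hAmap] at ha hb
    obtain ⟨a, ha, rfl⟩ := ha
    obtain ⟨b, hb, rfl⟩ := hb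
    rw [← map_mul, ← map_mul, (hA b hb).2.1 a (hA a ha).1]
  · rw [← hAmap] at ha
    obtain ⟨a, ha, rfl⟩ := ha
    rw [← map_mul, (hA a ha).2.2, map_one]
  · have hn : (U.comap ι).Normal := ⟨fun u hu y => by
      rw [mem_comap, map_mul, map_mul, map_inv]
      exact (conj_mem_iff (hKU (hrange.le ⟨y, rfl⟩))).2 hu⟩
    have hC' : ∀ a ∈ A ⊓ center ↥Y, ι a ∈ Zr H := fun a ha => mem_Zr.2 ⟨hAmap.le ⟨a, ha.1, rfl⟩, fun k hk => by
      obtain ⟨y, rfl⟩ := hrange.ge hk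
      rw [← map_mul, ← map_mul, mem_center_iff.1 ha.2 y]⟩
    have hback : (U.comap ι).map ι = U := by
      rw [map_comap_eq_self]
      rw [hrange]
      exact hUW.trans (Wr_le_Kr H)
    rcases h6 (U.comap ι) hn (fun a ha => hZU (hC' a ha)) (fun u hu => by
      obtain ⟨a, ha, hau⟩ := hAmap.ge (hUW hu)
      exact hinj hau ▸ ha) with h | h
    · left
      refine le_antisymm ?_ hZU
      rw [← hback, h]
      rintro _ ⟨a, ha, rfl⟩
      exact hC' a ha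
    · right
      rw [← hback, h, hAmap]

end Setup

end Cfsg.Lib.PushPair
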