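import Cfsg.Agent.PushPair.Module
import Mathlib.GroupTheory.SpecificGroups.Quaternion

/-!
# Finite facts on five points, and a recognition of the quaternion group of order eight
-/

set_option autoImplicit false
set_option maxRecDepth 20000

namespace Cfsg.Lib.PushPair
namespace Five

open Equiv

/-- the action on vectors -/
def pv (σ : Perm (Fin 5)) (v : Fin 5 → ZMod 2) : Fin 5 → ZMod 2 := fun i => v (σ⁻¹ i)

theorem pv_mul (σ τ : Perm (Fin 5)) (v : Fin 5 → ZMod 2) : pv (σ * τ) v = pv σ (pv τ v) := by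
  funext i
  simp [pv, mul_inv_rev]

theorem pv_one (v : Fin 5 → ZMod 2) : pv 1 v = v := rfl

theorem pv_add (σ : Perm (Fin 5)) (v w : Fin 5 → ZMod 2) : pv σ (v + w) = pv σ v + pv σ w := rfl

theorem pv_sum (σ : Perm (Fin 5)) (v : Fin 5 → ZMod 2) (h : ∑ i, v i = 0) : ∑ i, pv σ v i = 0 := by
  rw [← h]
  exact Equiv.sum_comp σ⁻¹ v

/-- the vector of weight four avoiding `i` -/
def quad (i : Fin 5) : Fin 5 → ZMod 2 := fun l => if l = i then 0 else 1

theorem quad_sum : ∀ i, ∑ l, quad i l = 0 := by decide +kernel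

theorem quad_inj : ∀ i j, quad i = quad j → i = j := by decide +kernel

theorem quad_ne : ∀ i, quad i ≠ 0 := by decide +kernel

theorem quad_expand : ∀ v : Fin 5 → ZMod 2, ∑ l, v l = 0 →
    v = v 0 • quad 0 + v 1 • quad 1 + v 2 • quad 2 + v 3 • quad 3 + v 4 • quad 4 := by
  decide +kernel

theorem quad_span (p : Fin 5 → Fin 5) (hp : Function.Injective p) (v : Fin 5 → ZMod 2) (hv : ∑ l, v l = 0) (l : Fin 5) :
    (v 0 • quad (p 0) + v 1 • quad (p 1) + v 2 • quad (p 2) + v 3 • quad (p 3) + v 4 • quad (p 4)) (p l) = v l := by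
  have h : ∀ i, (v i • quad (p i)) (p l) = v i + if i = l then v i else 0 := fun i => by
    by_cases hil : i = l
    · subst hil
      simp [quad, CharTwo.add_self_eq_zero]
    · simp [quad, hil, hp.ne (Ne.symm hil)]
  calc (v 0 • quad (p 0) + v 1 • quad (p 1) + v 2 • quad (p 2) + v 3 • quad (p 3) + v 4 • quad (p 4)) (p l)
      = ∑ i, (v i + if i = l then v i else 0) := by
        simp only [Fin.sum_univ_five, Pi.add_apply, h]
    _ = v l := by rw [Finset.sum_add_distrib, hv, zero_add, Finset.sum_ite_eq', if_pos (Finset.mem_univ l)]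

/-- the five cycle -/
def cyc5 : Perm (Fin 5) := finRotate 5
/-- a double transposition -/
def tau : Perm (Fin 5) := swap 1 2 * swap 3 4
/-- the double transposition inverting the five cycle -/
def inv5 : Perm (Fin 5) := swap 1 4 * swap 2 3

theorem basic_facts : Perm.sign cyc5 = 1 ∧ Perm.sign tau = 1 ∧ Perm.sign inv5 = 1 ∧ tau * tau = 1 ∧
    inv5 * inv5 = 1 ∧ inv5 * tau = tau * inv5 ∧ inv5 * cyc5 = cyc5⁻¹ * inv5 ∧
    cyc5 * tau * (cyc5 * tau) * (cyc5 * tau) = 1 := by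
  decide +kernel

theorem cyc5_fix : ∀ v : Fin 5 → ZMod 2, ∑ l, v l = 0 → pv cyc5 v = v → v = 0 := by decide +kernel

theorem cyc5_inv_fix : ∀ v : Fin 5 → ZMod 2, ∑ l, v l = 0 → pv cyc5⁻¹ v = v → v = 0 := by decide +kernel

theorem cyc5_surj : ∀ v : Fin 5 → ZMod 2, ∑ l, v l = 0 → ∃ w : Fin 5 → ZMod 2, ∑ l, w l = 0 ∧ pv cyc5 w + w = v := by
  decide +kernel

/-- the obstruction for a derivation vanishing on the dihedral group of order ten -/
theorem norm_obstruction : ∀ v : Fin 5 → ZMod 2, ∑ l, v l = 0 → pv tau v = v → pv inv5 v = v →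
    pv (cyc5 * tau * (cyc5 * tau)) (pv cyc5 v) + pv (cyc5 * tau) (pv cyc5 v) + pv cyc5 v = 0 → v = 0 := by
  decide +kernel

theorem aug_span : ∀ v : Fin 5 → ZMod 2, ∑ l, v l = 0 → v 0 = 0 → ∃ y : Fin 5 → ZMod 2, ∑ l, y l = 0 ∧
    ∃ w : Fin 5 → ZMod 2, ∑ l, w l = 0 ∧ v = y + pv tau y + (w + pv inv5 w) := by
  decide +kernel

/-- the test vector -/
def probe : Fin 5 → ZMod 2 := pairVec 0 2

theorem probe_facts : ∑ l, probe l = 0 ∧ probe 0 = 1 ∧ pv (cyc5 * tau) probe 0 = 0 ∧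
    pv (cyc5 * tau) (pv (cyc5 * tau) probe) 0 = 0 ∧
    pv (cyc5 * tau) (pv (cyc5 * tau) (pv (cyc5 * tau) probe)) = probe := by
  decide +kernel

/-- the stabiliser of the last point as words -/
def stab4 : List (Perm (Fin 5)) :=
  [1, cyc5 * tau, cyc5 * tau * cyc5 * tau, cyc5 * cyc5 * tau * cyc5 * cyc5, tau * cyc5 * tau * cyc5 * cyc5,
    tau * cyc5 * cyc5 * cyc5 * tau * cyc5, cyc5 * cyc5 * cyc5 * tau * cyc5 * cyc5 * cyc5,
    cyc5 * cyc5 * tau * cyc5 * cyc5 * cyc5 * tau, tau * cyc5 * cyc5 * tau * cyc5 * cyc5 * cyc5,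
    tau * cyc5 * tau * cyc5 * cyc5 * cyc5 * tau, tau * cyc5 * cyc5 * cyc5 * tau * cyc5 * cyc5 * tau,
    cyc5 * cyc5 * tau * cyc5 * cyc5 * cyc5 * tau * cyc5 * tau]

theorem even_words : ∀ σ : Perm (Fin 5), Perm.sign σ = 1 → ∃ a : Fin 5, ∃ h ∈ stab4, σ = cyc5 ^ (a : ℕ) * h := by
  decide +kernel

theorem gen_even {U : Subgroup (Perm (Fin 5))} (hs : cyc5 ∈ U) (ht : tau ∈ U) {σ : Perm (Fin 5)}
    (hσ : Perm.sign σ = 1) : σ ∈ U := by
  obtain ⟨a, h, hh, rfl⟩ := even_words σ hσ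
  refine mul_mem (pow_mem hs _) ?_
  simp only [stab4, List.mem_cons, List.not_mem_nil, or_false] at hh
  revert hh
  generalize cyc5 = a at hs ⊢
  generalize tau = b at ht ⊢
  intro hh
  rcases hh with rfl | rfl | rfl | rfl | rfl | rfl | rfl | rfl | rfl | rfl | rfl | rfl <;>
    repeat' first | exact one_mem _ | exact hs | exact ht | apply mul_mem

/-- the even involutions -/
def invols : List (Perm (Fin 5)) :=
  [swap 1 2 * swap 3 4, swap 1 3 * swap 2 4, swap 1 4 * swap 2 3,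
    swap 0 2 * swap 3 4, swap 0 3 * swap 2 4, swap 0 4 * swap 2 3,
    swap 0 1 * swap 3 4, swap 0 3 * swap 1 4, swap 0 4 * swap 1 3,
    swap 0 1 * swap 2 4, swap 0 2 * swap 1 4, swap 0 4 * swap 1 2,
    swap 0 1 * swap 2 3, swap 0 2 * swap 1 3, swap 0 3 * swap 1 2]

theorem mem_invols_aux : ∀ σ : Perm (Fin 5), ¬ (Perm.sign σ = 1 ∧ σ * σ = 1) ∨ σ = 1 ∨ σ ∈ invols := by
  decide +kernel

theorem mem_invols (σ : Perm (Fin 5)) (h1 : Perm.sign σ = 1) (h2 : σ * σ = 1) (h3 : σ ≠ 1) : σ ∈ invols := by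
  rcases mem_invols_aux σ with h | h | h
  · exact absurd ⟨h1, h2⟩ h
  · exact absurd h h3
  · exact h

theorem fixed_by_two : ∀ σ ∈ invols, ∀ τ ∈ invols, σ ≠ τ → σ * τ = τ * σ → ∀ v : Fin 5 → ZMod 2,
    ∑ l, v l = 0 → v ≠ 0 → pv σ v = v → pv τ v = v → ∃ i, v = quad i := by
  decide +kernel

theorem two_fixing : ∀ i, ∃ σ ∈ invols, ∃ τ ∈ invols, σ ≠ 1 ∧ τ ≠ 1 ∧ σ ≠ τ ∧ σ * σ = 1 ∧ τ * τ = 1 ∧
    σ * τ = τ * σ ∧ Perm.sign σ = 1 ∧ Perm.sign τ = 1 ∧ pv σ (quad i) = quad i ∧ pv τ (quad i) = quad i := by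
  decide +kernel

end Five

/-- recognition of the quaternion group of order eight -/
theorem quat_equiv {G : Type*} [Group G] {x y z : G} (hx : x * x = z) (hy : y * y = z) (hz : z * z = 1)
    (hz1 : z ≠ 1) (hyx : y * x * y⁻¹ = x⁻¹) (hyc : y ∉ Subgroup.zpowers x) :
    Nonempty (↥(Subgroup.closure ({x, y} : Set G)) ≃* QuaternionGroup 2) := by
  have hord : orderOf x = 4 := by
    haveI : Fact (Nat.Prime 2) := ⟨Nat.prime_two⟩
    exact orderOf_eq_prime_pow (p := 2) (n := 1) (by rw [pow_one, pow_two, hx]; exact hz1)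
      (by rw [show (2 : ℕ) ^ (1 + 1) = 2 * 2 by norm_num, pow_mul, pow_two, pow_two, hx, hz])
  have hmod : ∀ i j : ℤ, (i : ZMod (2 * 2)) = (j : ZMod (2 * 2)) → x ^ i = x ^ j := fun i j h => by
    rw [zpow_eq_zpow_iff_modEq, hord]
    exact (ZMod.intCast_eq_intCast_iff i j (2 * 2)).1 h
  let e : ZMod (2 * 2) → G := fun i => x ^ ((i.val : ℤ))
  have hc : ∀ i : ZMod (2 * 2), (((i.val : ℤ)) : ZMod (2 * 2)) = i := fun i => by
    rw [Int.cast_natCast, ZMod.natCast_zmod_val]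
  have he : ∀ i j : ZMod (2 * 2), e i * e j = e (i + j) := fun i j => by
    rw [← zpow_add]
    exact hmod _ _ (by rw [Int.cast_add, hc, hc, hc])
  have hey : ∀ i : ZMod (2 * 2), e i * y = y * e (-i) := fun i => by
    have h1 : y⁻¹ * x * y = x⁻¹ := by
      have h2 := congrArg (fun a => y⁻¹ * a⁻¹ * y) hyx
      simpa [mul_assoc] using h2.symm
    have h3 : y⁻¹ * x ^ (i.val : ℤ) * y = x ^ (-(i.val : ℤ)) := by
      have h4 := (MulAut.conj y⁻¹).toMonoidHom.map_zpow x (i.val : ℤ)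
      simp only [MulEquiv.coe_toMonoidHom, MulAut.conj_apply, inv_inv] at h4
      rw [h4, h1, inv_zpow, zpow_neg]
    calc e i * y = y * (y⁻¹ * x ^ (i.val : ℤ) * y) := by simp only [e]; group
      _ = y * e (-i) := by rw [h3, hmod _ _ (show ((-(i.val : ℤ) : ℤ) : ZMod (2 * 2)) = (((-i).val : ℤ) : ZMod (2 * 2)) by
          rw [Int.cast_neg, hc, hc])]
  have hzz : y * y = e (2 : ZMod (2 * 2)) := by
    rw [hy, ← hx]
    show x * x = x ^ (2 : ℤ)
    exact (zpow_two x).symm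
  let f : QuaternionGroup 2 → G := fun q => match q with
    | .a i => e i
    | .xa i => y * e i
  have hf : ∀ p q, f (p * q) = f p * f q := by
    rintro (i | i) (j | j)
    · rw [QuaternionGroup.a_mul_a]; exact (he i j).symm
    · rw [QuaternionGroup.a_mul_xa]
      show y * e (j - i) = e i * (y * e j)
      rw [← mul_assoc, hey, mul_assoc, he, neg_add_eq_sub]
    · rw [QuaternionGroup.xa_mul_a]
      show y * e (i + j) = y * e i * e j
      rw [mul_assoc, he]
    · rw [QuaternionGroup.xa_mul_xa]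
      show e (_ + j - i) = y * e i * (y * e j)
      rw [show y * e i * (y * e j) = y * (e i * y) * e j by group, hey, ← mul_assoc, hzz, he, he]
      congr 1
      push_cast
      ring
  let φ : QuaternionGroup 2 →* G := MonoidHom.mk' f hf
  have hinj : Function.Injective φ := by
    rw [← MonoidHom.ker_eq_bot_iff, Subgroup.eq_bot_iff_forall]
    rintro (i | i) h
    · have h1 : x ^ ((i.val : ℤ)) = x ^ (0 : ℤ) := by rw [zpow_zero]; exact h
      rw [zpow_eq_zpow_iff_modEq, hord] at h1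
      have h2 := (ZMod.intCast_eq_intCast_iff (i.val : ℤ) 0 4).2 h1
      rw [Int.cast_zero] at h2
      rw [show i = 0 from (hc i).symm.trans h2]
      rfl
    · refine absurd ?_ hyc
      have h1 : y = (e i)⁻¹ := eq_inv_of_mul_eq_one_left h
      rw [h1]
      exact inv_mem (zpow_mem (Subgroup.mem_zpowers x) _)
  have hx' : φ (.a 1) = x := by
    show x ^ (1 : ℤ) = x
    exact zpow_one x
  have hy' : φ (.xa 0) = y := by
    show y * x ^ (0 : ℤ) = y
    rw [zpow_zero, mul_one]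
  have hrange : φ.range = Subgroup.closure ({x, y} : Set G) := by
    have hxm : x ∈ Subgroup.closure ({x, y} : Set G) := Subgroup.subset_closure (Or.inl rfl)
    refine le_antisymm ?_ ((Subgroup.closure_le _).2 ?_)
    · rintro _ ⟨i | i, rfl⟩
      · exact zpow_mem hxm _
      · exact mul_mem (Subgroup.subset_closure (Or.inr rfl)) (zpow_mem hxm _)
    · rintro _ (rfl | rfl)
      · exact ⟨_, hx'⟩
      · exact ⟨_, hy'⟩
  exact ⟨((MonoidHom.ofInjective hinj).trans (MulEquiv.subgroupCongr hrange)).symm⟩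

end Cfsg.Lib.PushPair
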