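import Cfsg.Agent.PushPair.Move
import Cfsg.Agent.PushPair.PermFacts

/-!
# The permutation module: no fixed points, the split of the core, and the action of the normaliser
-/

set_option autoImplicit false
set_option linter.style.haveILetI false

namespace Cfsg.Lib.PushPair

open Subgroup
open Cfsg.Lib.LTP (cjg)
open scoped commutatorElement
open Five

variable {G : Type*} [Group G]

namespace PermMod

variable {H T : Subgroup G} (m : PermMod H T)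

theorem c_one : m.c 1 = 0 := by
  have h := m.add 1 (one_mem _) 1 (one_mem _)
  rw [mul_one] at h
  exact left_eq_add.1 h

theorem c_inv {a : G} (ha : a ∈ Wr H) : m.c a⁻¹ = m.c a := by rw [inv_of_sq m.sq ha]

theorem c_act {k : G} (hk : k ∈ Kr H) {a : G} (ha : a ∈ Wr H) :
    m.c (k * a * k⁻¹) = pv (m.ρ ⟨k, hk⟩) (m.c a) := funext fun i => m.act k hk a ha i

theorem rho_mul {k l : G} (hk : k ∈ Kr H) (hl : l ∈ Kr H) :
    m.ρ ⟨k * l, mul_mem hk hl⟩ = m.ρ ⟨k, hk⟩ * m.ρ ⟨l, hl⟩ := map_mul m.ρ ⟨k, hk⟩ ⟨l, hl⟩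

theorem rho_inv {k : G} (hk : k ∈ Kr H) : m.ρ ⟨k⁻¹, inv_mem hk⟩ = (m.ρ ⟨k, hk⟩)⁻¹ := map_inv m.ρ ⟨k, hk⟩

theorem mem_W_of_rho {k l : G} (hk : k ∈ Kr H) (hl : l ∈ Kr H) (h : m.ρ ⟨k, hk⟩ = m.ρ ⟨l, hl⟩) :
    l⁻¹ * k ∈ Wr H :=
  (m.ker _ (mul_mem (inv_mem hl) hk)).1 (by rw [m.rho_mul (inv_mem hl) hk, m.rho_inv hl, h, inv_mul_cancel])

variable [Finite G]

theorem conj_eq_of_rho {k l : G} (hk : k ∈ Kr H) (hl : l ∈ Kr H) (h : m.ρ ⟨k, hk⟩ = m.ρ ⟨l, hl⟩) {a : G}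
    (ha : a ∈ Wr H) : k * a * k⁻¹ = l * a * l⁻¹ := by
  have e := m.comm (m.mem_W_of_rho hk hl h) ha
  calc k * a * k⁻¹ = l * (l⁻¹ * k * a) * k⁻¹ := by group
    _ = l * (a * (l⁻¹ * k)) * k⁻¹ := by rw [e]
    _ = l * a * l⁻¹ := by group

theorem lift {σ : Equiv.Perm (Fin 5)} (hσ : Equiv.Perm.sign σ = 1) :
    ∃ k, ∃ hk : k ∈ Kr H, m.ρ ⟨k, hk⟩ = σ := by
  obtain ⟨⟨k, hk⟩, h⟩ := m.surj σ hσ
  exact ⟨k, hk, h⟩

/-- a subgroup containing the core and two generators contains the residual -/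
theorem Kr_le_of_gens {U : Subgroup G} (hW : Wr H ≤ U) {ks kt : G} (hks : ks ∈ Kr H) (hkt : kt ∈ Kr H)
    (es : m.ρ ⟨ks, hks⟩ = cyc5) (et : m.ρ ⟨kt, hkt⟩ = tau) (hs : ks ∈ U) (ht : kt ∈ U) : Kr H ≤ U := by
  intro k hk
  obtain ⟨⟨l, hlK⟩, hl, hle⟩ := gen_even (U := (U.subgroupOf (Kr H)).map m.ρ)
    ⟨⟨ks, hks⟩, hs, es⟩ ⟨⟨kt, hkt⟩, ht, et⟩ (m.even ⟨k, hk⟩)
  have h := mul_mem (mem_subgroupOf.1 hl) (hW (m.mem_W_of_rho hk hlK hle.symm))
  simpa using h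

include m in
/-- **no fixed points in the module** -/
theorem Zr_eq_bot (_s : Setup H T) : Zr H = ⊥ := by
  obtain ⟨fs, ft, fi, ftt, -, fit, fis, fg⟩ := basic_facts
  obtain ⟨ks, hks, es⟩ := m.lift fs
  obtain ⟨kt, hkt, et⟩ := m.lift ft
  obtain ⟨ki, hki, ei⟩ := m.lift fi
  have hcs : ∀ {a}, a ∈ Wr H → m.c (ks * a * ks⁻¹) = pv cyc5 (m.c a) := fun ha => by rw [m.c_act hks ha, es]
  have hct : ∀ {a}, a ∈ Wr H → m.c (kt * a * kt⁻¹) = pv tau (m.c a) := fun ha => by rw [m.c_act hkt ha, et]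
  have hci : ∀ {a}, a ∈ Wr H → m.c (ki * a * ki⁻¹) = pv inv5 (m.c a) := fun ha => by rw [m.c_act hki ha, ei]
  have hWs : ∀ {a}, a ∈ Wr H → ks * a * ks⁻¹ ∈ Wr H := fun ha => conj_mem_Wr hks ha
  have hWi : ∀ {a}, a ∈ Wr H → ki * a * ki⁻¹ ∈ Wr H := fun ha => conj_mem_Wr hki ha
  have hWt : ∀ {a}, a ∈ Wr H → kt * a * kt⁻¹ ∈ Wr H := fun ha => conj_mem_Wr hkt ha
  have hcmul : ∀ {a b : G}, a ∈ Wr H → b ∈ Wr H → m.c (a * b) = m.c a + m.c b := fun ha hb => m.add _ ha _ hb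
  -- the canonical complement
  let U : Subgroup G :=
    { carrier := {u | ∃ x ∈ Wr H, u = ks * x * ks⁻¹ * x}
      one_mem' := ⟨1, one_mem _, by group⟩
      mul_mem' := by
        rintro _ _ ⟨x, hx, rfl⟩ ⟨y, hy, rfl⟩
        refine ⟨x * y, mul_mem hx hy, ?_⟩
        calc ks * x * ks⁻¹ * x * (ks * y * ks⁻¹ * y) = ks * x * ks⁻¹ * (x * (ks * y * ks⁻¹)) * y := by group
          _ = ks * x * ks⁻¹ * (ks * y * ks⁻¹ * x) * y := by rw [m.comm hx (hWs hy)]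
          _ = ks * (x * y) * ks⁻¹ * (x * y) := by group
      inv_mem' := by
        rintro _ ⟨x, hx, rfl⟩
        exact ⟨x, hx, inv_of_sq m.sq (mul_mem (hWs hx) hx)⟩ }
  have hUW : U ≤ Wr H := by
    rintro _ ⟨x, hx, rfl⟩
    exact mul_mem (hWs hx) hx
  have huniq : ∀ u ∈ U, m.c u = 0 → u = 1 := by
    rintro _ ⟨x, hx, rfl⟩ h
    rw [hcmul (hWs hx) hx, hcs hx] at h
    have hz := (m.zero_iff x hx).1 (cyc5_fix _ (m.sum x hx) (funext fun i => CharTwo.add_eq_zero.1 (congrFun h i)))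
    rw [show ks * x * ks⁻¹ = x by rw [(mem_Zr.1 hz).2 ks hks, mul_inv_cancel_right]]
    exact m.sq x hx
  have huniq2 : ∀ u ∈ U, ∀ u' ∈ U, m.c u = m.c u' → u = u' := fun u hu u' hu' h => by
    have h1 := huniq _ (U.mul_mem hu (inv_mem hu')) (by
      rw [hcmul (hUW hu) (inv_mem (hUW hu')), m.c_inv (hUW hu'), h]
      exact funext fun i => CharTwo.add_self_eq_zero _)
    exact mul_inv_eq_one.1 h1
  have hex : ∀ v : Fin 5 → ZMod 2, ∑ i, v i = 0 → ∃ u, u ∈ U ∧ m.c u = v := fun v hv => by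
    obtain ⟨w, hw, hwv⟩ := cyc5_surj v hv
    obtain ⟨a, ha, hac⟩ := m.onto w hw
    exact ⟨_, ⟨a, ha, rfl⟩, by rw [hcmul (hWs ha) ha, hcs ha, hac, hwv]⟩
  choose! L hLU hLc using hex
  have hUs : ∀ u ∈ U, ks * u * ks⁻¹ ∈ U := by
    rintro _ ⟨x, hx, rfl⟩
    exact ⟨_, hWs hx, by group⟩
  have hUi : ∀ u ∈ U, ki * u * ki⁻¹ ∈ U := by
    rintro _ ⟨x, hx, rfl⟩
    have hy : ks⁻¹ * (ki * x * ki⁻¹) * ks⁻¹⁻¹ ∈ Wr H := conj_mem_Wr (inv_mem hks) (hWi hx)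
    refine ⟨_, hy, ?_⟩
    have e := m.conj_eq_of_rho (k := ki * ks) (l := ks⁻¹ * ki) (mul_mem hki hks) (mul_mem (inv_mem hks) hki) (by
      rw [m.rho_mul hki hks, m.rho_mul (inv_mem hks) hki, m.rho_inv hks, ei, es, fis]) hx
    calc ki * (ks * x * ks⁻¹ * x) * ki⁻¹ = ki * ks * x * (ki * ks)⁻¹ * (ki * x * ki⁻¹) := by group
      _ = ks⁻¹ * ki * x * (ks⁻¹ * ki)⁻¹ * (ki * x * ki⁻¹) := by rw [e]
      _ = (ki * x * ki⁻¹) * (ks⁻¹ * (ki * x * ki⁻¹) * ks⁻¹⁻¹) := by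
          rw [show ks⁻¹ * ki * x * (ks⁻¹ * ki)⁻¹ = ks⁻¹ * (ki * x * ki⁻¹) * ks⁻¹⁻¹ by group]
          exact m.comm hy (hWi hx)
      _ = _ := by group
  have hLW : ∀ v, ∑ i, v i = 0 → L v ∈ Wr H := fun v hv => hUW (hLU v hv)
  have hadd0 : ∀ {v w : Fin 5 → ZMod 2}, ∑ i, v i = 0 → ∑ i, w i = 0 → ∑ i, (v + w) i = 0 := fun hv hw => by
    simp only [Pi.add_apply, Finset.sum_add_distrib, hv, hw, add_zero]
  have hLadd : ∀ v w, ∑ i, v i = 0 → ∑ i, w i = 0 → L (v + w) = L v * L w := fun v w hv hw =>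
    huniq2 _ (hLU _ (hadd0 hv hw)) _ (U.mul_mem (hLU v hv) (hLU w hw))
      (by rw [hLc _ (hadd0 hv hw), hcmul (hLW v hv) (hLW w hw), hLc v hv, hLc w hw])
  have hLs : ∀ v, ∑ i, v i = 0 → ks * L v * ks⁻¹ = L (pv cyc5 v) := fun v hv =>
    huniq2 _ (hUs _ (hLU v hv)) _ (hLU _ (pv_sum _ v hv))
      (by rw [hcs (hLW v hv), hLc v hv, hLc _ (pv_sum _ v hv)])
  have hLi : ∀ v, ∑ i, v i = 0 → ki * L v * ki⁻¹ = L (pv inv5 v) := fun v hv =>
    huniq2 _ (hUi _ (hLU v hv)) _ (hLU _ (pv_sum _ v hv))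
      (by rw [hci (hLW v hv), hLc v hv, hLc _ (pv_sum _ v hv)])
  -- the defect
  set ψ : (Fin 5 → ZMod 2) → G := fun v => kt * L v * kt⁻¹ * L (pv tau v) with hψdef
  have hψZ : ∀ v, ∑ i, v i = 0 → ψ v ∈ Zr H := fun v hv => by
    have hv' := pv_sum tau v hv
    refine (m.zero_iff _ (mul_mem (hWt (hLW v hv)) (hLW _ hv'))).1 ?_
    rw [hcmul (hWt (hLW v hv)) (hLW _ hv'), hct (hLW v hv), hLc v hv, hLc _ hv']
    exact funext fun i => CharTwo.add_self_eq_zero _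
  have hfix : ∀ z ∈ Zr H, ∀ k ∈ Kr H, k * z * k⁻¹ = z := fun z hz k hk => by
    rw [(mem_Zr.1 hz).2 k hk, mul_inv_cancel_right]
  have hψadd : ∀ v w, ∑ i, v i = 0 → ∑ i, w i = 0 → ψ (v + w) = ψ v * ψ w := fun v w hv hw => by
    simp only [hψdef]
    rw [hLadd v w hv hw, pv_add, hLadd _ _ (pv_sum _ v hv) (pv_sum _ w hw)]
    calc kt * (L v * L w) * kt⁻¹ * (L (pv tau v) * L (pv tau w))
        = kt * L v * kt⁻¹ * (kt * L w * kt⁻¹ * L (pv tau v)) * L (pv tau w) := by group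
      _ = kt * L v * kt⁻¹ * (L (pv tau v) * (kt * L w * kt⁻¹)) * L (pv tau w) := by
          rw [m.comm (hWt (hLW w hw)) (hLW _ (pv_sum _ v hv))]
      _ = _ := by group
  have hψt : ∀ v, ∑ i, v i = 0 → ψ (pv tau v) = ψ v := fun v hv => by
    have h1 := hfix _ (hψZ v hv) kt hkt
    have h2 : pv tau (pv tau v) = v := by rw [← pv_mul, ftt, pv_one]
    have e := m.conj_eq_of_rho (k := kt * kt) (l := 1) (mul_mem hkt hkt) (one_mem _)
      (by rw [m.rho_mul hkt hkt, et, ftt]; exact (map_one m.ρ).symm) (hLW v hv)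
    conv_rhs => rw [← h1]
    show kt * L (pv tau v) * kt⁻¹ * L (pv tau (pv tau v)) = kt * (kt * L v * kt⁻¹ * L (pv tau v)) * kt⁻¹
    rw [h2, show kt * (kt * L v * kt⁻¹ * L (pv tau v)) * kt⁻¹ =
      kt * kt * L v * (kt * kt)⁻¹ * (kt * L (pv tau v) * kt⁻¹) by group, e, one_mul, inv_one, mul_one]
    exact m.comm (hWt (hLW _ (pv_sum _ v hv))) (hLW v hv)
  have hψi : ∀ v, ∑ i, v i = 0 → ψ (pv inv5 v) = ψ v := fun v hv => by
    have h1 := hfix _ (hψZ v hv) ki hki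
    have e := m.conj_eq_of_rho (k := ki * kt) (l := kt * ki) (mul_mem hki hkt) (mul_mem hkt hki)
      (by rw [m.rho_mul hki hkt, m.rho_mul hkt hki, et, ei, fit]) (hLW v hv)
    conv_rhs => rw [← h1]
    show kt * L (pv inv5 v) * kt⁻¹ * L (pv tau (pv inv5 v)) = ki * (kt * L v * kt⁻¹ * L (pv tau v)) * ki⁻¹
    rw [show ki * (kt * L v * kt⁻¹ * L (pv tau v)) * ki⁻¹ =
      ki * kt * L v * (ki * kt)⁻¹ * (ki * L (pv tau v) * ki⁻¹) by group, e, hLi _ (pv_sum _ v hv),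
      show kt * ki * L v * (kt * ki)⁻¹ = kt * (ki * L v * ki⁻¹) * kt⁻¹ by group, hLi v hv, ← pv_mul, ← pv_mul, fit]
  have hψ1 : ∀ v, ∑ i, v i = 0 → v 0 = 0 → ψ v = 1 := fun v hv h0 => by
    obtain ⟨y, hy, w, hw, rfl⟩ := aug_span v hv h0
    rw [hψadd _ _ (hadd0 hy (pv_sum _ y hy)) (hadd0 hw (pv_sum _ w hw)), hψadd _ _ hy (pv_sum _ y hy),
      hψadd _ _ hw (pv_sum _ w hw), hψt y hy, hψi w hw, m.sq _ (hψZ y hy).1, m.sq _ (hψZ w hw).1, mul_one]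
  -- the element of order three
  set g := ks * kt
  have hgm : g ∈ Kr H := mul_mem hks hkt
  have eg : m.ρ ⟨g, hgm⟩ = cyc5 * tau := by rw [m.rho_mul hks hkt, es, et]
  have hstep : ∀ v, ∑ i, v i = 0 → g * L v * g⁻¹ = ψ v * L (pv (cyc5 * tau) v) := fun v hv => by
    have hv' := pv_sum tau v hv
    have e1 : kt * L v * kt⁻¹ = ψ v * L (pv tau v) := by
      simp only [hψdef]
      rw [mul_assoc (kt * L v * kt⁻¹), m.sq _ (hLW _ hv'), mul_one]
    calc g * L v * g⁻¹ = ks * (kt * L v * kt⁻¹) * ks⁻¹ := by simp only [g]; group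
      _ = ks * (ψ v * L (pv tau v)) * ks⁻¹ := by rw [e1]
      _ = ks * ψ v * ks⁻¹ * (ks * L (pv tau v) * ks⁻¹) := by group
      _ = _ := by rw [hfix _ (hψZ v hv) ks hks, hLs _ hv', ← pv_mul]
  obtain ⟨pe, p0, p1, p2, p3⟩ := probe_facts
  have pe1 := pv_sum (cyc5 * tau) probe pe
  have pe2 := pv_sum (cyc5 * tau) _ pe1
  have hψprobe : ψ probe = 1 := by
    have e3 := m.conj_eq_of_rho (k := g * g * g) (l := 1) (mul_mem (mul_mem hgm hgm) hgm) (one_mem _)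
      (by rw [m.rho_mul (mul_mem hgm hgm) hgm, m.rho_mul hgm hgm, eg, fg]; exact (map_one m.ρ).symm) (hLW _ pe)
    rw [one_mul, inv_one, mul_one, show g * g * g * L probe * (g * g * g)⁻¹ = g * (g * (g * L probe * g⁻¹) * g⁻¹) * g⁻¹
      by group, hstep _ pe] at e3
    rw [show g * (ψ probe * L (pv (cyc5 * tau) probe)) * g⁻¹ = g * ψ probe * g⁻¹ * (g * L (pv (cyc5 * tau) probe) * g⁻¹)
      by group, hfix _ (hψZ _ pe) g hgm, hstep _ pe1, hψ1 _ pe1 p1, one_mul] at e3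
    rw [show g * (ψ probe * L (pv (cyc5 * tau) (pv (cyc5 * tau) probe))) * g⁻¹ =
      g * ψ probe * g⁻¹ * (g * L (pv (cyc5 * tau) (pv (cyc5 * tau) probe)) * g⁻¹)
      by group, hfix _ (hψZ _ pe) g hgm, hstep _ pe2, hψ1 _ pe2 p2, one_mul, p3] at e3
    exact mul_eq_right.1 e3
  have hψall : ∀ v, ∑ i, v i = 0 → ψ v = 1 := fun v hv => by
    rcases (show ∀ r : ZMod 2, r = 0 ∨ r = 1 by decide) (v 0) with h | h
    · exact hψ1 v hv h
    · have h1 := hψ1 _ (hadd0 hv pe) (by rw [Pi.add_apply, h, p0]; exact CharTwo.add_self_eq_zero 1)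
      rwa [hψadd v probe hv pe, hψprobe, mul_one] at h1
  have hUt : ∀ u ∈ U, kt * u * kt⁻¹ ∈ U := fun u hu => by
    have hv := m.sum u (hUW hu)
    have hu' : u = L (m.c u) := huniq2 u hu _ (hLU _ hv) (hLc _ hv).symm
    have h1 : kt * u * kt⁻¹ * L (pv tau (m.c u)) = 1 := by
      have h2 : kt * L (m.c u) * kt⁻¹ * L (pv tau (m.c u)) = 1 := hψall _ hv
      rwa [← hu'] at h2
    rw [mul_eq_one_iff_eq_inv.1 h1]
    exact inv_mem (hLU _ (pv_sum _ _ hv))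
  have hKU : Kr H ≤ normalizer (U : Set G) := m.Kr_le_of_gens
    (fun w hw => mem_norm_of_conj fun u hu => by rw [m.comm hw (hUW hu), mul_inv_cancel_right]; exact hu)
    hks hkt es et (mem_norm_of_conj hUs) (mem_norm_of_conj hUt)
  have hWU : Wr H ≤ U := m.wk.trans (commutator_le.2 fun k hk w hw => by
    have hv := m.sum w hw
    set u := L (m.c w)
    have hz : w * u ∈ Zr H := (m.zero_iff _ (mul_mem hw (hLW _ hv))).1 (by
      rw [hcmul hw (hLW _ hv), hLc _ hv]; exact funext fun i => CharTwo.add_self_eq_zero _)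
    have hw' : w = w * u * u := by rw [mul_assoc, m.sq _ (hLW _ hv), mul_one]
    have e : k * w * k⁻¹ = w * u * (k * u * k⁻¹) := by
      conv_lhs => rw [hw', show k * (w * u * u) * k⁻¹ = k * (w * u) * k⁻¹ * (k * u * k⁻¹) by group, hfix _ hz k hk]
    rw [commutatorElement_def, e, m.comm hz.1 (conj_mem_Wr hk (hLW _ hv))]
    rw [show k * u * k⁻¹ * (w * u) * w⁻¹ = k * u * k⁻¹ * (w * u * w⁻¹) by group, m.comm hw (hLW _ hv), mul_inv_cancel_right]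
    exact U.mul_mem ((conj_mem_iff (hKU hk)).2 (hLU _ hv)) (hLU _ hv))
  exact eq_bot_iff.2 fun z hz => mem_bot.2 (huniq z (hWU hz.1) ((m.zero_iff z hz.1).2 hz))

theorem c_inj (s : Setup H T) {a b : G} (ha : a ∈ Wr H) (hb : b ∈ Wr H) (h : m.c a = m.c b) : a = b := by
  have hz : a * b ∈ Zr H := (m.zero_iff _ (mul_mem ha hb)).1 (by
    rw [m.add a ha b hb, h]; exact funext fun i => CharTwo.add_self_eq_zero _)
  rw [m.Zr_eq_bot s, mem_bot] at hz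
  rw [mul_eq_one_iff_eq_inv.1 hz, inv_of_sq m.sq hb]

theorem eq_one_of_c (s : Setup H T) {a : G} (ha : a ∈ Wr H) (h : m.c a = 0) : a = 1 :=
  m.c_inj s ha (one_mem _) (h.trans m.c_one.symm)

include m in
/-- **the core splits over the module** -/
theorem core_split (s : Setup H T) {q : G} (hq : q ∈ Qr H) : ∃ w ∈ Wr H, q * w ∈ Dr H := by
  obtain ⟨fs, ft, fi, ftt, -, fit, fis, fg⟩ := basic_facts
  obtain ⟨ks, hks, es⟩ := m.lift fs
  obtain ⟨kt, hkt, et⟩ := m.lift ft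
  obtain ⟨ki, hki, ei⟩ := m.lift fi
  have hQW := s.Q_comm_W (fun a ha b hb => m.comm ha hb) m.good.ne m.wk m.irred
  have hφmem : ∀ v : ↥(Wr H), (v : G) * (ks * (v : G) * ks⁻¹) ∈ Wr H := fun v =>
    mul_mem v.2 (conj_mem_Wr hks v.2)
  let φ : ↥(Wr H) → ↥(Wr H) := fun v => ⟨_, hφmem v⟩
  have hφ : Function.Injective φ := fun a b e => by
    have e' : (a : G) * (ks * a * ks⁻¹) = b * (ks * b * ks⁻¹) := congrArg Subtype.val e
    have h1 := congrArg m.c e'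
    rw [m.add _ a.2 _ (conj_mem_Wr hks a.2), m.add _ b.2 _ (conj_mem_Wr hks b.2), m.c_act hks a.2, m.c_act hks b.2,
      es] at h1
    refine Subtype.ext (m.c_inj s a.2 b.2 ?_)
    have h2 := cyc5_fix (m.c a + m.c b)
      (by simp only [Pi.add_apply, Finset.sum_add_distrib, m.sum _ a.2, m.sum _ b.2, add_zero]) (by
        rw [pv_add]
        funext i
        have h3 := congrFun h1 i
        simp only [Pi.add_apply] at h3 ⊢
        linear_combination h3 + (pv cyc5 (m.c b) i - m.c a i) * CharTwo.two_eq_zero (R := ZMod 2))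
    exact funext fun i => CharTwo.add_eq_zero.1 (congrFun h2 i)
  have hδ : ∀ k ∈ Kr H, q * k * q⁻¹ * k⁻¹ ∈ Wr H := (Qr_le_centPart H hq).2
  obtain ⟨⟨w, hw⟩, hwe⟩ := Finite.surjective_of_injective hφ ⟨_, hδ ks hks⟩
  have hwe' : w * (ks * w * ks⁻¹) = q * ks * q⁻¹ * ks⁻¹ := congrArg Subtype.val hwe
  refine ⟨w, hw, ?_⟩
  set q' := q * w with hq'
  have hq'Q : q' ∈ Qr H := mul_mem hq (Wr_le_Qr H hw)
  have hqW : ∀ u ∈ Wr H, q' * u = u * q' := hQW q' hq'Q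
  have hs : q' * ks = ks * q' := by
    calc q' * ks = w * q * ks := by rw [hq', hQW q hq w hw]
      _ = w * (q * ks * q⁻¹ * ks⁻¹) * ks * q := by group
      _ = w * w * (ks * w * q) := by rw [← hwe']; group
      _ = ks * q' := by rw [m.sq w hw, one_mul, hq', hQW q hq w hw, mul_assoc]
  have hδ' : ∀ k ∈ Kr H, q' * k * q'⁻¹ * k⁻¹ ∈ Wr H := (Qr_le_centPart H hq'Q).2
  -- the dihedral group of order ten centralises it
  have hi : q' * ki = ki * q' := by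
    set x := q' * ki * q'⁻¹ * ki⁻¹ with hx
    have hxW : x ∈ Wr H := hδ' ki hki
    have hl : ki * ks * ki⁻¹ ∈ Kr H := mul_mem (mul_mem hki hks) (inv_mem hki)
    have hw0 : ks * (ki * ks * ki⁻¹) ∈ Wr H := (m.ker _ (mul_mem hks hl)).1 (by
      rw [m.rho_mul hks hl, m.rho_mul (mul_mem hki hks) (inv_mem hki), m.rho_mul hki hks, m.rho_inv hki, ei, es, fis,
        mul_inv_cancel_right, mul_inv_cancel])
    have hql : q' * (ki * ks * ki⁻¹) = ki * ks * ki⁻¹ * q' := by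
      have h1 := hqW _ hw0
      calc q' * (ki * ks * ki⁻¹) = ks⁻¹ * (ks * q') * (ki * ks * ki⁻¹) := by group
        _ = ks⁻¹ * (q' * (ks * (ki * ks * ki⁻¹))) := by rw [← hs]; group
        _ = ki * ks * ki⁻¹ * q' := by rw [h1]; group
    have hxl : x * (ki * ks * ki⁻¹) = ki * ks * ki⁻¹ * x := by
      have e2 : ki * q' * ki⁻¹ * (ki * ks * ki⁻¹) = ki * ks * ki⁻¹ * (ki * q' * ki⁻¹) := by
        rw [show ki * q' * ki⁻¹ * (ki * ks * ki⁻¹) = ki * (q' * ks) * ki⁻¹ by group, hs]; group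
      have e3 : (ki * q' * ki⁻¹)⁻¹ * (ki * ks * ki⁻¹) = ki * ks * ki⁻¹ * (ki * q' * ki⁻¹)⁻¹ := by
        rw [inv_mul_eq_iff_eq_mul, ← mul_assoc, e2, mul_inv_cancel_right]
      rw [show x = q' * (ki * q' * ki⁻¹)⁻¹ by rw [hx]; group, mul_assoc, e3, ← mul_assoc, hql, mul_assoc]
    have hc : pv cyc5⁻¹ (m.c x) = m.c x := by
      have h1 := m.c_act hl hxW
      rw [← hxl, mul_inv_cancel_right, m.rho_mul (mul_mem hki hks) (inv_mem hki), m.rho_mul hki hks, m.rho_inv hki,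
        ei, es, fis, mul_inv_cancel_right] at h1
      exact h1.symm
    have hx1 := m.eq_one_of_c s hxW (cyc5_inv_fix _ (m.sum _ hxW) hc)
    rw [hx, mul_inv_eq_one, mul_inv_eq_iff_eq_mul] at hx1
    exact hx1
  have ht : q' * kt = kt * q' := by
    set x := q' * kt * q'⁻¹ * kt⁻¹ with hx
    have hxW : x ∈ Wr H := hδ' kt hkt
    have hkq : kt * q' * kt⁻¹ = x⁻¹ * q' := by rw [hx]; group
    -- `x` is fixed by the two double transpositions
    have hxt : pv tau (m.c x) = m.c x := by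
      have hk2 : kt * kt ∈ Wr H := (m.ker _ (mul_mem hkt hkt)).1 (by rw [m.rho_mul hkt hkt, et, ftt])
      have h1 : kt * x⁻¹ * kt⁻¹ * x⁻¹ = 1 := by
        have h2 : kt * (kt * q' * kt⁻¹) * kt⁻¹ = q' := by
          rw [show kt * (kt * q' * kt⁻¹) * kt⁻¹ = kt * kt * q' * (kt * kt)⁻¹ by group, ← hqW _ hk2, mul_inv_cancel_right]
        rw [hkq, show kt * (x⁻¹ * q') * kt⁻¹ = kt * x⁻¹ * kt⁻¹ * (kt * q' * kt⁻¹) by group, hkq, ← mul_assoc,
          mul_eq_right] at h2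
        exact h2
      have h3 := congrArg m.c h1
      rw [m.add _ (conj_mem_Wr hkt (inv_mem hxW)) _ (inv_mem hxW), m.c_act hkt (inv_mem hxW), et, m.c_inv hxW,
        m.c_one] at h3
      exact funext fun i => CharTwo.add_eq_zero.1 (congrFun h3 i)
    have hxi : pv inv5 (m.c x) = m.c x := by
      have hw0 : kt⁻¹ * (ki * kt * ki⁻¹) ∈ Wr H := m.mem_W_of_rho (mul_mem (mul_mem hki hkt) (inv_mem hki)) hkt (by
        rw [m.rho_mul (mul_mem hki hkt) (inv_mem hki), m.rho_mul hki hkt, m.rho_inv hki, et, ei, fit,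
          mul_inv_cancel_right])
      have hiq : ki * q' * ki⁻¹ = q' := by rw [← hi, mul_inv_cancel_right]
      set u := kt⁻¹ * (ki * kt * ki⁻¹) with hu
      have hiqi : ki⁻¹ * q' * ki = q' := by
        conv_lhs => rw [← hiq]
        group
      have h1 : ki * x⁻¹ * ki⁻¹ = x⁻¹ := by
        refine mul_right_cancel (b := q') ?_
        calc ki * x⁻¹ * ki⁻¹ * q' = ki * (x⁻¹ * (ki⁻¹ * q' * ki)) * ki⁻¹ := by group
          _ = ki * (kt * q' * kt⁻¹) * ki⁻¹ := by rw [hiqi, hkq]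
          _ = kt * u * (ki * q' * ki⁻¹) * u⁻¹ * kt⁻¹ := by rw [hu]; group
          _ = kt * (u * q') * u⁻¹ * kt⁻¹ := by rw [hiq, mul_assoc kt u q']
          _ = kt * (q' * u) * u⁻¹ * kt⁻¹ := by rw [hqW u hw0]
          _ = x⁻¹ * q' := by rw [← hkq]; group
      have h2 := congrArg m.c h1
      rwa [m.c_act hki (inv_mem hxW), ei, m.c_inv hxW] at h2
    -- the element of order three
    set g := ks * kt with hg
    have hgm : g ∈ Kr H := mul_mem hks hkt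
    have eg : m.ρ ⟨g, hgm⟩ = cyc5 * tau := by rw [m.rho_mul hks hkt, es, et]
    set y := ks * x⁻¹ * ks⁻¹ with hy
    have hyW : y ∈ Wr H := conj_mem_Wr hks (inv_mem hxW)
    have hgq : g * q' * g⁻¹ = y * q' := by
      calc g * q' * g⁻¹ = ks * (kt * q' * kt⁻¹) * ks⁻¹ := by rw [hg]; group
        _ = ks * x⁻¹ * (q' * ks⁻¹) := by rw [hkq]; group
        _ = ks * x⁻¹ * (ks⁻¹ * q') := by
            rw [show q' * ks⁻¹ = ks⁻¹ * q' by rw [eq_inv_mul_iff_mul_eq, ← mul_assoc, ← hs, mul_inv_cancel_right]]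
        _ = y * q' := by rw [hy]; group
    have hg3 : g * g * g ∈ Wr H := (m.ker _ (mul_mem (mul_mem hgm hgm) hgm)).1 (by
      rw [m.rho_mul (mul_mem hgm hgm) hgm, m.rho_mul hgm hgm, eg, fg])
    have h5 : g * g * y * (g * g)⁻¹ * (g * y * g⁻¹) * y = 1 := by
      have h6 : g * g * g * q' * (g * g * g)⁻¹ = q' := by rw [← hqW _ hg3, mul_inv_cancel_right]
      rw [show g * g * g * q' * (g * g * g)⁻¹ = g * (g * (g * q' * g⁻¹) * g⁻¹) * g⁻¹ by group, hgq,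
        show g * (g * (y * q') * g⁻¹) * g⁻¹ = g * g * y * (g * g)⁻¹ * (g * (g * q' * g⁻¹) * g⁻¹) by group, hgq,
        show g * (y * q') * g⁻¹ = g * y * g⁻¹ * (g * q' * g⁻¹) by group, hgq, ← mul_assoc, ← mul_assoc,
        mul_eq_right] at h6
      exact h6
    have hggy : g * g * y * (g * g)⁻¹ ∈ Wr H := conj_mem_Wr (mul_mem hgm hgm) hyW
    have h6 := congrArg m.c h5
    rw [m.add _ (mul_mem hggy (conj_mem_Wr hgm hyW)) _ hyW, m.add _ hggy _ (conj_mem_Wr hgm hyW),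
      m.c_act (mul_mem hgm hgm) hyW, m.c_act hgm hyW, m.rho_mul hgm hgm, eg, hy, m.c_act hks (inv_mem hxW), es,
      m.c_inv hxW, m.c_one] at h6
    have hx1 := m.eq_one_of_c s hxW (norm_obstruction _ (m.sum _ hxW) hxt hxi h6)
    rw [hx, mul_inv_eq_one, mul_inv_eq_iff_eq_mul] at hx1
    exact hx1
  refine mem_Dr.2 ⟨hq'Q, fun k hk => ?_⟩
  have hle : Kr H ≤ centralizer ({q'} : Set G) := m.Kr_le_of_gens
    (fun u hu => mem_centralizer_singleton_iff.2 (hqW u hu).symm) hks hkt es et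
    (mem_centralizer_singleton_iff.2 hs.symm) (mem_centralizer_singleton_iff.2 ht.symm)
  exact mem_centralizer_singleton_iff.1 (hle hk)

end PermMod

end Cfsg.Lib.PushPair
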