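import Cfsg.Agent.PushPair.PermBase

/-!
# The permutation module: the action of the normaliser, the moved module, and the core
-/

set_option autoImplicit false
set_option linter.style.haveILetI false
set_option maxRecDepth 20000

namespace Cfsg.Lib.PushPair

open Subgroup
open Cfsg.Lib.LTP (cjg)
open scoped commutatorElement

namespace Five

open Equiv

/-- a double transposition fixing the last point -/
def Dbl (p : Perm (Fin 5)) : Prop := IsFour p ∧ p ≠ 1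

/-- a transposition fixing the last point -/
def Trs (p : Perm (Fin 5)) : Prop := ¬ IsFour p ∧ p * p = 1 ∧ p 4 = 4

instance : DecidablePred IsFour := fun p => by unfold IsFour; infer_instance
instance : DecidablePred Dbl := fun p => by unfold Dbl; infer_instance
instance : DecidablePred Trs := fun p => by unfold Trs; infer_instance

/-- the first double transposition fixing the last point -/
def dbl0 : Perm (Fin 5) := swap 0 1 * swap 2 3
/-- the second double transposition fixing the last point -/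
def dbl1 : Perm (Fin 5) := swap 0 2 * swap 1 3

theorem dbl_facts : IsFour dbl0 ∧ IsFour dbl1 ∧ IsFour (dbl0 * dbl1) ∧ dbl0 ≠ 1 ∧ dbl1 ≠ 1 ∧ dbl0 ≠ dbl1 ∧
    dbl0 * dbl1 ≠ 1 ∧ dbl0 * dbl1 = dbl1 * dbl0 ∧ dbl0 * dbl0 = 1 ∧ dbl1 * dbl1 = 1 := by
  decide +kernel

theorem four_cases : ∀ p : Perm (Fin 5), ¬ IsFour p ∨ p = 1 ∨ p = dbl0 ∨ p = dbl1 ∨ p = dbl0 * dbl1 := by
  decide +kernel

theorem fix_unique : ∀ i : Fin 5, dbl0 i = i → i = 4 := by decide +kernel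

theorem invol_fixing : ∀ p : Perm (Fin 5), p * p = 1 → p 4 = 4 → p = 1 ∨ Dbl p ∨
    (Trs p ∧ ∃ ν : Perm (Fin 5), IsFour ν ∧ Dbl (ν * p * ν⁻¹ * p)) := by
  decide +kernel

theorem dbl_pair : ∀ p q : Perm (Fin 5), Dbl p → Dbl q → p ≠ q → ∃ v : Fin 5 → ZMod 2, ∑ l, v l = 0 ∧
    pv q (pv p v + v) ≠ pv p v + v := by
  decide +kernel

theorem dbl_fixed : ∀ p : Perm (Fin 5), Dbl p →
    (Finset.univ.filter fun v : Fin 5 → ZMod 2 => ∑ l, v l = 0 ∧ pv p v = v).card ≤ 4 := by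
  decide +kernel

theorem even_card : (Finset.univ.filter fun v : Fin 5 → ZMod 2 => ∑ l, v l = 0).card = 16 := by decide +kernel

set_option synthInstance.maxSize 1024 in
theorem trs_pair : ∀ p : Perm (Fin 5), Trs p → ∀ ν : Perm (Fin 5), IsFour ν → Dbl (ν * p * ν⁻¹ * p) →
    ∃ v : Fin 5 → ZMod 2, ∑ l, v l = 0 ∧ ∃ v' : Fin 5 → ZMod 2, ∑ l, v' l = 0 ∧ pv p v + v ≠ 0 ∧
      pv (ν * p * ν⁻¹) v' + v' ≠ 0 ∧ pv p v + v ≠ pv (ν * p * ν⁻¹) v' + v' ∧
      pv p v + v + (pv (ν * p * ν⁻¹) v' + v') = quad 4 := by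
  decide +kernel

theorem four_fixed : ∀ v : Fin 5 → ZMod 2, ∑ l, v l = 0 → pv dbl0 v = v → pv dbl1 v = v → v = 0 ∨ v = quad 4 := by
  decide +kernel

theorem quad_four_fix : ∀ p : Perm (Fin 5), p 4 = 4 → pv p (quad 4) = quad 4 := by decide +kernel

theorem trs_three : ∀ p : Perm (Fin 5), Trs p → ∃ c : Perm (Fin 5), Perm.sign c = 1 ∧ c 4 = 4 ∧
    c * p * c⁻¹ * p ≠ p * (c * p * c⁻¹) := by
  decide +kernel

end Five

open Five

variable {G : Type*} [Group G] [Finite G]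

namespace PermMod

variable {H T : Subgroup G} (m : PermMod H T)

/-- a vector of weight four, characterised inside the group -/
theorem quad_iff (s : Setup H T) {a : G} (ha : a ∈ Wr H) :
    (∃ i, m.c a = quad i) ↔ a ≠ 1 ∧ ∃ k ∈ Kr H, ∃ l ∈ Kr H, k ∉ Wr H ∧ l ∉ Wr H ∧ k * k ∈ Wr H ∧ l * l ∈ Wr H ∧
      l⁻¹ * k ∉ Wr H ∧ k * l * k⁻¹ * l⁻¹ ∈ Wr H ∧ k * a * k⁻¹ = a ∧ l * a * l⁻¹ = a := by
  constructor
  · rintro ⟨i, hi⟩
    refine ⟨fun e => quad_ne i (by rw [← hi, e]; exact m.c_one), ?_⟩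
    obtain ⟨σ, -, τ, -, s1, t1, hne, s2, t2, hc, se, te, fs, ft⟩ := two_fixing i
    obtain ⟨k, hk, ek⟩ := m.lift se
    obtain ⟨l, hl, el⟩ := m.lift te
    refine ⟨k, hk, l, hl, fun h => s1 (ek ▸ (m.ker k hk).2 h), fun h => t1 (el ▸ (m.ker l hl).2 h),
      (m.ker _ (mul_mem hk hk)).1 (by rw [m.rho_mul hk hk, ek, s2]),
      (m.ker _ (mul_mem hl hl)).1 (by rw [m.rho_mul hl hl, el, t2]), fun h => hne ?_,
      (m.ker _ (mul_mem (mul_mem (mul_mem hk hl) (inv_mem hk)) (inv_mem hl))).1 ?_,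
      m.c_inj s (conj_mem_Wr hk ha) ha (by rw [m.c_act hk ha, ek, hi, fs]),
      m.c_inj s (conj_mem_Wr hl ha) ha (by rw [m.c_act hl ha, el, hi, ft])⟩
    · have h1 := (m.ker _ (mul_mem (inv_mem hl) hk)).2 h
      rw [m.rho_mul (inv_mem hl) hk, m.rho_inv hl, ek, el, inv_mul_eq_one] at h1
      exact h1.symm
    · rw [m.rho_mul (mul_mem (mul_mem hk hl) (inv_mem hk)) (inv_mem hl), m.rho_mul (mul_mem hk hl) (inv_mem hk),
        m.rho_mul hk hl, m.rho_inv hk, m.rho_inv hl, ek, el, hc, mul_inv_cancel_right, mul_inv_cancel]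
  · rintro ⟨ha1, k, hk, l, hl, k1, l1, k2, l2, hne, hc, fk, fl⟩
    have ek1 : m.ρ ⟨k, hk⟩ ≠ 1 := fun h => k1 ((m.ker k hk).1 h)
    have el1 : m.ρ ⟨l, hl⟩ ≠ 1 := fun h => l1 ((m.ker l hl).1 h)
    have ek2 : m.ρ ⟨k, hk⟩ * m.ρ ⟨k, hk⟩ = 1 := by rw [← m.rho_mul hk hk]; exact (m.ker _ _).2 k2
    have el2 : m.ρ ⟨l, hl⟩ * m.ρ ⟨l, hl⟩ = 1 := by rw [← m.rho_mul hl hl]; exact (m.ker _ _).2 l2
    have hc' := (m.ker _ (mul_mem (mul_mem (mul_mem hk hl) (inv_mem hk)) (inv_mem hl))).2 hc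
    rw [m.rho_mul (mul_mem (mul_mem hk hl) (inv_mem hk)) (inv_mem hl), m.rho_mul (mul_mem hk hl) (inv_mem hk),
      m.rho_mul hk hl, m.rho_inv hk, m.rho_inv hl, mul_inv_eq_one, mul_inv_eq_iff_eq_mul] at hc'
    have fk' := congrArg m.c fk
    rw [m.c_act hk ha] at fk'
    have fl' := congrArg m.c fl
    rw [m.c_act hl ha] at fl'
    exact fixed_by_two _ (mem_invols _ (m.even _) ek2 ek1) _ (mem_invols _ (m.even _) el2 el1)
      (fun h => hne (m.mem_W_of_rho hk hl h)) hc' _ (m.sum a ha) (fun h => ha1 (m.eq_one_of_c s ha h)) fk' fl'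

/-- **the normaliser of the residual permutes the five points** -/
theorem exists_sig (s : Setup H T) : ∃ sg : G → Equiv.Perm (Fin 5),
    (∀ x ∈ Mr H, ∀ a ∈ Wr H, m.c (x * a * x⁻¹) = pv (sg x) (m.c a)) ∧
      (∀ x ∈ Mr H, ∀ y ∈ Mr H, sg (x * y) = sg x * sg y) ∧ ∀ k (hk : k ∈ Kr H), sg k = m.ρ ⟨k, hk⟩ := by
  classical
  choose A hAW hAc using fun i => m.onto (quad i) (quad_sum i)
  have hcW : ∀ {x a : G}, x ∈ Mr H → a ∈ Wr H → x * a * x⁻¹ ∈ Wr H := fun hx ha =>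
    (conj_mem_iff (Mr_norm_Wr H hx)).2 ha
  have himg : ∀ x ∈ Mr H, ∀ i, ∃ j, m.c (x * A i * x⁻¹) = quad j := fun x hx i => by
    obtain ⟨ha1, k, hk, l, hl, k1, l1, k2, l2, hne, hc, fk, fl⟩ := (m.quad_iff s (hAW i)).1 ⟨i, hAc i⟩
    have hW : ∀ {u : G}, x * u * x⁻¹ ∈ Wr H ↔ u ∈ Wr H := conj_mem_iff (Mr_norm_Wr H hx)
    refine (m.quad_iff s (hcW hx (hAW i))).2 ⟨fun e => ha1 ?_, x * k * x⁻¹, (conj_mem_iff hx).2 hk, x * l * x⁻¹,
      (conj_mem_iff hx).2 hl, fun h => k1 (hW.1 h), fun h => l1 (hW.1 h), ?_, ?_, fun h => hne (hW.1 ?_), ?_, ?_, ?_⟩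
    · rwa [mul_inv_eq_one, mul_eq_left] at e
    · rw [show x * k * x⁻¹ * (x * k * x⁻¹) = x * (k * k) * x⁻¹ by group]; exact hW.2 k2
    · rw [show x * l * x⁻¹ * (x * l * x⁻¹) = x * (l * l) * x⁻¹ by group]; exact hW.2 l2
    · rwa [show x * (l⁻¹ * k) * x⁻¹ = (x * l * x⁻¹)⁻¹ * (x * k * x⁻¹) by group]
    · rw [show x * k * x⁻¹ * (x * l * x⁻¹) * (x * k * x⁻¹)⁻¹ * (x * l * x⁻¹)⁻¹ = x * (k * l * k⁻¹ * l⁻¹) * x⁻¹ by group]
      exact hW.2 hc
    · conv_rhs => rw [← fk]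
      group
    · conv_rhs => rw [← fl]
      group
  choose! f hf using himg
  have hinj : ∀ x ∈ Mr H, Function.Injective (f x) := fun x hx i j h => by
    have e := m.c_inj s (hcW hx (hAW i)) (hcW hx (hAW j)) (by rw [hf x hx i, hf x hx j, h])
    refine quad_inj i j ?_
    rw [← hAc i, ← hAc j, mul_left_cancel (mul_right_cancel e)]
  let sg : G → Equiv.Perm (Fin 5) := fun x => if hx : x ∈ Mr H then
    Equiv.ofBijective (f x) (Finite.injective_iff_bijective.1 (hinj x hx)) else 1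
  have hsg : ∀ x ∈ Mr H, ∀ i, sg x i = f x i := fun x hx i => by
    simp only [sg, dif_pos hx, Equiv.ofBijective_apply]
  have hact : ∀ x ∈ Mr H, ∀ a ∈ Wr H, m.c (x * a * x⁻¹) = pv (sg x) (m.c a) := by
    intro x hx a ha
    have hadd : ∀ u ∈ Wr H, ∀ w ∈ Wr H, m.c (x * (u * w) * x⁻¹) = m.c (x * u * x⁻¹) + m.c (x * w * x⁻¹) :=
      fun u hu w hw => by
        rw [← m.add _ (hcW hx hu) _ (hcW hx hw), show x * u * x⁻¹ * (x * w * x⁻¹) = x * (u * w) * x⁻¹ by group]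
    let B : Fin 5 → G := fun i => if m.c a i = 1 then A i else 1
    have hB : ∀ i, B i ∈ Wr H := fun i => by simp only [B]; split; exacts [hAW i, one_mem _]
    have hBc : ∀ i, m.c (B i) = m.c a i • quad i ∧ m.c (x * B i * x⁻¹) = m.c a i • quad (f x i) := fun i => by
      rcases (show ∀ r : ZMod 2, r = 0 ∨ r = 1 by decide) (m.c a i) with h | h
      · simp [B, h, m.c_one]
      · simp [B, h, hAc i, hf x hx i]
    have e : a = B 0 * B 1 * B 2 * B 3 * B 4 := by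
      refine m.c_inj s ha (mul_mem (mul_mem (mul_mem (mul_mem (hB 0) (hB 1)) (hB 2)) (hB 3)) (hB 4)) ?_
      rw [m.add _ (mul_mem (mul_mem (mul_mem (hB 0) (hB 1)) (hB 2)) (hB 3)) _ (hB 4),
        m.add _ (mul_mem (mul_mem (hB 0) (hB 1)) (hB 2)) _ (hB 3), m.add _ (mul_mem (hB 0) (hB 1)) _ (hB 2),
        m.add _ (hB 0) _ (hB 1), (hBc 0).1, (hBc 1).1, (hBc 2).1, (hBc 3).1, (hBc 4).1]
      exact quad_expand _ (m.sum a ha)
    funext j
    obtain ⟨l, rfl⟩ := (sg x).surjective j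
    conv_lhs => rw [e]
    rw [hadd _ (mul_mem (mul_mem (mul_mem (hB 0) (hB 1)) (hB 2)) (hB 3)) _ (hB 4),
      hadd _ (mul_mem (mul_mem (hB 0) (hB 1)) (hB 2)) _ (hB 3), hadd _ (mul_mem (hB 0) (hB 1)) _ (hB 2),
      hadd _ (hB 0) _ (hB 1), (hBc 0).2, (hBc 1).2, (hBc 2).2, (hBc 3).2, (hBc 4).2, hsg x hx l,
      quad_span _ (hinj x hx) _ (m.sum a ha) l]
    show m.c a l = m.c a ((sg x)⁻¹ (f x l))
    rw [← hsg x hx l]
    simp
  -- the action determines the permutation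
  have huni : ∀ p q : Equiv.Perm (Fin 5), (∀ a ∈ Wr H, pv p (m.c a) = pv q (m.c a)) → p = q := fun p q h => by
    have h0 : ∀ i, p⁻¹ i = q⁻¹ i := fun i => by
      have h1 := congrFun (h _ (hAW (p⁻¹ i))) i
      rw [hAc] at h1
      by_contra hne
      simp [pv, quad, Ne.symm hne] at h1
      exact hne h1.symm
    exact inv_injective (Equiv.ext h0)
  refine ⟨sg, hact, fun x hx y hy => huni _ _ fun a ha => ?_, fun k hk => huni _ _ fun a ha => ?_⟩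
  · rw [← hact _ (mul_mem hx hy) a ha, pv_mul, ← hact y hy a ha, ← hact x hx _ (hcW hy ha),
      show x * y * a * (x * y)⁻¹ = x * (y * a * y⁻¹) * x⁻¹ by group]
  · rw [← hact k (le_Mr H (Kr_le H hk)) a ha, m.c_act hk ha]

end PermMod

/-- the standing data of the permutation case -/
structure PermCtx (H T : Subgroup G) where
  /-- the hypotheses -/
  su : Setup H T
  /-- the module -/
  m : PermMod H T
  /-- the permutation induced by an element of the normaliser -/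
  sg : G → Equiv.Perm (Fin 5)
  act : ∀ x ∈ Mr H, ∀ a ∈ Wr H, m.c (x * a * x⁻¹) = pv (sg x) (m.c a)
  mul : ∀ x ∈ Mr H, ∀ y ∈ Mr H, sg (x * y) = sg x * sg y
  onK : ∀ k (hk : k ∈ Kr H), sg k = m.ρ ⟨k, hk⟩

/-- a nontrivial subgroup normalised by a Sylow group of `H` has a nontrivial point fixed by it -/
theorem Setup.exists_fixed {H T : Subgroup G} (s : Setup H T) {P : Subgroup G} (hPT : P ≤ T) (hne : P ≠ ⊥)
    (hTn : T ≤ normalizer (P : Set G)) : ∃ z ∈ P, z ≠ 1 ∧ ∀ t ∈ T, t * z = z * t := by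
  haveI : Fact (Nat.Prime 2) := ⟨Nat.prime_two⟩
  haveI := s.T_two.isNilpotent
  haveI : Nontrivial ↥P := (Subgroup.nontrivial_iff_ne_bot P).2 hne
  haveI : (P.subgroupOf T).Normal := normal_subgroupOf_of_le_normalizer hTn
  haveI : Nontrivial ↥(P.subgroupOf T) := (subgroupOfEquivOfLe hPT).toEquiv.nontrivial
  have h := Cfsg.Lib.Coprime.inf_center_ne_bot (P.subgroupOf T)
    ((Subgroup.nontrivial_iff_ne_bot _).1 inferInstance)
  obtain ⟨⟨z, hz⟩, hzm⟩ := (Subgroup.nontrivial_iff_exists_ne_one _).1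
    ((Subgroup.nontrivial_iff_ne_bot _).2 h)
  exact ⟨z, mem_subgroupOf.1 (mem_inf.1 hzm.1).1, fun e => hzm.2 (Subtype.ext e), fun t ht =>
    congrArg Subtype.val (mem_center_iff.1 (mem_inf.1 hzm.1).2 ⟨t, ht⟩)⟩

namespace PermCtx

variable {H T : Subgroup G} (C : PermCtx H T)
include C

theorem sg_one : C.sg 1 = 1 := by
  have h := C.mul 1 (one_mem _) 1 (one_mem _)
  rw [mul_one] at h
  exact left_eq_mul.1 h

theorem sg_inv {x : G} (hx : x ∈ Mr H) : C.sg x⁻¹ = (C.sg x)⁻¹ := by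
  refine eq_inv_of_mul_eq_one_left ?_
  rw [← C.mul _ (inv_mem hx) _ hx, inv_mul_cancel, C.sg_one]

theorem sg_conj {x y : G} (hx : x ∈ Mr H) (hy : y ∈ Mr H) :
    C.sg (x * y * x⁻¹) = C.sg x * C.sg y * (C.sg x)⁻¹ := by
  rw [C.mul _ (mul_mem hx hy) _ (inv_mem hx), C.mul _ hx _ hy, C.sg_inv hx]

theorem sg_eq_one {x : G} (hx : x ∈ Mr H) (h : C.sg x = 1) : ∀ w ∈ Wr H, x * w = w * x := fun w hw => by
  have e := C.m.c_inj C.su ((conj_mem_iff (Mr_norm_Wr H hx)).2 hw) hw (by rw [C.act x hx w hw, h, pv_one])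
  exact mul_inv_eq_iff_eq_mul.1 e

theorem T_fix {t : G} (ht : t ∈ T) : C.sg t 4 = 4 := by
  obtain ⟨h0, -⟩ := dbl_facts
  obtain ⟨k, hk, ek⟩ := C.m.lift h0.1
  have hkT : k ∈ T := (C.m.frame k hk).2 (by rw [ek]; exact h0)
  have hcK := (conj_mem_iff (C.su.T_le_M ht)).2 hk
  have h1 := ((C.m.frame _ hcK).1 (mul_mem (mul_mem ht hkT) (inv_mem ht))).2.1
  rw [← C.onK _ hcK, C.sg_conj (C.su.T_le_M ht) (le_Mr H (Kr_le H hk)), C.onK k hk, ek, Equiv.Perm.mul_apply,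
    Equiv.Perm.mul_apply] at h1
  have h2 : dbl0 ((C.sg t)⁻¹ 4) = (C.sg t)⁻¹ 4 := by
    conv_rhs => rw [← h1]
    simp
  have h3 := fix_unique _ h2
  rw [Equiv.Perm.inv_eq_iff_eq] at h3
  exact h3.symm

theorem Q_iff {x : G} (hx : x ∈ T) : x ∈ Qr H ↔ C.sg x = 1 := by
  have hQW := C.su.Q_comm_W (fun a ha b hb => C.m.comm ha hb) C.m.good.ne C.m.wk C.m.irred
  refine ⟨fun h => ?_, fun h => C.su.cent_W_T C.m.cent_mem hx (C.sg_eq_one (C.su.T_le_M hx) h)⟩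
  by_contra hne
  have key : ∀ p : Equiv.Perm (Fin 5), p = 1 ∨ ∃ i, p i ≠ i := fun p => by
    by_contra hc
    push Not at hc
    exact hc.1 (Equiv.ext fun i => hc.2 i)
  rcases key (C.sg x) with h' | ⟨i, hi⟩
  · exact hne h'
  · obtain ⟨a, ha, hac⟩ := C.m.onto (quad i) (quad_sum i)
    have h1 := congrFun (C.act x (C.su.T_le_M hx) a ha) i
    rw [hQW x h a ha, mul_inv_cancel_right, hac] at h1
    have hi' : (C.sg x)⁻¹ i ≠ i := fun e => hi (by rw [Equiv.Perm.inv_eq_iff_eq] at e; exact e.symm)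
    simp [pv, quad, hi'] at h1
    exact hi' h1

theorem card_W : Nat.card ↥(Wr H) = 16 := by
  classical
  rw [← even_card]
  rw [← Fintype.card_coe, ← Nat.card_eq_fintype_card]
  refine Nat.card_eq_of_bijective (fun a : ↥(Wr H) => (⟨C.m.c a, Finset.mem_filter.2
    ⟨Finset.mem_univ _, C.m.sum a a.2⟩⟩ : { v // v ∈ Finset.univ.filter fun v : Fin 5 → ZMod 2 => ∑ l, v l = 0 }))
    ⟨fun a b e => Subtype.ext (C.m.c_inj C.su a.2 b.2 (congrArg Subtype.val e)), fun v => ?_⟩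
  obtain ⟨a, ha, hac⟩ := C.m.onto v.1 (Finset.mem_filter.1 v.2).2
  exact ⟨⟨a, ha⟩, Subtype.ext hac⟩

variable {g : G} (v : Moved H T g)
include v

theorem sg_W'_sq {x : G} (hx : x ∈ cjg g (Wr H)) : C.sg x * C.sg x = 1 ∧ C.sg x 4 = 4 := by
  have hT := v.W'_le_T hx
  exact ⟨by rw [← C.mul _ (C.su.T_le_M hT) _ (C.su.T_le_M hT), v.W'_sq hx, C.sg_one], C.T_fix hT⟩

theorem conj_W' {k : G} (hkT : k ∈ T) {x : G} (hx : x ∈ cjg g (Wr H)) : k * x * k⁻¹ ∈ cjg g (Wr H) :=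
  (conj_mem_iff (v.W'_norm hkT)).2 hx

theorem exists_dbl : ∃ x ∈ cjg g (Wr H), Dbl (C.sg x) := by
  obtain ⟨x, hx, hxQ⟩ := SetLike.not_le_iff_exists.1 v.move
  have hxT := v.W'_le_T hx
  rcases invol_fixing _ (C.sg_W'_sq v hx).1 (C.sg_W'_sq v hx).2 with h | h | ⟨-, ν, hν, hd⟩
  · exact absurd ((C.Q_iff hxT).2 h) hxQ
  · exact ⟨x, hx, h⟩
  · obtain ⟨k, hk, ek⟩ := C.m.lift hν.1
    have hkT : k ∈ T := (C.m.frame k hk).2 (by rw [ek]; exact hν)
    refine ⟨k * x * k⁻¹ * x, mul_mem (C.conj_W' v hkT hx) hx, ?_⟩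
    rw [C.mul _ (C.su.T_le_M (mul_mem (mul_mem hkT hxT) (inv_mem hkT))) _ (C.su.T_le_M hxT),
      C.sg_conj (le_Mr H (Kr_le H hk)) (C.su.T_le_M hxT), C.onK k hk, ek]
    exact hd

theorem fix_small : Nat.card ↥(Wr H ⊓ cjg g (Qr H) : Subgroup G) ≤ 4 := by
  classical
  obtain ⟨x, hx, hd⟩ := C.exists_dbl v
  refine le_trans ?_ (dbl_fixed _ hd)
  rw [← Fintype.card_coe, ← Nat.card_eq_fintype_card]
  refine Nat.card_le_card_of_injective (fun a : ↥(Wr H ⊓ cjg g (Qr H) : Subgroup G) =>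
    (⟨C.m.c a, Finset.mem_filter.2 ⟨Finset.mem_univ _, C.m.sum a (mem_inf.1 a.2).1, ?_⟩⟩ :
      { w // w ∈ Finset.univ.filter fun w : Fin 5 → ZMod 2 => ∑ l, w l = 0 ∧ pv (C.sg x) w = w }))
    fun a b e => Subtype.ext (C.m.c_inj C.su (mem_inf.1 a.2).1 (mem_inf.1 b.2).1 (congrArg Subtype.val e))
  have ha := mem_inf.1 a.2
  have e := (v.mem_Q' (C.su.Wr_le_T' ha.1)).1 ha.2 x hx
  rw [← C.act x (C.su.T_le_M (v.W'_le_T hx)) _ ha.1, ← e, mul_inv_cancel_right]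

/-- commutators of the module with the moved one -/
theorem comm_vec {x w : G} (hx : x ∈ cjg g (Wr H)) (hw : w ∈ Wr H) :
    x * w * x⁻¹ * w⁻¹ ∈ Wr H ⊓ cjg g (Wr H) ∧
      C.m.c (x * w * x⁻¹ * w⁻¹) = pv (C.sg x) (C.m.c w) + C.m.c w := by
  have hxM := C.su.T_le_M (v.W'_le_T hx)
  refine ⟨v.comm_mem hw hx, ?_⟩
  rw [C.m.add _ ((conj_mem_iff (Mr_norm_Wr H hxM)).2 hw) _ (inv_mem hw), C.act x hxM w hw, C.m.c_inv hw]

theorem exists_trs : ∃ x ∈ cjg g (Wr H), Trs (C.sg x) := by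
  obtain ⟨x, hx, hd⟩ := C.exists_dbl v
  have hex : ∃ y ∈ cjg g (Wr H), C.sg y ≠ 1 ∧ C.sg y ≠ C.sg x := by
    by_contra hn
    push Not at hn
    have h8 : Nat.card ↥(cjg g (Wr H)) ≤ 2 * Nat.card ↥(cjg g (Wr H) ⊓ Qr H : Subgroup G) := by
      classical
      have hmem : ∀ y : ↥(cjg g (Wr H)), (if C.sg y = 1 then (y : G) else y * x) ∈ cjg g (Wr H) ⊓ Qr H := fun y => by
        split
        · next h => exact mem_inf.2 ⟨y.2, (C.Q_iff (v.W'_le_T y.2)).2 h⟩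
        · next h =>
          refine mem_inf.2 ⟨mul_mem y.2 hx, (C.Q_iff (v.W'_le_T (mul_mem y.2 hx))).2 ?_⟩
          rw [C.mul _ (C.su.T_le_M (v.W'_le_T y.2)) _ (C.su.T_le_M (v.W'_le_T hx)), hn y y.2 h, (C.sg_W'_sq v hx).1]
      refine (Nat.card_le_card_of_injective (fun y : ↥(cjg g (Wr H)) =>
        ((decide (C.sg y = 1), (⟨_, hmem y⟩ : ↥(cjg g (Wr H) ⊓ Qr H : Subgroup G))) :
          Bool × ↥(cjg g (Wr H) ⊓ Qr H : Subgroup G))) fun a b e => ?_).trans (le_of_eq ?_)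
      · obtain ⟨e1, e2⟩ := Prod.ext_iff.1 e
        have e3 := congrArg Subtype.val e2
        have e1' : C.sg a = 1 ↔ C.sg b = 1 := decide_eq_decide.1 e1
        by_cases ha : C.sg a = 1
        · simp only [if_pos ha, if_pos (e1'.1 ha)] at e3
          exact Subtype.ext e3
        · simp only [if_neg ha, if_neg (mt e1'.2 ha)] at e3
          exact Subtype.ext (mul_right_cancel e3)
      · rw [Nat.card_prod]; simp
    rw [Cfsg.Lib.LTP.card_cjg, C.card_W, v.card_W'_inf_Q] at h8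
    have h4 := C.fix_small v.inv
    omega
  obtain ⟨y, hy, hy1, hyne⟩ := hex
  rcases invol_fixing _ (C.sg_W'_sq v hy).1 (C.sg_W'_sq v hy).2 with h | h | ⟨h, -⟩
  · exact absurd h hy1
  · exfalso
    obtain ⟨u, hu, hne⟩ := dbl_pair _ _ hd h hyne.symm
    obtain ⟨w, hw, hwc⟩ := C.m.onto u hu
    obtain ⟨hc, hcv⟩ := C.comm_vec v hx hw
    have h1 := C.act y (C.su.T_le_M (v.W'_le_T hy)) _ (mem_inf.1 hc).1
    rw [v.W'_comm hy (mem_inf.1 hc).2, mul_inv_cancel_right, hcv, hwc] at h1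
    exact hne h1.symm
  · exact ⟨y, hy, h⟩

/-- **the shape of the intersection** -/
theorem inter : Nat.card ↥(Wr H ⊓ cjg g (Wr H) : Subgroup G) = 4 ∧
    cjg g (Wr H) ⊓ Qr H ≤ Wr H ∧ Wr H ⊓ cjg g (Qr H) ≤ cjg g (Wr H) ∧
    ∃ z ∈ Wr H ⊓ cjg g (Wr H), C.m.c z = quad 4 := by
  obtain ⟨x, hx, ht⟩ := C.exists_trs v
  rcases invol_fixing _ (C.sg_W'_sq v hx).1 (C.sg_W'_sq v hx).2 with h | h | ⟨-, ν, hν, hd⟩
  · exact absurd ⟨by rw [h]; decide, by rw [h]; rfl, by rw [h, one_mul]⟩ ht.1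
  · exact absurd h.1 ht.1
  obtain ⟨u, hu, u', hu', hn, hn', hne, hsum⟩ := trs_pair _ ht ν hν hd
  obtain ⟨k, hk, ek⟩ := C.m.lift hν.1
  have hkT : k ∈ T := (C.m.frame k hk).2 (by rw [ek]; exact hν)
  have hy := C.conj_W' v hkT hx
  have ey : C.sg (k * x * k⁻¹) = ν * C.sg x * ν⁻¹ := by
    rw [C.sg_conj (le_Mr H (Kr_le H hk)) (C.su.T_le_M (v.W'_le_T hx)), C.onK k hk, ek]
  obtain ⟨w, hw, hwc⟩ := C.m.onto u hu
  obtain ⟨w', hw', hwc'⟩ := C.m.onto u' hu'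
  obtain ⟨hc1, e1⟩ := C.comm_vec v hx hw
  obtain ⟨hc2, e2⟩ := C.comm_vec v hy hw'
  rw [hwc] at e1
  rw [hwc', ey] at e2
  set L := Wr H ⊓ cjg g (Wr H)
  set a := x * w * x⁻¹ * w⁻¹
  set b := k * x * k⁻¹ * w' * (k * x * k⁻¹)⁻¹ * w'⁻¹
  have hz : a * b ∈ L := mul_mem hc1 hc2
  have ez : C.m.c (a * b) = quad 4 := by rw [C.m.add _ hc1.1 _ hc2.1, e1, e2]; exact hsum
  have h4 : 4 ≤ Nat.card ↥L := by
    have hcinj : ∀ {p q : ↥L}, p = q → C.m.c p = C.m.c q := fun h => by rw [h]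
    let f : Fin 4 → ↥L := ![1, ⟨a, hc1⟩, ⟨b, hc2⟩, ⟨a * b, hz⟩]
    have hf : Function.Injective f := by
      have hv : ∀ i, C.m.c (f i) = ![0, pv (C.sg x) u + u, pv (ν * C.sg x * ν⁻¹) u' + u', quad 4] i := fun i => by
        fin_cases i <;> simp [f, C.m.c_one, e1, e2, ez]
      intro i j hij
      have h := (hv i).symm.trans ((hcinj hij).trans (hv j))
      have n1 : pv (C.sg x) u + u ≠ quad 4 := fun e => hn' (by
        rw [e] at hsum
        exact add_eq_left.1 hsum)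
      have n2 : pv (ν * C.sg x * ν⁻¹) u' + u' ≠ quad 4 := fun e => hn (by
        rw [e] at hsum
        exact add_eq_right.1 hsum)
      fin_cases i <;> fin_cases j <;> simp at h ⊢ <;>
        first
          | exact hn h | exact hn h.symm | exact hn' h | exact hn' h.symm | exact hne h | exact hne h.symm
          | exact n1 h | exact n1 h.symm | exact n2 h | exact n2 h.symm
          | exact quad_ne 4 h | exact quad_ne 4 h.symm
    simpa using Nat.card_le_card_of_injective f hf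
  have hA : L ≤ cjg g (Wr H) ⊓ Qr H := fun p hp => mem_inf.2 ⟨hp.2, Wr_le_Qr H hp.1⟩
  have hB : L ≤ Wr H ⊓ cjg g (Qr H) := inf_le_inf_left _ (cjg_mono g (Wr_le_Qr H))
  have hAc : Nat.card ↥(cjg g (Wr H) ⊓ Qr H : Subgroup G) ≤ Nat.card ↥L := by
    rw [v.card_W'_inf_Q]; exact (C.fix_small v.inv).trans h4
  have hA' := eq_of_le_of_card_ge hA hAc
  have hB' := eq_of_le_of_card_ge hB ((C.fix_small v).trans h4)
  refine ⟨le_antisymm ((card_le_of_le hB).trans (C.fix_small v)) h4, ?_, ?_, _, hz, ez⟩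
  · rw [← hA']; exact inf_le_left
  · rw [← hB']; exact inf_le_right

theorem Dr_le_Q' : Dr H ≤ cjg g (Qr H) := fun x hx => by
  have hxT := C.su.Q_le_T (mem_Dr.1 hx).1
  refine (v.mem_Q' hxT).2 fun y hy => ?_
  have hyT := v.W'_le_T hy
  set e := x * y * x⁻¹ * y⁻¹ with he
  have e1 : e ∈ cjg g (Wr H) := mul_mem (C.conj_W' v hxT hy) (inv_mem hy)
  have e2 : e ∈ Dr H := by
    rw [he, show x * y * x⁻¹ * y⁻¹ = x * (y * x⁻¹ * y⁻¹) by group]
    exact mul_mem hx ((conj_mem_iff (v.Dr_norm (C.su.T_le hyT))).2 (inv_mem hx))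
  have e3 : e ∈ Wr H := (C.inter v).2.1 (mem_inf.2 ⟨e1, (mem_Dr.1 e2).1⟩)
  have e4 : e ∈ Zr H := mem_Zr.2 ⟨e3, (mem_Dr.1 e2).2⟩
  rw [C.m.Zr_eq_bot C.su, mem_bot] at e4
  exact mul_inv_eq_iff_eq_mul.1 (mul_inv_eq_one.1 e4)

theorem Dr'_le_Q : cjg g (Dr H) ≤ Qr H := by
  have h := cjg_mono g (C.Dr_le_Q' v.inv)
  rwa [← Cfsg.Lib.LTP.cjg_mul, mul_inv_cancel, Cfsg.Lib.LTP.cjg_one] at h

theorem Dr'_split {y : G} (hy : y ∈ cjg g (Dr H)) :
    ∃ w ∈ Wr H ⊓ cjg g (Wr H), y * w ∈ Dr H := by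
  have hyQ := C.Dr'_le_Q v hy
  obtain ⟨w, hw, hx⟩ := C.m.core_split C.su hyQ
  refine ⟨w, mem_inf.2 ⟨hw, (C.inter v).2.2.1 (mem_inf.2 ⟨hw, ?_⟩)⟩, hx⟩
  have hy' : y ∈ cjg g (Qr H) := cjg_mono g inf_le_left hy
  simpa using mul_mem (inv_mem hy') (C.Dr_le_Q' v hx)

theorem Dr_sq {d : G} (hd : d ∈ Dr H) : d * d = 1 := by
  set y := g * d * g⁻¹
  have hy : y ∈ cjg g (Dr H) := Cfsg.Lib.LTP.cjg_mem hd
  obtain ⟨w, hw, hx⟩ := C.Dr'_split v hy
  have hc := v.Q_comm y (C.Dr'_le_Q v hy) w (mem_inf.1 hw).1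
  have h1 : y * y ∈ Dr H := by
    have e : y * w * (y * w) = y * y := by
      rw [show y * w * (y * w) = y * (w * y) * w by group, ← hc, ← mul_assoc, mul_assoc (y * y),
        C.m.sq w (mem_inf.1 hw).1, mul_one]
    rw [← e]; exact mul_mem hx hx
  have h2 : y * y ∈ cjg g (Dr H) := mul_mem hy hy
  have h3 : y * y = 1 := mem_bot.1 (v.Dr_disjoint ▸ mem_inf.2 ⟨h1, h2⟩)
  rw [show y * y = g * (d * d) * g⁻¹ by simp only [y]; group, mul_inv_eq_one, mul_eq_left] at h3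
  exact h3

omit v in
/-- the only fixed point of `T` in the module -/
theorem cent_T_W {w z : G} (hw : w ∈ Wr H) (hz : z ∈ Wr H) (ez : C.m.c z = quad 4)
    (hc : ∀ t ∈ T, t * w = w * t) : w = 1 ∨ w = z := by
  obtain ⟨h0, h1, -⟩ := dbl_facts
  obtain ⟨a, ha, ea⟩ := C.m.lift h0.1
  obtain ⟨b, hb, eb⟩ := C.m.lift h1.1
  have fa := C.m.c_act ha hw
  rw [hc a ((C.m.frame a ha).2 (by rw [ea]; exact h0)), mul_inv_cancel_right, ea] at fa
  have fb := C.m.c_act hb hw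
  rw [hc b ((C.m.frame b hb).2 (by rw [eb]; exact h1)), mul_inv_cancel_right, eb] at fb
  rcases four_fixed _ (C.m.sum w hw) fa.symm fb.symm with h | h
  · exact Or.inl (C.m.eq_one_of_c C.su hw h)
  · exact Or.inr (C.m.c_inj C.su hw hz (h.trans ez.symm))

omit v in
theorem cent_T {z : G} (hz : z ∈ Wr H) (ez : C.m.c z = quad 4) : ∀ t ∈ T, t * z = z * t := fun t ht =>
  mul_inv_eq_iff_eq_mul.1 (C.m.c_inj C.su ((conj_mem_iff (Mr_norm_Wr H (C.su.T_le_M ht))).2 hz) hz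
    (by rw [C.act t (C.su.T_le_M ht) z hz, ez, quad_four_fix _ (C.T_fix ht)]))

theorem Dr_eq_bot : Dr H = ⊥ := by
  by_contra hne
  have hne' : cjg g (Dr H) ≠ ⊥ := fun e => hne (by
    have h := congrArg (cjg g⁻¹) e
    rw [cjg_inv_cjg] at h
    simpa [cjg] using h)
  obtain ⟨y, hy, hy1, hyT⟩ := C.su.exists_fixed ((C.Dr'_le_Q v).trans C.su.Q_le_T) hne'
    (v.norm_T_cjg (C.su.T_le.trans v.Dr_norm))
  obtain ⟨w, hw, hx⟩ := C.Dr'_split v hy
  obtain ⟨z, hz, ez⟩ := (C.inter v).2.2.2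
  have hzT := C.cent_T (mem_inf.1 hz).1 ez
  set d := y * w
  -- the two factors are centralised separately
  have hwT : ∀ t ∈ T, t * w = w * t := fun t ht => by
    have hd' : t * d * t⁻¹ ∈ Dr H := (conj_mem_iff (v.Dr_norm (C.su.T_le ht))).2 hx
    have hw' : t * w * t⁻¹ ∈ Wr H := (conj_mem_iff (Mr_norm_Wr H (C.su.T_le_M ht))).2 (mem_inf.1 hw).1
    have e : t * w * t⁻¹ * w⁻¹ ∈ Zr H := by
      refine mem_Zr.2 ⟨mul_mem hw' (inv_mem (mem_inf.1 hw).1), (mem_Dr.1 ?_).2⟩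
      rw [show t * w * t⁻¹ * w⁻¹ = (t * y * t⁻¹)⁻¹ * (t * d * t⁻¹) * (d⁻¹ * y) by simp only [d]; group,
        hyT t ht, mul_inv_cancel_right, show y⁻¹ * (t * d * t⁻¹) * (d⁻¹ * y) =
          y⁻¹ * (t * d * t⁻¹ * d⁻¹) * y by group]
      have hcD : t * d * t⁻¹ * d⁻¹ ∈ Dr H := mul_mem hd' (inv_mem hx)
      simpa using (conj_mem_iff (inv_mem (v.Dr_norm (Qr_le H (C.Dr'_le_Q v hy))))).2 hcD
    rw [C.m.Zr_eq_bot C.su, mem_bot] at e
    exact mul_inv_eq_iff_eq_mul.1 (mul_inv_eq_one.1 e)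
  have hd1 : d ≠ 1 := fun e => by
    rw [show y = w⁻¹ from eq_inv_of_mul_eq_one_left e] at hy hy1
    obtain ⟨a, ha, hae⟩ := (mem_inf.1 hw).2
    have h : a ∈ Zr H := mem_Zr.2 ⟨ha, fun k hk => by
      have hm : a⁻¹ ∈ Dr H := by
        obtain ⟨q, hq, hqe⟩ := hy
        have hq' : q = a⁻¹ := (MulAut.conj g).injective (by rw [map_inv]; exact hqe.trans (congrArg _ hae.symm))
        exact hq' ▸ hq
      simpa using (mem_Dr.1 (inv_mem hm)).2 k hk⟩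
    rw [C.m.Zr_eq_bot C.su, mem_bot] at h
    refine hy1 ?_
    rw [← hae, h, map_one, inv_one]
  have hdT : ∀ t ∈ T, t * d = d * t := fun t ht => by
    simp only [d]; rw [← mul_assoc, hyT t ht, mul_assoc, hwT t ht, mul_assoc]
  have hwz : w = 1 ∨ w = z := C.cent_T_W (mem_inf.1 hw).1 (mem_inf.1 hz).1 ez hwT
  -- the centraliser of `d` lies in `M`
  have hcz : ∀ x : G, x * d = d * x → x ∈ normalizer (zpowers d : Set G) := fun x hx' => by
    refine mem_norm_of_conj fun a ha => ?_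
    obtain ⟨i, rfl⟩ := mem_zpowers_iff.1 ha
    rw [((show Commute x d from hx').zpow_right i).eq, mul_inv_cancel_right]
    exact zpow_mem (mem_zpowers d) i
  have hH : H ≤ normalizer (zpowers d : Set G) := C.su.sup_eq.ge.trans (sup_le
    (fun k hk => hcz k ((mem_Dr.1 hx).2 k hk)) fun t ht => hcz t (hdT t ht))
  have hM := C.su.local_le ((Qr_two H).to_le (zpowers_le.2 (mem_Dr.1 hx).1)) (fun e => hd1 (zpowers_eq_bot.1 e)) hH
  -- a three-cycle against the moved transposition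
  obtain ⟨x', hx'W, htr⟩ := C.exists_trs v.inv
  obtain ⟨c, hc, hc4, hne3⟩ := trs_three _ htr
  obtain ⟨b, hb, eb⟩ := C.m.lift hc
  have hgz : g⁻¹ * z * g = z := by
    have hm : g⁻¹ * z * g ∈ Wr H := mem_cjg_iff.1 (mem_inf.1 hz).2
    rcases C.cent_T_W hm (mem_inf.1 hz).1 ez (fun t ht => by
      have h := hzT _ ((conj_mem_iff v.norm).2 ht)
      have h2 := congrArg (fun u => g⁻¹ * u * g) h
      simpa [mul_assoc] using h2) with h | h
    · exfalso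
      have hz1 : z = 1 := by
        calc z = g * (g⁻¹ * z * g) * g⁻¹ := by group
          _ = 1 := by rw [h]; group
      exact quad_ne 4 (by rw [← ez, hz1]; exact C.m.c_one)
    · exact h
  have hbz : b * z = z * b := mul_inv_eq_iff_eq_mul.1 (C.m.c_inj C.su (conj_mem_Wr hb (mem_inf.1 hz).1) (mem_inf.1 hz).1
    (by rw [C.m.c_act hb (mem_inf.1 hz).1, eb, ez, quad_four_fix _ hc4]))
  set b' := g * b * g⁻¹
  have hbd : b' * d = d * b' := by
    have h1 : b' * y = y * b' := by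
      obtain ⟨q, hq, rfl⟩ := hy
      show g * b * g⁻¹ * (g * q * g⁻¹) = g * q * g⁻¹ * (g * b * g⁻¹)
      rw [show g * b * g⁻¹ * (g * q * g⁻¹) = g * (b * q) * g⁻¹ by group, (mem_Dr.1 hq).2 b hb]
      group
    have h2 : b' * w = w * b' := by
      rcases hwz with rfl | rfl
      · simp
      · calc b' * w = g * (b * (g⁻¹ * w * g)) * g⁻¹ := by simp only [b']; group
          _ = g * (b * w) * g⁻¹ := by rw [hgz]
          _ = g * (g⁻¹ * w * g * b) * g⁻¹ := by rw [hgz, hbz]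
          _ = w * b' := by simp only [b']; group
    simp only [d]; rw [← mul_assoc, h1, mul_assoc, h2, mul_assoc]
  have hb'M := hM (hcz b' hbd)
  have hbx : b * x' * b⁻¹ ∈ cjg g⁻¹ (Wr H) := by
    rw [mem_cjg_iff, inv_inv] at hx'W ⊢
    have h := (conj_mem_iff (Mr_norm_Wr H hb'M)).2 hx'W
    simpa [b', mul_assoc] using h
  refine hne3 ?_
  have hbM : b ∈ Mr H := le_Mr H (Kr_le H hb)
  have hxM := C.su.T_le_M (v.inv.W'_le_T hx'W)
  have h := congrArg C.sg (v.inv.W'_comm hbx hx'W)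
  rwa [C.mul _ (C.su.T_le_M (v.inv.W'_le_T hbx)) _ hxM, C.mul _ hxM _ (C.su.T_le_M (v.inv.W'_le_T hbx)),
    C.sg_conj hbM hxM, C.onK b hb, eb] at h

theorem Qr_eq : Qr H = Wr H := by
  refine le_antisymm (fun q hq => ?_) (Wr_le_Qr H)
  obtain ⟨w, hw, hx⟩ := C.m.core_split C.su hq
  rw [C.Dr_eq_bot v, mem_bot] at hx
  rw [mul_eq_one_iff_eq_inv.1 hx]
  exact inv_mem hw

end PermCtx

end Cfsg.Lib.PushPair
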