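import Cfsg.Prelude.Def_CaseTheorems
import Cfsg.Agent.LThreePlane.Sylow
import Cfsg.Agent.LThreePlane.OuterBasic
import Cfsg.Agent.InvolCalc.Dihedral

/-!
# A group of characteristic two with an involution exchanging two large elementary subgroups
-/

set_option autoImplicit false
set_option linter.style.haveILetI false

namespace Cfsg.Lib.PushPair

open Subgroup
open Cfsg.Lib.LTP (cjg)

variable {G : Type*} [Group G]

/-- two elementary subgroups of the same order, the only large ones of their join -/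
structure Twin (A B : Subgroup G) : Prop where
  sqA : ∀ a ∈ A, a * a = 1
  sqB : ∀ b ∈ B, b * b = 1
  ne : A ≠ B
  card_eq : Nat.card ↥A = Nat.card ↥B
  elem : ∀ E : Subgroup G, E ≤ A ⊔ B → (∀ e ∈ E, e * e = 1) → E ≤ A ∨ E ≤ B
  big : 4 * Nat.card ↥(A ⊓ B : Subgroup G) ≤ Nat.card ↥A
  two : IsPGroup 2 ↥(A ⊔ B : Subgroup G)
  stab2 : ∀ x : G, x ∈ normalizer (A : Set G) → x ∈ normalizer (B : Set G) → ∀ k : ℕ, x ^ 2 ^ k = 1 →
    x ∈ A ⊔ B

namespace Twin

variable [Finite G] {A B : Subgroup G} (t : Twin A B)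
include t

omit [Finite G] in
theorem comm_sq {E : Subgroup G} (h : ∀ a ∈ E, a * a = 1) {a b : G} (ha : a ∈ E) (hb : b ∈ E) :
    a * b = b * a := by
  rw [← inv_eq_of_mul_eq_one_right (h _ (mul_mem ha hb)), mul_inv_rev, inv_eq_of_mul_eq_one_right (h _ ha),
    inv_eq_of_mul_eq_one_right (h _ hb)]

omit [Finite G] in
theorem central {z : G} (hz : z ∈ A ⊓ B) {a : G} (ha : a ∈ A ⊔ B) : a * z = z * a := by
  have h : A ⊔ B ≤ centralizer ({z} : Set G) := by
    refine sup_le (fun x hx => ?_) (fun x hx => ?_) <;> rw [mem_centralizer_iff]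
    · rintro _ rfl; exact t.comm_sq t.sqA (mem_inf.1 hz).1 hx
    · rintro _ rfl; exact t.comm_sq t.sqB (mem_inf.1 hz).2 hx
  exact (mem_centralizer_iff.1 (h ha) z rfl).symm

omit [Finite G] in
theorem inner {x : G} (hx : x ∈ A ⊔ B) (h2 : x * x = 1) : x ∈ A ∨ x ∈ B := by
  rcases t.elem (zpowers x) (zpowers_le.2 hx) (fun e he => by
    rcases Cfsg.Lib.LTP.mem_zpowers_invol h2 he with rfl | rfl
    · exact one_mul 1
    · exact h2) with h | h
  · exact Or.inl (h (mem_zpowers x))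
  · exact Or.inr (h (mem_zpowers x))

theorem sub_of_conj {g : G} (hA : cjg g A ≤ A ⊔ B) : cjg g A = A ∨ cjg g A = B := by
  have hsq : ∀ e ∈ cjg g A, e * e = 1 := by
    rintro _ ⟨a, ha, rfl⟩
    show g * a * g⁻¹ * (g * a * g⁻¹) = 1
    rw [show g * a * g⁻¹ * (g * a * g⁻¹) = g * (a * a) * g⁻¹ by group, t.sqA a ha, mul_one, mul_inv_cancel]
  rcases t.elem _ hA hsq with h | h
  · exact Or.inl (eq_of_le_of_card_ge h (Cfsg.Lib.LTP.card_cjg g A).ge)
  · exact Or.inr (eq_of_le_of_card_ge h (by rw [Cfsg.Lib.LTP.card_cjg, t.card_eq]))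

theorem swap : Twin B A where
  sqA := t.sqB
  sqB := t.sqA
  ne := t.ne.symm
  card_eq := t.card_eq.symm
  elem E hE hsq := (t.elem E (by rwa [sup_comm] at hE) hsq).symm
  big := by rw [inf_comm, ← t.card_eq]; exact t.big
  two := by rw [sup_comm]; exact t.two
  stab2 x hx hy k hk := by rw [sup_comm]; exact t.stab2 x hy hx k hk

/-- both are fixed or they are exchanged -/
theorem norm_cases {g : G} (hA : cjg g A ≤ A ⊔ B) (hB : cjg g B ≤ A ⊔ B) :
    (cjg g A = A ∧ cjg g B = B) ∨ (cjg g A = B ∧ cjg g B = A) := by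
  have hne : cjg g A ≠ cjg g B := fun e => t.ne (map_injective (MulAut.conj g).injective e)
  rcases t.sub_of_conj hA with h | h <;> rcases t.swap.sub_of_conj (by rwa [sup_comm]) with h' | h'
  · exact Or.inl ⟨h, h'⟩
  · exact absurd (h.trans h'.symm) hne
  · exact absurd (h.trans h'.symm) hne
  · exact Or.inr ⟨h, h'⟩

theorem norm_of_cases {g : G} (h : (cjg g A = A ∧ cjg g B = B) ∨ (cjg g A = B ∧ cjg g B = A)) :
    g ∈ normalizer ((A ⊔ B : Subgroup G) : Set G) := by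
  refine Cfsg.Lib.LTP.cjg_eq_iff.1 ?_
  show (A ⊔ B).map (MulAut.conj g).toMonoidHom = A ⊔ B
  rw [Subgroup.map_sup]
  rcases h with ⟨h1, h2⟩ | ⟨h1, h2⟩
  · exact congrArg₂ (· ⊔ ·) h1 h2
  · exact (congrArg₂ (· ⊔ ·) h1 h2).trans (sup_comm B A)

theorem cases_of_norm {g : G} (hg : g ∈ normalizer ((A ⊔ B : Subgroup G) : Set G)) :
    (cjg g A = A ∧ cjg g B = B) ∨ (cjg g A = B ∧ cjg g B = A) := by
  have h := (Cfsg.Lib.LTP.cjg_eq_iff.2 hg).le
  exact t.norm_cases ((map_mono le_sup_left).trans h) ((map_mono le_sup_right).trans h)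

end Twin

/-- the stabiliser of both -/
abbrev twinStab (A B : Subgroup G) : Subgroup G := normalizer (A : Set G) ⊓ normalizer (B : Set G)

/-- an element exchanging both -/
def Outer (A B : Subgroup G) (r : G) : Prop :=
  r ∈ normalizer ((A ⊔ B : Subgroup G) : Set G) ∧ r ∉ twinStab A B

namespace Twin

variable [Finite G] {A B : Subgroup G} (t : Twin A B)
include t

theorem outer_swap {r : G} (hr : Outer A B r) : cjg r A = B ∧ cjg r B = A :=
  (t.cases_of_norm hr.1).resolve_left fun h =>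
    hr.2 (mem_inf.2 ⟨Cfsg.Lib.LTP.cjg_eq_iff.1 h.1, Cfsg.Lib.LTP.cjg_eq_iff.1 h.2⟩)

theorem outer_mul {a b : G} (ha : Outer A B a) (hb : Outer A B b) : a * b ∈ twinStab A B := by
  obtain ⟨a1, a2⟩ := t.outer_swap ha
  obtain ⟨b1, b2⟩ := t.outer_swap hb
  refine mem_inf.2 ⟨Cfsg.Lib.LTP.cjg_eq_iff.1 ?_, Cfsg.Lib.LTP.cjg_eq_iff.1 ?_⟩
  · rw [Cfsg.Lib.LTP.cjg_mul, b1, a2]
  · rw [Cfsg.Lib.LTP.cjg_mul, b2, a1]

theorem stab_inner {x : G} (hx : x ∈ twinStab A B) (h2 : x * x = 1) : x ∈ A ⊔ B :=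
  t.stab2 x (mem_inf.1 hx).1 (mem_inf.1 hx).2 1 (by rw [pow_one, pow_two, h2])

theorem fixed_mem {r x : G} (hr : Outer A B r) (hx : x ∈ A ∨ x ∈ B) (hc : r * x = x * r) : x ∈ A ⊓ B := by
  obtain ⟨h1, h2⟩ := t.outer_swap hr
  have e : r * x * r⁻¹ = x := by rw [hc, mul_inv_cancel_right]
  rcases hx with hx | hx
  · exact mem_inf.2 ⟨hx, h1 ▸ e ▸ Cfsg.Lib.LTP.cjg_mem hx⟩
  · exact mem_inf.2 ⟨h2 ▸ e ▸ Cfsg.Lib.LTP.cjg_mem hx, hx⟩

theorem stab_fixed {r x : G} (hr : Outer A B r) (hx : x ∈ twinStab A B) (h2 : x * x = 1)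
    (hc : r * x = x * r) : x ∈ A ⊓ B :=
  t.fixed_mem hr (t.inner (t.stab_inner hx h2) h2) hc

/-- a large elementary subgroup normalising the join fixes both -/
theorem elem_out {E : Subgroup G} (hE : E ≤ normalizer ((A ⊔ B : Subgroup G) : Set G))
    (hsq : ∀ e ∈ E, e * e = 1) (hcard : Nat.card ↥A ≤ Nat.card ↥E) : E ≤ twinStab A B := by
  intro r hr
  by_contra hrs
  have hro : Outer A B r := ⟨hE hr, hrs⟩
  have h1 : Nat.card ↥E ≤ 2 * Nat.card ↥(E ⊓ twinStab A B : Subgroup G) :=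
    Cfsg.Lib.LTP.Hyp.card_le_two_mul inf_le_left fun a ha b hb haB hbB => mem_inf.2 ⟨mul_mem ha hb,
      t.outer_mul ⟨hE ha, fun h => haB (mem_inf.2 ⟨ha, h⟩)⟩ ⟨hE hb, fun h => hbB (mem_inf.2 ⟨hb, h⟩)⟩⟩
  have h2 : E ⊓ twinStab A B ≤ A ⊓ B := fun x hx =>
    t.stab_fixed hro (mem_inf.1 hx).2 (hsq x (mem_inf.1 hx).1) (t.comm_sq hsq hr (mem_inf.1 hx).1)
  have h3 : Nat.card ↥(E ⊓ twinStab A B : Subgroup G) ≤ Nat.card ↥(A ⊓ B : Subgroup G) :=
    Nat.card_le_card_of_injective _ (Subgroup.inclusion_injective h2)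
  have h4 := t.big
  have h5 : 0 < Nat.card ↥A := Nat.card_pos
  omega

/-- an element moving a central point to another one normalises the join -/
theorem align {y z : G} (hz : z ∈ A ⊓ B)
    (hc : ∀ c : G, c * (y * z * y⁻¹) = (y * z * y⁻¹) * c → c ∈ normalizer ((A ⊔ B : Subgroup G) : Set G)) :
    y ∈ normalizer ((A ⊔ B : Subgroup G) : Set G) := by
  have key : ∀ P : Subgroup G, (∀ a ∈ P, a * a = 1) → P ≤ A ⊔ B → Nat.card ↥A ≤ Nat.card ↥P →
      cjg y P ≤ A ⊔ B := by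
    intro P hP hPJ hcard
    have hsq : ∀ e ∈ cjg y P, e * e = 1 := by
      rintro _ ⟨a, ha, rfl⟩
      show y * a * y⁻¹ * (y * a * y⁻¹) = 1
      rw [show y * a * y⁻¹ * (y * a * y⁻¹) = y * (a * a) * y⁻¹ by group, hP a ha, mul_one, mul_inv_cancel]
    have hN : cjg y P ≤ normalizer ((A ⊔ B : Subgroup G) : Set G) := by
      rintro _ ⟨a, ha, rfl⟩
      refine hc _ ?_
      show y * a * y⁻¹ * (y * z * y⁻¹) = y * z * y⁻¹ * (y * a * y⁻¹)
      rw [show y * a * y⁻¹ * (y * z * y⁻¹) = y * (a * z) * y⁻¹ by group, t.central hz (hPJ ha)]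
      group
    have h := t.elem_out hN hsq (hcard.trans (Cfsg.Lib.LTP.card_cjg y P).ge)
    exact fun e he => t.stab_inner (h he) (hsq e he)
  exact t.norm_of_cases (t.norm_cases (key A t.sqA le_sup_left le_rfl)
    (key B t.sqB le_sup_right t.card_eq.le))

/-- the points of the meet fixed by an element -/
def fixPart (t : Twin A B) (r : G) : Subgroup G := A ⊓ B ⊓ centralizer ({r} : Set G)

theorem mem_fixPart {r x : G} : x ∈ t.fixPart r ↔ x ∈ A ⊓ B ∧ r * x = x * r := by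
  constructor
  · intro h
    exact ⟨(mem_inf.1 h).1, mem_centralizer_iff.1 (mem_inf.1 h).2 r rfl⟩
  · rintro ⟨h1, h2⟩
    exact mem_inf.2 ⟨h1, mem_centralizer_iff.2 (by rintro _ rfl; exact h2)⟩

/-- an outer involution fixes at least three points of the meet -/
theorem fix_card {r : G} (hr : Outer A B r) (h2 : r * r = 1) (h8 : 8 ≤ Nat.card ↥(A ⊓ B : Subgroup G)) :
    ∃ a b, a ∈ t.fixPart r ∧ b ∈ t.fixPart r ∧ a ≠ 1 ∧ b ≠ 1 ∧ a ≠ b := by
  haveI : Fintype ↥(t.fixPart r) := Fintype.ofFinite _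
  have hcard : 3 ≤ Nat.card ↥(t.fixPart r) := by
    obtain ⟨h1, h2'⟩ := t.outer_swap hr
    have hm : ∀ x ∈ A ⊓ B, r * x * r⁻¹ ∈ A ⊓ B := fun x hx =>
      mem_inf.2 ⟨h2' ▸ Cfsg.Lib.LTP.cjg_mem (mem_inf.1 hx).2, h1 ▸ Cfsg.Lib.LTP.cjg_mem (mem_inf.1 hx).1⟩
    have hsq : ∀ x ∈ A ⊓ B, x * x = 1 := fun x hx => t.sqA x (mem_inf.1 hx).1
    -- the map x ↦ x x^r lands in the fixed points
    let f : ↥(A ⊓ B : Subgroup G) →* ↥(A ⊓ B : Subgroup G) :=
      { toFun := fun x => ⟨(x : G) * (r * x * r⁻¹), mul_mem x.2 (hm x x.2)⟩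
        map_one' := Subtype.ext (by simp)
        map_mul' := fun x y => Subtype.ext (by
          show (x : G) * y * (r * (x * y) * r⁻¹) = x * (r * x * r⁻¹) * (y * (r * y * r⁻¹))
          have e := t.comm_sq hsq y.2 (hm x x.2)
          calc (x : G) * y * (r * (x * y) * r⁻¹) = x * (y * (r * x * r⁻¹)) * (r * y * r⁻¹) := by group
            _ = x * ((r * x * r⁻¹) * y) * (r * y * r⁻¹) := by rw [e]
            _ = x * (r * x * r⁻¹) * (y * (r * y * r⁻¹)) := by group) }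
    have hker : f.ker.map (A ⊓ B : Subgroup G).subtype ≤ t.fixPart r := by
      rintro _ ⟨x, hx, rfl⟩
      have e : (x : G) * (r * x * r⁻¹) = 1 := congrArg Subtype.val hx
      refine t.mem_fixPart.2 ⟨x.2, ?_⟩
      have e1 : r * x * r⁻¹ = x := by
        rw [← inv_eq_of_mul_eq_one_right e, inv_eq_of_mul_eq_one_right (hsq x x.2)]
      exact mul_inv_eq_iff_eq_mul.1 e1
    have hrange : f.range.map (A ⊓ B : Subgroup G).subtype ≤ t.fixPart r := by
      rintro _ ⟨_, ⟨x, rfl⟩, rfl⟩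
      refine t.mem_fixPart.2 ⟨(f x).2, ?_⟩
      show r * ((x : G) * (r * x * r⁻¹)) = (x : G) * (r * x * r⁻¹) * r
      rw [show r⁻¹ = r from inv_eq_of_mul_eq_one_right h2]
      have e := t.comm_sq hsq x.2 (hm x x.2)
      rw [show r⁻¹ = r from inv_eq_of_mul_eq_one_right h2] at e
      calc r * ((x : G) * (r * x * r)) = r * ((r * x * r) * x) := by rw [e]
        _ = (r * r) * (x * r * x) := by group
        _ = x * r * x * (r * r) := by rw [h2, one_mul, mul_one]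
        _ = _ := by group
    have k1 : Nat.card f.ker ≤ Nat.card ↥(t.fixPart r) := by
      rw [← card_map_of_injective (f := (A ⊓ B : Subgroup G).subtype) Subtype.val_injective]
      exact Nat.card_le_card_of_injective _ (Subgroup.inclusion_injective hker)
    have k2 : Nat.card f.range ≤ Nat.card ↥(t.fixPart r) := by
      rw [← card_map_of_injective (f := (A ⊓ B : Subgroup G).subtype) Subtype.val_injective]
      exact Nat.card_le_card_of_injective _ (Subgroup.inclusion_injective hrange)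
    have k3 := f.ker.card_mul_index
    rw [index_ker] at k3
    by_contra hlt
    push Not at hlt
    have := Nat.mul_le_mul k1 k2
    have := Nat.mul_le_mul (Nat.lt_succ_iff.1 hlt) (Nat.lt_succ_iff.1 hlt)
    omega
  rw [Nat.card_eq_fintype_card] at hcard
  obtain ⟨a, b, c, hab, hac, hbc⟩ := Fintype.two_lt_card_iff.1 (show 2 < _ from hcard)
  by_cases ha : (a : G) = 1
  · exact ⟨b, c, b.2, c.2, fun h => hab (Subtype.ext (ha.trans h.symm)),
      fun h => hac (Subtype.ext (ha.trans h.symm)), fun h => hbc (Subtype.ext h)⟩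
  by_cases hb : (b : G) = 1
  · exact ⟨a, c, a.2, c.2, ha, fun h => hbc (Subtype.ext (hb.trans h.symm)), fun h => hac (Subtype.ext h)⟩
  exact ⟨a, b, a.2, b.2, ha, hb, fun h => hab (Subtype.ext h)⟩

end Twin

/-- the twin together with the control of centralisers of points fixed by exchanging involutions -/
structure TwinCent (A B : Subgroup G) : Prop extends Twin A B where
  char2 : Cfsg.IsCharacteristicTwoType G
  big8 : 8 ≤ Nat.card ↥(A ⊓ B : Subgroup G)
  cent : ∀ r : G, Outer A B r → r * r = 1 → ∀ z ∈ A ⊓ B, r * z = z * r → z ≠ 1 →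
    ∀ c : G, c * z = z * c → c ∈ normalizer ((A ⊔ B : Subgroup G) : Set G)
  noNormal : ∀ P : Subgroup G, P.Normal → IsPGroup 2 ↥P → P = ⊥

namespace TwinCent

variable [Finite G] {A B : Subgroup G} (t : TwinCent A B)
include t

/-- the fusion of exchanging involutions is separate -/
theorem no_fusion {r i h : G} (hr : Outer A B r) (h2 : r * r = 1) (hi : i ∈ A ⊓ B)
    (hci : ∀ c : G, c * i = i * c → c ∈ normalizer ((A ⊔ B : Subgroup G) : Set G)) (e : h * i * h⁻¹ = r) :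
    False := by
  have t' := t.toTwin
  obtain ⟨a, b, ha, hb, ha1, hb1, hab⟩ := t'.fix_card hr h2 t.big8
  have hsqm : ∀ w ∈ t'.fixPart r, w * w = 1 := fun w hw => t.sqA w (mem_inf.1 (mem_inf.1 hw).1).1
  have hin : ∀ w ∈ t'.fixPart r, h⁻¹ * w * h ∈ normalizer ((A ⊔ B : Subgroup G) : Set G) := by
    intro w hw
    refine hci _ ?_
    have hc := (t'.mem_fixPart.1 hw).2
    calc h⁻¹ * w * h * i = h⁻¹ * (w * (h * i * h⁻¹)) * h := by group
      _ = h⁻¹ * ((h * i * h⁻¹) * w) * h := by rw [e, hc]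
      _ = i * (h⁻¹ * w * h) := by group
  obtain ⟨w, hw, hw1, hws⟩ : ∃ w, w ∈ t'.fixPart r ∧ w ≠ 1 ∧ h⁻¹ * w * h ∈ twinStab A B := by
    by_cases h1 : h⁻¹ * a * h ∈ twinStab A B
    · exact ⟨a, ha, ha1, h1⟩
    by_cases h2' : h⁻¹ * b * h ∈ twinStab A B
    · exact ⟨b, hb, hb1, h2'⟩
    refine ⟨a * b, mul_mem ha hb, fun e1 => hab ?_, ?_⟩
    · rw [← inv_eq_of_mul_eq_one_right (hsqm b hb)]
      exact eq_inv_of_mul_eq_one_left e1
    · rw [show h⁻¹ * (a * b) * h = h⁻¹ * a * h * (h⁻¹ * b * h) by group]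
      exact t'.outer_mul ⟨hin a ha, h1⟩ ⟨hin b hb, h2'⟩
  set w' := h⁻¹ * w * h with hw'
  have hw'2 : w' * w' = 1 := by
    rw [hw', show h⁻¹ * w * h * (h⁻¹ * w * h) = h⁻¹ * (w * w) * h by group, hsqm w hw, mul_one, inv_mul_cancel]
  obtain ⟨P, hPsq, hPc, hiP, hwP⟩ : ∃ P : Subgroup G, (∀ p ∈ P, p * p = 1) ∧
      Nat.card ↥A ≤ Nat.card ↥P ∧ i ∈ P ∧ w' ∈ P := by
    rcases t'.inner (t'.stab_inner hws hw'2) hw'2 with h' | h'
    · exact ⟨A, t.sqA, le_rfl, (mem_inf.1 hi).1, h'⟩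
    · exact ⟨B, t.sqB, t.card_eq.le, (mem_inf.1 hi).2, h'⟩
  have hsq : ∀ p ∈ cjg h P, p * p = 1 := by
    rintro _ ⟨p, hp, rfl⟩
    show h * p * h⁻¹ * (h * p * h⁻¹) = 1
    rw [show h * p * h⁻¹ * (h * p * h⁻¹) = h * (p * p) * h⁻¹ by group, hPsq p hp, mul_one, mul_inv_cancel]
  have hrE : r ∈ cjg h P := ⟨i, hiP, e⟩
  have hwE : w ∈ cjg h P := ⟨w', hwP, by show h * w' * h⁻¹ = w; rw [hw']; group⟩
  have hN : cjg h P ≤ normalizer ((A ⊔ B : Subgroup G) : Set G) := fun p hp =>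
    t.cent r hr h2 w (mem_inf.1 hw).1 (t'.mem_fixPart.1 hw).2 hw1 p (t'.comm_sq hsq hp hwE)
  exact hr.2 (t'.elem_out hN hsq (hPc.trans (Cfsg.Lib.LTP.card_cjg h P).ge) hrE)

/-- **the centraliser of an exchanging involution normalises the join** -/
theorem cent_outer {u : G} (hu : Outer A B u) (h2 : u * u = 1) {c : G} (hc : c * u = u * c) :
    c ∈ normalizer ((A ⊔ B : Subgroup G) : Set G) := by
  have t' := t.toTwin
  have hu1 : u ≠ 1 := fun e => hu.2 (e ▸ one_mem _)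
  set N := normalizer ((A ⊔ B : Subgroup G) : Set G)
  set X := normalizer (zpowers u : Set G)
  have hXu : ∀ k, k ∈ X ↔ k * u = u * k := fun k => Cfsg.Lib.LTP.mem_norm_invol h2 hu1
  have hu2 : IsPGroup 2 ↥(zpowers u) := Cfsg.Lib.LTP.two_of_pow (k := 1) (by rw [pow_one, pow_two, h2])
  set R := Cfsg.pCoreOf 2 X
  have hR : IsPGroup 2 ↥R := Cfsg.Lib.JComp.isPGroup_pCoreOf _
  have hRX : R ≤ X := Cfsg.Lib.JComp.pCoreOf_le X
  have hXR : X ≤ normalizer (R : Set G) :=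
    le_normalizer.trans (Cfsg.Lib.JComp.normalizer_le_pCoreOf 2 X)
  have huR : zpowers u ≤ R := Cfsg.Lib.JComp.le_pCoreOf hu2 (zpowers_le.2 ((hXu u).2 rfl)) le_rfl
  set Z := t'.fixPart u
  have hZX : Z ≤ X := fun z hz => (hXu z).2 (t'.mem_fixPart.1 hz).2.symm
  have hsqZ : ∀ z ∈ Z, z * z = 1 := fun z hz => t.sqA z (mem_inf.1 (mem_inf.1 hz).1).1
  have hcent : ∀ z ∈ Z, z ≠ 1 → ∀ c : G, c * z = z * c → c ∈ N := fun z hz hz1 =>
    t.cent u hu h2 z (mem_inf.1 hz).1 (t'.mem_fixPart.1 hz).2 hz1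
  by_cases hmeet : ∃ z ∈ Z, z ≠ 1 ∧ z ∈ R
  · obtain ⟨z, hz, hz1, hzR⟩ := hmeet
    -- conjugates of the point stay among the fixed points
    have hmove : ∀ y : G, y * z * y⁻¹ ∈ R → y * z * y⁻¹ ∈ N → y ∈ N := by
      intro y hyR hyN
      have hs : (y * z * y⁻¹) * (y * z * y⁻¹) = 1 := by
        rw [show y * z * y⁻¹ * (y * z * y⁻¹) = y * (z * z) * y⁻¹ by group, hsqZ z hz, mul_one, mul_inv_cancel]
      by_cases hst : y * z * y⁻¹ ∈ twinStab A B
      · have hf := t'.stab_fixed hu hst hs ((hXu _).1 (hRX hyR)).symm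
        refine t'.align (mem_inf.1 hz).1 (t.cent u hu h2 _ hf ((hXu _).1 (hRX hyR)).symm fun e => hz1 ?_)
        rwa [conj_eq_one_iff] at e
      · exact (t.no_fusion ⟨hyN, hst⟩ hs (mem_inf.1 hz).1 (hcent z hz hz1) rfl).elim
    have hRN : R ≤ N := by
      by_contra hne
      haveI : Fact (Nat.Prime 2) := ⟨Nat.prime_two⟩
      haveI := hR.isNilpotent
      have hlt : (N.subgroupOf R) < ⊤ := lt_top_iff_ne_top.2 fun e => hne (subgroupOf_eq_top.1 e)
      obtain ⟨⟨y, hyR⟩, hyn, hyN⟩ := SetLike.exists_of_lt (normalizerCondition_of_isNilpotent _ hlt)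
      refine hyN (mem_subgroupOf.2 (hmove y (mul_mem (mul_mem hyR hzR) (inv_mem hyR)) ?_))
      exact mem_subgroupOf.1 ((mem_normalizer_iff.1 hyn ⟨z, hzR⟩).1
        (mem_subgroupOf.2 (hcent z hz hz1 z rfl)))
    have hcX : c ∈ X := (hXu c).2 hc
    have hzc : c * z * c⁻¹ ∈ R := (mem_normalizer_iff.1 (hXR hcX) z).1 hzR
    exact hmove c hzc (hRN hzc)
  · push Not at hmeet
    exfalso
    haveI : Fact (Nat.Prime 2) := ⟨Nat.prime_two⟩
    -- the part of the core commuting with a fixed point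
    have hsmall : ∀ z ∈ Z, z ≠ 1 → ∀ r ∈ R, r * z = z * r → r = 1 ∨ r = u := by
      intro z hz hz1 r hr hrz
      have hst1 : ∀ s ∈ R, s ∈ twinStab A B → s = 1 := by
        intro s hs hss
        by_contra hs1
        obtain ⟨k, hk⟩ := hR ⟨s, hs⟩
        have hsk : s ^ 2 ^ k = 1 := congrArg Subtype.val hk
        -- a power which is an involution
        obtain ⟨j, hj1, hj2⟩ : ∃ j : ℕ, s ^ j ≠ 1 ∧ s ^ j * s ^ j = 1 := by
          obtain ⟨i, -, hi⟩ := (Nat.dvd_prime_pow Nat.prime_two).1 (orderOf_dvd_of_pow_eq_one hsk)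
          have hi1 : 1 ≤ i := by
            rcases Nat.eq_zero_or_pos i with h | h
            · rw [h, pow_zero, orderOf_eq_one_iff] at hi; exact absurd hi hs1
            · exact h
          refine ⟨2 ^ (i - 1), fun h => ?_, ?_⟩
          · have := orderOf_dvd_of_pow_eq_one h
            rw [hi, Nat.pow_dvd_pow_iff_le_right (by norm_num)] at this
            omega
          · rw [← pow_add, ← two_mul, ← pow_succ', Nat.sub_add_cancel hi1, ← hi, pow_orderOf_eq_one]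
        have hsj : s ^ j ∈ R := pow_mem hs j
        have hf := t'.stab_fixed hu (pow_mem hss j) hj2 ((hXu _).1 (hRX hsj)).symm
        exact hmeet _ (t'.mem_fixPart.2 ⟨hf, ((hXu _).1 (hRX hsj)).symm⟩) hj1 hsj
      have hrN : r ∈ N := hcent z hz hz1 r hrz
      by_cases hrs : r ∈ twinStab A B
      · exact Or.inl (hst1 r hr hrs)
      · right
        have := hst1 (r * u) (mul_mem hr (huR (mem_zpowers u))) (t'.outer_mul ⟨hrN, hrs⟩ hu)
        rw [eq_inv_of_mul_eq_one_left this, inv_eq_of_mul_eq_one_right h2]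
    -- the core is generated by the involution
    have hRu : ∀ r ∈ R, r = 1 ∨ r = u := by
      by_contra hne
      push Not at hne
      obtain ⟨r₀, hr₀, hr₀1, hr₀u⟩ := hne
      have hZ2 : IsPGroup 2 ↥Z := fun z => ⟨1, Subtype.ext (by
        show (z : G) ^ 2 ^ 1 = 1
        rw [pow_one, pow_two]; exact hsqZ z z.2)⟩
      set P := R ⊔ Z
      haveI := (hR.to_sup_of_normal_left' hZ2 (hZX.trans hXR)).isNilpotent
      set Hs := zpowers u ⊔ Z
      have hHR : ∀ g ∈ Hs, g ∈ R → g = 1 ∨ g = u := by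
        intro g hg hgR
        rw [← SetLike.mem_coe, coe_mul_of_right_le_normalizer_left (zpowers u) Z hZX] at hg
        obtain ⟨a, ha, z, hz, rfl⟩ := hg
        have h1 := R.mul_mem (inv_mem (huR ha)) hgR
        rw [inv_mul_cancel_left] at h1
        have hz1 : z = 1 := by_contra fun hz1 => hmeet z hz hz1 h1
        show a * z = 1 ∨ a * z = u
        rw [hz1, mul_one]
        exact Cfsg.Lib.LTP.mem_zpowers_invol h2 ha
      have hsub : Hs.subgroupOf P < ⊤ := lt_top_iff_ne_top.2 fun e => by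
        rcases hHR r₀ (subgroupOf_eq_top.1 e (mem_sup_left hr₀)) hr₀ with h | h
        exacts [hr₀1 h, hr₀u h]
      obtain ⟨⟨p, hpP⟩, hpn, hpH⟩ := SetLike.exists_of_lt (normalizerCondition_of_isNilpotent _ hsub)
      have hpP' := hpP
      rw [← SetLike.mem_coe, coe_mul_of_right_le_normalizer_left R Z (hZX.trans hXR)] at hpP'
      obtain ⟨r, hr, v₀, hv₀, rfl⟩ := hpP'
      have hrH : r ∉ Hs := fun hrH => hpH (mem_subgroupOf.2 (Hs.mul_mem hrH (mem_sup_right hv₀)))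
      have hHP : Hs ≤ P := sup_le (huR.trans le_sup_left) le_sup_right
      have hcomm : ∀ v ∈ Z, r * v * r⁻¹ * v⁻¹ = 1 ∨ r * v * r⁻¹ * v⁻¹ = u := by
        intro v hv
        refine hHR _ ?_ ?_
        · have h1 : r * v₀ * v * (r * v₀)⁻¹ ∈ Hs :=
            (mem_normalizer_iff.1 hpn ⟨v, hHP (mem_sup_right hv)⟩).1 (mem_sup_right hv)
          rw [show r * v₀ * v * (r * v₀)⁻¹ = r * (v₀ * v * v₀⁻¹) * r⁻¹ by group,
            t'.comm_sq hsqZ hv₀ hv, mul_inv_cancel_right] at h1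
          exact Hs.mul_mem h1 (inv_mem (mem_sup_right hv))
        · have := R.mul_mem hr ((mem_normalizer_iff.1 (hXR (hZX hv)) r⁻¹).1 (inv_mem hr))
          rwa [show r * (v * r⁻¹ * v⁻¹) = r * v * r⁻¹ * v⁻¹ by group] at this
      have hinj : ∀ v ∈ Z, v ≠ 1 → r * v * r⁻¹ * v⁻¹ = u := by
        intro v hv hv1
        refine (hcomm v hv).resolve_left fun e => hrH ?_
        rcases hsmall v hv hv1 r hr (mul_inv_eq_iff_eq_mul.1 (mul_inv_eq_one.1 e)) with h | h
        · rw [h]; exact one_mem _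
        · rw [h]; exact mem_sup_left (mem_zpowers u)
      obtain ⟨a, b, ha, hb, ha1, hb1, hab⟩ := t'.fix_card hu h2 t.big8
      have hab1 : a * b ≠ 1 := fun e => hab (by
        rw [← inv_eq_of_mul_eq_one_right (hsqZ b hb)]
        exact eq_inv_of_mul_eq_one_left e)
      have h3 := hinj _ (mul_mem ha hb) hab1
      rw [show r * (a * b) * r⁻¹ * (a * b)⁻¹ = r * a * r⁻¹ * a⁻¹ * (a * (r * b * r⁻¹ * b⁻¹) * a⁻¹) by group,
        hinj a ha ha1, hinj b hb hb1, (hXu a).1 (hZX ha), mul_inv_cancel_right, h2] at h3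
      exact hu1 h3.symm
    obtain ⟨a, -, ha, -, ha1, -, -⟩ := t'.fix_card hu h2 t.big8
    refine hmeet a ha ha1 (Cfsg.Lib.LTP.loc_core t.char2 hu2 (fun e => hu1 (zpowers_eq_bot.1 e)) (hZX ha)
      fun r hr => ?_)
    rcases hRu r hr with rfl | rfl
    · simp
    · exact (hXu a).1 (hZX ha)

/-- **there is no exchanging involution** -/
theorem false_of_outer {u : G} (hu : Outer A B u) (h2 : u * u = 1) : False := by
  have t' := t.toTwin
  have hu1 : u ≠ 1 := fun e => hu.2 (e ▸ one_mem _)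
  obtain ⟨i, -, hi, -, hi1, -, -⟩ := t'.fix_card hu h2 t.big8
  obtain ⟨hiM, hiu⟩ := t'.mem_fixPart.1 hi
  have hci := t.cent u hu h2 i hiM hiu hi1
  have hisq : i * i = 1 := t.sqA i (mem_inf.1 hiM).1
  have ho : orderOf u = 2 := Cfsg.Lib.InvolCalc.order_two_of_mul_self h2 hu1
  have key : ∀ h : G, h * i * h⁻¹ ∈ A ⊔ B := by
    intro h
    set r := h * i * h⁻¹ with hr
    have hr2 : r * r = 1 := by
      rw [hr, show h * i * h⁻¹ * (h * i * h⁻¹) = h * (i * i) * h⁻¹ by group, hisq, mul_one, mul_inv_cancel]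
    have hr1 : r ≠ 1 := fun e => hi1 (by rwa [hr, conj_eq_one_iff] at e)
    have hor : orderOf r = 2 := Cfsg.Lib.InvolCalc.order_two_of_mul_self hr2 hr1
    have hrN : r ∈ normalizer ((A ⊔ B : Subgroup G) : Set G) := by
      rcases Nat.even_or_odd (orderOf (r * u)) with he | ho'
      · obtain ⟨hc2, hcr, hcu⟩ := Cfsg.Lib.InvolCalc.central_spec hor ho he
        set c := (r * u) ^ (orderOf (r * u) / 2)
        have hc1 : c ≠ 1 := Cfsg.Lib.InvolCalc.ne_one_of_order_two hc2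
        have hcc : c * c = 1 := Cfsg.Lib.InvolCalc.sq_of_order_two hc2
        have hcN := t.cent_outer hu h2 hcu.eq
        by_cases hst : c ∈ twinStab A B
        · exact t.cent u hu h2 c (t'.stab_fixed hu hst hcc hcu.eq.symm) hcu.eq.symm hc1 r hcr.eq.symm
        · exact t.cent_outer ⟨hcN, hst⟩ hcc hcr.eq.symm
      · obtain ⟨d, -, hd⟩ := Cfsg.Lib.InvolCalc.conj_of_odd hor ho ho'
        exact (t.no_fusion hu h2 hiM hci (h := d * h) (by rw [← hd, hr]; group)).elim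
    by_cases hst : r ∈ twinStab A B
    · exact t'.stab_inner hst hr2
    · exact (t.no_fusion ⟨hrN, hst⟩ hr2 hiM hci rfl).elim
  set P := normalClosure ({i} : Set G)
  have hP : P ≤ A ⊔ B := by
    refine (closure_le _).2 fun x hx => ?_
    obtain ⟨_, rfl, hc⟩ := Group.mem_conjugatesOfSet_iff.1 hx
    obtain ⟨h, rfl⟩ := isConj_iff.1 hc
    exact key h
  have hbot := t.noNormal P inferInstance (t'.two.to_le hP)
  refine hi1 ?_
  have hiP : i ∈ P := subset_normalClosure (show i ∈ ({i} : Set G) from rfl)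
  rwa [hbot, mem_bot] at hiP

end TwinCent

end Cfsg.Lib.PushPair
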