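import Cfsg.Agent.PushPair.NatTorus
import Cfsg.Agent.PushPair.Trick
import Cfsg.Agent.LThreePlane.Common
import Cfsg.Agent.LThreePlane.Small
import Cfsg.Agent.LThreePlane.Split
import Cfsg.Agent.LThreePlane.Points

/-!
# The natural module without a part centralising the residual
-/

set_option autoImplicit false
set_option linter.style.haveILetI false

namespace Cfsg.Lib.PushPair

open Subgroup
open Cfsg.Lib.LTP (cjg SL2 upGroup up Blk)

variable {G : Type*} [Group G]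

theorem mem_norm_cjg {g x : G} {A : Subgroup G} :
    x ∈ normalizer (cjg g A : Set G) ↔ g⁻¹ * x * g ∈ normalizer (A : Set G) := by
  rw [← Cfsg.Lib.LTP.cjg_eq_iff, ← Cfsg.Lib.LTP.cjg_eq_iff, Cfsg.Lib.LTP.cjg_mul, Cfsg.Lib.LTP.cjg_mul]
  constructor
  · intro h; rw [h, ← Cfsg.Lib.LTP.cjg_mul, inv_mul_cancel, Cfsg.Lib.LTP.cjg_one]
  · intro h
    have := congrArg (cjg g) h
    rwa [← Cfsg.Lib.LTP.cjg_mul, mul_inv_cancel, Cfsg.Lib.LTP.cjg_one] at this

/-- the image of a block under conjugation -/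
noncomputable def conjBlk {F : Type*} [Field F] (B : Blk F G) (g : G) : Blk F G where
  L := cjg g B.L
  V := cjg g B.V
  v z y := g * B.v z y * g⁻¹
  π :=
    { toFun := fun x => B.π ⟨g⁻¹ * (x : G) * g, Cfsg.Lib.LTP.mem_cjg.1 x.2⟩
      map_one' := by
        rw [show (⟨g⁻¹ * ((1 : ↥(cjg g B.L)) : G) * g, _⟩ : ↥B.L) = 1 from Subtype.ext (by simp), map_one]
      map_mul' := fun x y => by
        rw [← map_mul]
        congr 1
        exact Subtype.ext (show g⁻¹ * ((x : G) * y) * g = g⁻¹ * x * g * (g⁻¹ * y * g) by group) }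
  vle := map_mono B.vle
  surj := fun A => by
    obtain ⟨⟨l, hl⟩, rfl⟩ := B.surj A
    refine ⟨⟨g * l * g⁻¹, Cfsg.Lib.LTP.cjg_mem hl⟩, ?_⟩
    exact congrArg B.π (Subtype.ext (show g⁻¹ * (g * l * g⁻¹) * g = l by group))
  ker := by
    ext ⟨x, hx⟩
    rw [MonoidHom.mem_ker, mem_subgroupOf]
    exact (B.π_eq_one _).trans Cfsg.Lib.LTP.mem_cjg.symm
  mem_V x := by
    constructor
    · rintro ⟨a, ha, rfl⟩
      obtain ⟨z, y, rfl⟩ := (B.mem_V a).1 ha
      exact ⟨z, y, rfl⟩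
    · rintro ⟨z, y, rfl⟩
      exact ⟨_, B.v_mem z y, rfl⟩
  v_add z y z' y' := by rw [B.v_add]; group
  v_inj z y z' y' e := B.v_inj z y z' y' (mul_left_cancel (mul_right_cancel e))
  act x hx z y := by
    show x * (g * B.v z y * g⁻¹) * x⁻¹ = _
    simp only [MonoidHom.coe_mk, OneHom.coe_mk]
    rw [← B.act _ (Cfsg.Lib.LTP.mem_cjg.1 hx)]
    group

variable [Finite G] {F : Type*} [Field F] [Finite F] [CharP F 2] {H T : Subgroup G} {g : G}

namespace NatCtx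

variable (n : NatCtx F H T g)
include n

omit [Finite F] in
theorem pow_odd_swap {m : ℕ} (hm : Odd m) (h2 : cjg g (cjg g (Qr H)) = Qr H) :
    cjg (g ^ m) (Qr H) = cjg g (Qr H) := by
  obtain ⟨j, rfl⟩ := hm
  induction j with
  | zero => simp
  | succ j ih =>
    rw [show 2 * (j + 1) + 1 = 2 + (2 * j + 1) by ring, pow_add, pow_two, Cfsg.Lib.LTP.cjg_mul, ih,
      Cfsg.Lib.LTP.cjg_mul, h2]

theorem noNormal (P : Subgroup G) (hP : P.Normal) (h2 : IsPGroup 2 ↥P) : P = ⊥ :=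
  n.v.su.no_invariant h2 (by rw [normalizer_eq_top_iff.2 hP]; exact le_top) n.v.out
    (by rw [normalizer_eq_top_iff.2 hP]; exact mem_top g)

/-- **the natural case with trivial `D`** -/
theorem case_A (hD : Dr H = ⊥) : Cfsg.SectionalPRankLE 2 4 G := by
  classical
  haveI : Fact (Nat.Prime 2) := ⟨Nat.prime_two⟩
  letI := Fintype.ofFinite F
  have hZ : Zr H = ⊥ := le_bot_iff.1 (n.v.Zr_le_Dr.trans hD.le)
  have hQW : Qr H = Wr H := by
    refine le_antisymm (fun q hq => ?_) (Wr_le_Qr H)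
    obtain ⟨w, hw, r, hr, rfl⟩ := n.Q_dec hq
    obtain ⟨l, hl, hrl⟩ := n.meet_dec hr
    rw [hD, mem_bot] at hrl
    rw [eq_inv_of_mul_eq_one_left hrl]
    exact mul_mem hw (inv_mem hl.1)
  have hTk : Tk H T = T ⊓ Kr H :=
    sup_eq_left.2 (hQW.le.trans (le_inf n.v.su.Wr_le_T' (Wr_le_Kr H)))
  choose e he he0 he1 using n.m.onto
  have einj : ∀ a ∈ Wr H, ∀ b ∈ Wr H, n.m.c₀ a = n.m.c₀ b → n.m.c₁ a = n.m.c₁ b → a = b := by
    intro a ha b hb h0 h1
    have h := n.m.ext_mod ha hb h0 h1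
    rw [hZ, mem_bot] at h
    rw [eq_inv_of_mul_eq_one_left h, inv_eq_of_mul_eq_one_right (n.m.sq b hb)]
  let A : Blk F G :=
    { L := Kr H, V := Wr H, v := e, π := n.m.π
      vle := Wr_le_Kr H, surj := n.m.surj
      ker := by ext ⟨x, hx⟩; rw [MonoidHom.mem_ker, mem_subgroupOf]; exact n.m.ker x hx
      mem_V := fun x => ⟨fun hx => ⟨n.m.c₀ x, n.m.c₁ x, einj x hx _ (he _ _) (he0 _ _).symm (he1 _ _).symm⟩,
        by rintro ⟨z, y, rfl⟩; exact he z y⟩
      v_add := fun z y z' y' => einj _ (he _ _) _ (mul_mem (he _ _) (he _ _))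
        (by rw [n.m.add₀ _ (he _ _) _ (he _ _), he0, he0, he0])
        (by rw [n.m.add₁ _ (he _ _) _ (he _ _), he1, he1, he1])
      v_inj := fun z y z' y' h => ⟨by rw [← he0 z y, h, he0], by rw [← he1 z y, h, he1]⟩
      act := fun l hl z y => einj _ (conj_mem_Wr hl (he z y)) _ (he _ _)
        (by rw [n.m.act₀ l hl _ (he z y), he0, he0, he1]) (by rw [n.m.act₁ l hl _ (he z y), he1, he0, he1]) }
  let B := conjBlk A g
  have hgTk := n.norm_Tk
  have hA : ∀ x, x ∈ Tk H T ↔ ∃ hl : x ∈ A.L, A.π ⟨x, hl⟩ ∈ upGroup F := fun x => by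
    rw [hTk, mem_inf]
    exact ⟨fun h => ⟨h.2, (n.m.frame x h.2).1 h.1⟩, fun ⟨hl, h⟩ => ⟨(n.m.frame x hl).2 h, hl⟩⟩
  have hB : ∀ x, x ∈ Tk H T ↔ ∃ hl : x ∈ B.L, B.π ⟨x, hl⟩ ∈ upGroup F := fun x => by
    have hx : x ∈ Tk H T ↔ g⁻¹ * x * g ∈ Tk H T := by
      conv_lhs => rw [← Cfsg.Lib.LTP.cjg_eq_iff.2 hgTk]
      exact mem_cjg_iff
    rw [hx, hA]
    constructor
    · rintro ⟨hl, h⟩
      exact ⟨Cfsg.Lib.LTP.mem_cjg.2 hl, h⟩
    · rintro ⟨hl, h⟩
      exact ⟨Cfsg.Lib.LTP.mem_cjg.1 hl, h⟩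
  obtain ⟨D, hD1, hD2L, hD2V⟩ := Cfsg.Lib.LTP.exists_duo A B (Tk H T) hA hB (by
    rw [← n.Tk_eq, hQW, sup_comm]; rfl)
  have hL1 : D.one.L = Kr H := by rw [hD1]
  have hV1 : D.one.V = Wr H := by rw [hD1]
  have hL2 : D.two.L = cjg g (Kr H) := hD2L
  have hV2 : D.two.V = cjg g (Wr H) := hD2V
  have hDJ : D.J = Tk H T := by
    rw [D.J_eq_sup, hV1, hV2, ← n.Tk_eq, hQW, sup_comm]
  have hNW : normalizer (Wr H : Set G) = Mr H := le_antisymm n.v.norm_W_le (Mr_norm_Wr H)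
  -- a Sylow subgroup of `M` above `T`
  obtain ⟨P, hTP⟩ := (n.v.su.T_two.comap_of_injective (Mr H).subtype Subtype.val_injective).exists_le_sylow
  set Tm := (P : Subgroup ↥(Mr H)).map (Mr H).subtype
  have hTTm : T ≤ Tm := fun x hx => ⟨⟨x, n.v.su.T_le_M hx⟩, hTP hx, rfl⟩
  have hTm : IsPGroup 2 ↥Tm := P.isPGroup'.map _
  have hTmN : Tm ≤ Mr H := map_subtype_le _
  have hyp : Cfsg.Lib.LTP.Hyp D := by
    refine Cfsg.Lib.LTP.hyp_of n.v.su.char2 (by rw [← Nat.card_eq_fintype_card]; exact n.four) D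
      (by rw [hV1, hL1]; exact hNW) ?_ Tm hTm (hDJ.le.trans (n.Tk_le_T.trans hTTm))
      (by rw [hL1]; exact hTmN) (fun x hx hord => ?_) ?_
    · rw [hV2, hL2]
      ext x
      rw [mem_norm_cjg, mem_norm_cjg, hNW]
    · rw [hL1] at hx
      obtain ⟨m, hm, hxm⟩ := Cfsg.Lib.LTP.sylow_conj hTmN hTm (fun Q hQ hTQ hQN => by
        refine le_antisymm (fun y hy => ?_) hTQ
        have := P.3 (hQ.comap_of_injective (Mr H).subtype Subtype.val_injective)
          (fun u hu => hTQ ⟨u, hu, rfl⟩ : (P : Subgroup ↥(Mr H)) ≤ Q.comap (Mr H).subtype)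
        exact ⟨⟨y, hQN hy⟩, this.le hy, rfl⟩)
        (Cfsg.Lib.LTP.two_of_pow (k := 1) (by rw [pow_one, ← hord, pow_orderOf_eq_one])) (zpowers_le.2 hx)
      exact ⟨m, by rw [hL1]; exact hm, Cfsg.Lib.LTP.mem_cjg.1 (hxm (mem_zpowers x))⟩
    · rw [hL1, hL2]
      by_contra hne
      set Y := Tm ⊔ Kr H ⊔ cjg g (Kr H)
      have hHY : H ≤ Y := n.v.su.sup_eq.ge.trans (sup_le (le_sup_right.trans le_sup_left)
        (hTTm.trans (le_sup_left.trans le_sup_left)))
      have hYn : Y ≤ normalizer (Cfsg.pCoreOf 2 Y : Set G) :=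
        le_normalizer.trans (Cfsg.Lib.JComp.normalizer_le_pCoreOf 2 Y)
      have hM := n.v.su.local_le (Cfsg.Lib.JComp.isPGroup_pCoreOf Y) hne (hHY.trans hYn)
      refine n.v.su.conj_H_not_le n.v.out ?_
      conv_lhs => rw [← n.v.su.sup_eq]
      show (Kr H ⊔ T).map (MulAut.conj g).toMonoidHom ≤ _
      rw [Subgroup.map_sup]
      exact sup_le (((le_sup_right : cjg g (Kr H) ≤ Y).trans hYn).trans hM)
        (n.v.cjg_T.le.trans n.v.su.T_le_M)
  rcases eq_or_ne (Fintype.card F) 4 with h4 | h4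
  · exact hyp.sectional_four h4
  have h8 : 8 ≤ Fintype.card F := by
    obtain ⟨k, hk⟩ := Cfsg.Lib.LTP.exists_exp (F := F)
    have h := n.four
    rw [Nat.card_eq_fintype_card] at h
    rw [hk] at h h4 ⊢
    have h2 : 2 ≤ k := by
      by_contra hh
      have := Nat.pow_le_pow_right (show 2 ≥ 1 by norm_num) (show k ≤ 1 by omega)
      omega
    have h3 : 3 ≤ k := by
      rcases eq_or_lt_of_le h2 with rfl | h3
      · exact absurd (by norm_num) h4
      · exact h3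
    exact le_trans (by norm_num) (Nat.pow_le_pow_right (show 2 ≥ 1 by norm_num) h3)
  exfalso
  -- a 2-element exchanging the modules
  obtain ⟨k, m, hm, hord⟩ := Nat.exists_eq_two_pow_mul_odd (orderOf_pos g).ne'
  have hp : g ^ m ∉ D.stab := fun hs => n.cores_ne (by
    rw [← n.pow_odd_swap hm n.swap_Q, hQW]
    exact (Cfsg.Lib.LTP.cjg_eq_iff.2 (show g ^ m ∈ normalizer (Wr H : Set G) from hV1 ▸ hs.1)).symm)
  obtain ⟨u, hu, hus, hu2⟩ := hyp.exists_invol h8 (p := g ^ m)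
    (by rw [hDJ]; exact pow_mem hgTk m) hp (k := k)
    (by rw [← pow_mul, mul_comm, ← hord, pow_orderOf_eq_one])
  have hJW : D.one.V ⊔ D.two.V = D.J := D.J_eq_sup.symm
  have tw : Twin D.one.V D.two.V :=
    { sqA := fun a ha => D.one.sq_V ha
      sqB := fun a ha => D.two.sq_V ha
      ne := D.V1_ne_V2
      card_eq := by rw [D.one.card_V, D.two.card_V]
      elem := fun E hE hsq => D.elem_le (hJW ▸ hE) hsq
      big := by
        rw [hV1, hV2, ← hQW]
        exact n.big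
      two := by rw [hJW]; exact D.J_two
      stab2 := fun x hx hx' j hj => by rw [hJW]; exact hyp.stab_two h8 j (mem_inf.2 ⟨hx, hx'⟩) hj }
  have tc : TwinCent D.one.V D.two.V :=
    { toTwin := tw
      char2 := n.v.su.char2
      big8 := by
        refine h8.trans ?_
        rw [← Nat.card_eq_fintype_card]
        exact Nat.card_le_card_of_injective
          (fun z : F => (⟨D.one.v z 0, mem_inf.2 ⟨D.one.v_mem z 0, D.z_mem2 z⟩⟩ : ↥(D.one.V ⊓ D.two.V : Subgroup G)))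
          fun a b e => (D.one.v_inj _ _ _ _ (congrArg Subtype.val e)).1
      cent := fun r _ _ z hz _ hz1 c hc => by
        obtain ⟨z₀, rfl⟩ := D.inter_eq (mem_inf.1 hz).1 (mem_inf.1 hz).2
        rw [hJW]
        exact hyp.cent_z h8 (fun e => hz1 (by rw [e, D.one.v_zero])) hc
      noNormal := n.noNormal }
  exact tc.false_of_outer (u := u) ⟨by rw [hJW]; exact hu, hus⟩ hu2

end NatCtx

end Cfsg.Lib.PushPair
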