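import Cfsg.Agent.PushPair.NatTorus
import Cfsg.Agent.PushPair.Trick
import Cfsg.Agent.LThreePlane.Semi

/-!
# The natural module with a part centralising the residual covering the line
-/

set_option autoImplicit false
set_option linter.style.haveILetI false

namespace Cfsg.Lib.PushPair

open Subgroup
open Cfsg.Lib.LTP (cjg SL2 upGroup up lo dg)

variable {G : Type*} [Group G] [Finite G] {F : Type*} [Field F] [Finite F] [CharP F 2]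
  {H T : Subgroup G} {g : G}

namespace NatCtx

variable (n : NatCtx F H T g)

/-- the shape of the cores when `D` covers the line -/
structure Split (n : NatCtx F H T g) : Prop where
  QW : Qr H = Wr H
  DZ : Dr H ≤ Zr H
  D'W : cjg g (Dr H) ≤ Wr H
  surj : ∀ c, ∃ d ∈ cjg g (Dr H), n.m.c₀ d = c

include n

theorem sq_norm_Q : g * g ∈ normalizer (Qr H : Set G) :=
  Cfsg.Lib.LTP.cjg_eq_iff.1 (by rw [Cfsg.Lib.LTP.cjg_mul]; exact n.swap_Q)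

theorem swap_D : cjg g (cjg g (Dr H)) = Dr H := by
  rw [← Cfsg.Lib.LTP.cjg_mul, Cfsg.Lib.LTP.cjg_eq_iff]
  exact mem_norm_of_conj fun a ha => conj_mem_Dr n.sq_mem_M n.sq_norm_Q ha

theorem cjg_inv_Q : cjg g⁻¹ (Qr H) = cjg g (Qr H) := by
  conv_lhs => rw [← n.swap_Q]
  exact cjg_inv_cjg g _

theorem cjg_inv_D : cjg g⁻¹ (Dr H) = cjg g (Dr H) := by
  conv_lhs => rw [← n.swap_D]
  exact cjg_inv_cjg g _

theorem D'_le_meet : cjg g (Dr H) ≤ Qr H ⊓ cjg g (Qr H) := le_inf n.D'_le_Q (cjg_mono g inf_le_left)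

/-- **the cores split** -/
theorem exists_split (hD : ∀ c : F, ∃ d ∈ cjg g (Dr H), ∃ l ∈ n.Lw, d * l ∈ Dr H ∧ n.m.c₀ l = c) :
    n.Split := by
  obtain ⟨t, -, ht⟩ := n.exists_gen
  obtain ⟨⟨h, hh⟩, hπ⟩ := n.m.surj (dg t)
  obtain ⟨hQ, hQ', -⟩ := n.tor_norm hh hπ
  -- the moved part lies in the module
  have hfix : ∀ d ∈ cjg g (Dr H), h * d * h⁻¹ = d → d = 1 := by
    intro d hd e
    obtain ⟨l, hl, hdl⟩ := n.meet_dec (n.D'_le_meet hd)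
    have e1 : h * (d * l) * h⁻¹ = d * l := by rw [(mem_Dr.1 hdl).2 h hh, mul_inv_cancel_right]
    have e2 : h * l * h⁻¹ = l := by
      have : h * d * h⁻¹ * (h * l * h⁻¹) = d * l := by rw [← e1]; group
      rw [e] at this
      exact mul_left_cancel this
    have h1 := (n.Lw_conj hh hπ hl).2
    rw [e2] at h1
    have h2 : ((t : F) + 1) * n.m.c₀ l = 0 := by
      linear_combination (-1 : F) * h1 + n.m.c₀ l * CharTwo.two_eq_zero (R := F)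
    have hlZ : l ∈ Zr H :=
      (n.m.zero_iff l hl.1).1 ⟨(mul_eq_zero.1 h2).resolve_left ht, hl.2⟩
    have h3 : d ∈ Dr H ⊓ cjg g (Dr H) :=
      mem_inf.2 ⟨(Subgroup.mul_mem_cancel_right _ (n.v.Zr_le_Dr hlZ)).1 hdl, hd⟩
    rwa [n.v.Dr_disjoint, mem_bot] at h3
  have hD'W : cjg g (Dr H) ≤ Wr H := by
    let f : ↥(cjg g (Dr H)) → ↥(cjg g (Dr H)) := fun d =>
      ⟨h * (d : G) * h⁻¹ * (d : G)⁻¹, mul_mem (n.conj_D' hQ hQ' d.2) (inv_mem d.2)⟩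
    have hf : Function.Injective f := by
      intro a b e
      have e' : h * (a : G) * h⁻¹ * (a : G)⁻¹ = h * b * h⁻¹ * (b : G)⁻¹ := congrArg Subtype.val e
      have h1 : h * (a : G) * h⁻¹ = h * b * h⁻¹ * (b : G)⁻¹ * a := by rw [← e', inv_mul_cancel_right]
      have h2 : h * ((b : G)⁻¹ * a) * h⁻¹ = (b : G)⁻¹ * a := by
        calc h * ((b : G)⁻¹ * a) * h⁻¹ = (h * b * h⁻¹)⁻¹ * (h * a * h⁻¹) := by group
          _ = _ := by rw [h1]; group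
      have := hfix _ (mul_mem (inv_mem b.2) a.2) h2
      exact Subtype.ext (inv_mul_eq_one.1 this).symm
    intro d hd
    obtain ⟨e, he⟩ := Finite.injective_iff_surjective.1 hf ⟨d, hd⟩
    have e1 : h * (e : G) * h⁻¹ * (e : G)⁻¹ = d := congrArg Subtype.val he
    rw [← e1]
    have h1 := inv_mem ((Qr_le_centPart H (n.D'_le_Q e.2)).2 h hh)
    rwa [show ((e : G) * h * (e : G)⁻¹ * h⁻¹)⁻¹ = h * e * h⁻¹ * (e : G)⁻¹ by group] at h1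
  have hD'L : ∀ d ∈ cjg g (Dr H), n.m.c₁ d = 0 := fun d hd =>
    (n.low_eq.le (mem_inf.2 ⟨hD'W hd, (mem_inf.1 (n.D'_le_meet hd)).2⟩)).2
  have hsurj : ∀ c, ∃ d ∈ cjg g (Dr H), n.m.c₀ d = c := by
    intro c
    obtain ⟨d, hd, l, hl, hdl, rfl⟩ := hD c
    refine ⟨d, hd, ?_⟩
    have hz : d * l ∈ Zr H := mem_inf.2 ⟨mul_mem (hD'W hd) hl.1, (mem_inf.1 hdl).2⟩
    have h1 := (n.m.z₀ hz).1
    rw [n.m.add₀ _ (hD'W hd) _ hl.1] at h1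
    exact CharTwo.add_eq_zero.1 h1
  have hdec : ∀ v ∈ n.Lw, ∃ d ∈ cjg g (Dr H), v * d ∈ Zr H := by
    intro v hv
    obtain ⟨d, hd, hd0⟩ := hsurj (n.m.c₀ v)
    exact ⟨d, hd, n.m.ext_mod hv.1 (hD'W hd) hd0.symm (by rw [hv.2, hD'L d hd])⟩
  -- the conjugate of the central part covers the moved one
  have hcov : cjg g (Dr H) ≤ cjg g (Zr H) := by
    intro d hd
    obtain ⟨x, hx, hxr⟩ := n.exists_W'_par (n.m.c₀ d)
    obtain ⟨w, hw, -, hw1⟩ := n.m.onto 0 1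
    obtain ⟨hcW, hcW'⟩ := mem_inf.1 (n.v.comm_mem hw hx)
    set c := x * w * x⁻¹ * w⁻¹
    have hxM := n.v.su.T_le_M (n.v.W'_le_T hx)
    have hxw := (conj_mem_iff (Mr_norm_Wr H hxM)).2 hw
    obtain ⟨r, hr⟩ := n.exists_par (n.W'_le hx)
    have hc0 : n.m.c₀ c = n.m.c₀ d := by
      rw [n.m.add₀ _ hxw _ (inv_mem hw), hxr w hw, (n.m.c_inv hw).1, hw1]
      linear_combination n.m.c₀ w * CharTwo.two_eq_zero (R := F)
    have hc1 : n.m.c₁ c = 0 := by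
      rw [n.m.add₁ _ hxw _ (inv_mem hw), (hr w hw).2, (n.m.c_inv hw).2, CharTwo.add_self_eq_zero]
    have hz : c * d ∈ Zr H := n.m.ext_mod hcW (hD'W hd) hc0 (by rw [hc1, hD'L d hd])
    have hc' : g⁻¹ * c * g ∈ n.Lw := by
      refine n.low_eq.le (mem_inf.2 ⟨mem_cjg_iff.1 hcW', ?_⟩)
      have h1 : c ∈ cjg g (cjg g (Qr H)) := n.swap_Q.ge (Wr_le_Qr H hcW)
      exact mem_cjg_iff.1 h1
    obtain ⟨d₁, hd₁, hz₁⟩ := hdec _ hc'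
    set a := g * (g⁻¹ * c * g * d₁) * g⁻¹
    have ha : a ∈ cjg g (Zr H) := Cfsg.Lib.LTP.cjg_mem hz₁
    set δ := g * d₁ * g⁻¹
    have hδ : δ ∈ Dr H := n.swap_D.le (Cfsg.Lib.LTP.cjg_mem hd₁)
    have haD : a ∈ cjg g (Dr H) := cjg_mono g n.v.Zr_le_Dr ha
    set z := c * d
    have hzQ : z ∈ Qr H := Wr_le_Qr H (mem_Zr.1 hz).1
    have e0 : a = c * δ := by simp only [a, δ]; group
    have e1 : a⁻¹ * d = δ⁻¹ * z := by rw [e0]; simp only [z]; rw [mul_inv_rev, inv_of_sq n.m.sq hcW]; group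
    have hm : a⁻¹ * d ∈ Dr H ⊓ cjg g (Dr H) :=
      mem_inf.2 ⟨e1 ▸ mul_mem (inv_mem hδ) (n.v.Zr_le_Dr hz), mul_mem (inv_mem haD) hd⟩
    rw [n.v.Dr_disjoint, mem_bot, inv_mul_eq_one] at hm
    exact hm ▸ ha
  have hDZ : Dr H ≤ Zr H := by
    have h1 := cjg_mono g⁻¹ hcov
    rwa [cjg_inv_cjg, cjg_inv_cjg] at h1
  refine ⟨le_antisymm (fun q hq => ?_) (Wr_le_Qr H), hDZ, hD'W, hsurj⟩
  obtain ⟨w, hw, r, hr, rfl⟩ := n.Q_dec hq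
  obtain ⟨l, hl, hrl⟩ := n.meet_dec hr
  exact mul_mem hw ((Subgroup.mul_mem_cancel_right _ hl.1).1 (mem_Zr.1 (hDZ hrl)).1)

theorem dec_unique {δ δ' d d' : G} (hδ : δ ∈ Dr H)
    (hδ' : δ' ∈ Dr H) (hd : d ∈ cjg g (Dr H)) (hd' : d' ∈ cjg g (Dr H)) (h : δ * d = δ' * d') :
    δ = δ' ∧ d = d' := by
  have h1 : δ'⁻¹ * δ = d' * d⁻¹ := by
    rw [eq_mul_inv_iff_mul_eq, mul_assoc, h, inv_mul_cancel_left]
  have h2 : δ'⁻¹ * δ ∈ Dr H ⊓ cjg g (Dr H) :=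
    mem_inf.2 ⟨mul_mem (inv_mem hδ') hδ, h1 ▸ mul_mem hd' (inv_mem hd)⟩
  rw [n.v.Dr_disjoint, mem_bot, inv_mul_eq_one] at h2
  exact ⟨h2.symm, mul_left_cancel (h2 ▸ h)⟩

namespace Split

variable {n} (p : n.Split)
include p

theorem Q'W' : cjg g (Qr H) = cjg g (Wr H) := by rw [p.QW]

theorem Tk_K : Tk H T = T ⊓ Kr H :=
  sup_eq_left.2 (p.QW.le.trans (le_inf n.v.su.Wr_le_T' (Wr_le_Kr H)))

theorem Tk_le_K : Tk H T ≤ Kr H := p.Tk_K.le.trans inf_le_right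

theorem R_eq : Qr H ⊓ cjg g (Qr H) = n.Lw := by
  rw [← n.low_eq]
  exact congrArg (· ⊓ cjg g (Qr H)) p.QW

theorem D_zero {d : G} (hd : d ∈ Dr H) : n.m.c₀ d = 0 ∧ n.m.c₁ d = 0 := n.m.z₀ (p.DZ hd)

theorem D'_c₁ {d : G} (hd : d ∈ cjg g (Dr H)) : n.m.c₁ d = 0 :=
  (n.low_eq.le (mem_inf.2 ⟨p.D'W hd, (mem_inf.1 (n.D'_le_meet hd)).2⟩)).2

theorem D'_zero {d : G} (hd : d ∈ cjg g (Dr H)) (h0 : n.m.c₀ d = 0) : d = 1 := by
  have h1 : d ∈ Dr H ⊓ cjg g (Dr H) :=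
    mem_inf.2 ⟨n.v.Zr_le_Dr ((n.m.zero_iff d (p.D'W hd)).1 ⟨h0, p.D'_c₁ hd⟩), hd⟩
  rwa [n.v.Dr_disjoint, mem_bot] at h1

theorem D'_inj {a b : G} (ha : a ∈ cjg g (Dr H)) (hb : b ∈ cjg g (Dr H)) (h : n.m.c₀ a = n.m.c₀ b) : a = b := by
  have h1 : a * b⁻¹ = 1 := p.D'_zero (mul_mem ha (inv_mem hb)) (by
    rw [n.m.add₀ _ (p.D'W ha) _ (inv_mem (p.D'W hb)), (n.m.c_inv (p.D'W hb)).1, h, CharTwo.add_self_eq_zero])
  exact mul_inv_eq_one.1 h1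

/-- an element of the meet is a product of the two parts -/
theorem R_dec {x : G} (hx : x ∈ Qr H ⊓ cjg g (Qr H)) :
    ∃ δ ∈ Dr H, ∃ d ∈ cjg g (Dr H), x = δ * d := by
  have hxL := p.R_eq.le hx
  obtain ⟨d, hd, hd0⟩ := p.surj (n.m.c₀ x)
  have hz : x * d ∈ Zr H := n.m.ext_mod hxL.1 (p.D'W hd) hd0.symm (by rw [hxL.2, p.D'_c₁ hd])
  refine ⟨x * d, n.v.Zr_le_Dr hz, d, hd, ?_⟩
  rw [mul_assoc, n.m.sq d (p.D'W hd), mul_one]

theorem card_D : Nat.card F ≤ Nat.card ↥(Dr H) := by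
  choose d hd hd0 using p.surj
  rw [← Cfsg.Lib.LTP.card_cjg g (Dr H)]
  exact Nat.card_le_card_of_injective (fun c => (⟨d c, hd c⟩ : ↥(cjg g (Dr H))))
    fun a b e => (hd0 a).symm.trans ((congrArg n.m.c₀ (congrArg Subtype.val e :)).trans (hd0 b))

theorem card_R : Nat.card F * Nat.card F ≤ Nat.card ↥(Qr H ⊓ cjg g (Qr H) : Subgroup G) := by
  calc Nat.card F * Nat.card F ≤ Nat.card ↥(Dr H) * Nat.card ↥(cjg g (Dr H)) := by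
        rw [Cfsg.Lib.LTP.card_cjg]
        exact Nat.mul_le_mul p.card_D p.card_D
    _ ≤ _ := by
      rw [← Nat.card_prod]
      refine Nat.card_le_card_of_injective (fun q => (⟨q.1 * q.2,
        mul_mem (mem_inf.2 ⟨(mem_Dr.1 q.1.2).1, n.Dr_le_Q' q.1.2⟩) (n.D'_le_meet q.2.2)⟩ :
          ↥(Qr H ⊓ cjg g (Qr H) : Subgroup G))) ?_
      rintro ⟨a, b⟩ ⟨a', b'⟩ e
      obtain ⟨h1, h2⟩ := n.dec_unique a.2 a'.2 b.2 b'.2 (congrArg Subtype.val e)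
      exact Prod.ext (Subtype.ext h1) (Subtype.ext h2)

end Split

/-! ### The stabiliser of the two cores -/

theorem stab_conj {x : G} (hx : x ∈ twinStab (Qr H) (cjg g (Qr H))) :
    g * x * g⁻¹ ∈ twinStab (Qr H) (cjg g (Qr H)) ∧ g⁻¹ * x * g ∈ twinStab (Qr H) (cjg g (Qr H)) := by
  obtain ⟨h1, h2⟩ := mem_inf.1 hx
  refine ⟨mem_inf.2 ⟨?_, ?_⟩, mem_inf.2 ⟨?_, ?_⟩⟩
  · rw [← n.swap_Q]
    exact Cfsg.Lib.LTP.cjg_eq_iff.1 (by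
      rw [← Cfsg.Lib.LTP.cjg_mul, show g * x * g⁻¹ * g = g * x by group, Cfsg.Lib.LTP.cjg_mul,
        Cfsg.Lib.LTP.cjg_eq_iff.2 h2])
  · exact Cfsg.Lib.LTP.cjg_eq_iff.1 (by
      rw [← Cfsg.Lib.LTP.cjg_mul, show g * x * g⁻¹ * g = g * x by group, Cfsg.Lib.LTP.cjg_mul,
        Cfsg.Lib.LTP.cjg_eq_iff.2 h1])
  · exact (n.stab_M h1 h2).2.2
  · rw [← n.cjg_inv_Q]
    exact Cfsg.Lib.LTP.cjg_eq_iff.1 (by
      rw [← Cfsg.Lib.LTP.cjg_mul, show g⁻¹ * x * g * g⁻¹ = g⁻¹ * x by group, Cfsg.Lib.LTP.cjg_mul,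
        Cfsg.Lib.LTP.cjg_eq_iff.2 h1])

theorem stab_Mr {x : G} (hx : x ∈ twinStab (Qr H) (cjg g (Qr H))) : x ∈ Mr H :=
  n.v.norm_Q_le (mem_inf.1 hx).1

theorem stab_Tk {x : G} (hx : x ∈ twinStab (Qr H) (cjg g (Qr H))) :
    x ∈ normalizer ((Tk H T : Subgroup G) : Set G) := by
  refine Cfsg.Lib.LTP.cjg_eq_iff.1 ?_
  conv_rhs => rw [← n.Tk_cores]
  conv_lhs => rw [← n.Tk_cores]
  show (Qr H ⊔ cjg g (Qr H)).map (MulAut.conj x).toMonoidHom = _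
  rw [Subgroup.map_sup]
  exact congrArg₂ (· ⊔ ·) (Cfsg.Lib.LTP.cjg_eq_iff.2 (mem_inf.1 hx).1)
    (Cfsg.Lib.LTP.cjg_eq_iff.2 (mem_inf.1 hx).2)

theorem stab_D {x d : G} (hx : x ∈ twinStab (Qr H) (cjg g (Qr H))) (hd : d ∈ Dr H) : x * d * x⁻¹ ∈ Dr H :=
  conj_mem_Dr (n.stab_Mr hx) (mem_inf.1 hx).1 hd

theorem stab_D' {x d : G} (hx : x ∈ twinStab (Qr H) (cjg g (Qr H))) (hd : d ∈ cjg g (Dr H)) :
    x * d * x⁻¹ ∈ cjg g (Dr H) :=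
  n.conj_D' (mem_inf.1 hx).1 (mem_inf.1 hx).2 hd

theorem T_le_stab : T ≤ twinStab (Qr H) (cjg g (Qr H)) :=
  le_inf (n.v.su.T_le.trans (H_norm_Qr H)) (n.v.norm_T_cjg (n.v.su.T_le.trans (H_norm_Qr H)))

/-- the joins of parameters are multiplicative modulo the meet -/
theorem Tk_sq {x : G} (hx : x ∈ Tk H T) : x * x ∈ Qr H ⊓ cjg g (Qr H) := by
  have hn : cjg g (Qr H) ≤ normalizer (Qr H : Set G) := n.v.Q'_le_T.trans (n.v.su.T_le.trans (H_norm_Qr H))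
  have hn' : Qr H ≤ normalizer (cjg g (Qr H) : Set G) :=
    n.v.su.Q_le_T.trans (n.v.norm_T_cjg (n.v.su.T_le.trans (H_norm_Qr H)))
  rw [← n.Tk_cores, sup_comm, ← SetLike.mem_coe, coe_mul_of_left_le_normalizer_right _ _ hn] at hx
  obtain ⟨b, hb, a, ha, rfl⟩ := hx
  have ha2 := inv_of_sq (fun _ h => n.sq_Q h) ha
  have hb2 := inv_of_sq (fun _ h => n.sq_Q' h) hb
  show b * a * (b * a) ∈ _
  refine mem_inf.2 ⟨?_, ?_⟩
  · have := mul_mem ((conj_mem_iff (hn hb)).2 ha) ha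
    rw [hb2] at this
    simpa [mul_assoc] using this
  · have := mul_mem hb ((conj_mem_iff (hn' ha)).2 hb)
    rw [ha2] at this
    simpa [mul_assoc] using this

theorem Tk_comm {x y : G} (hx : x ∈ Tk H T) (hy : y ∈ Tk H T) :
    x * y * x⁻¹ * y⁻¹ ∈ Qr H ⊓ cjg g (Qr H) := by
  have e : x * y * x⁻¹ * y⁻¹ = x * y * (x * y) * (y⁻¹ * (x⁻¹ * x⁻¹) * y) * (y⁻¹ * y⁻¹) := by group
  rw [e]
  have h2 := inv_mem (n.Tk_sq hx)
  rw [mul_inv_rev] at h2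
  have h3 := inv_mem (n.Tk_sq hy)
  rw [mul_inv_rev] at h3
  refine mul_mem (mul_mem (n.Tk_sq (mul_mem hx hy)) ?_) h3
  rw [n.meet_comm h2 (inv_mem hy), inv_mul_cancel_right]
  exact h2

end NatCtx

end Cfsg.Lib.PushPair
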